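import Mathlib
import Cfsg.Agent.LThreeCo1.Ev
import Cfsg.Agent.H61.K6.CritD_m3
import Cfsg.Agent.H49.CoThreeThree
import Cfsg.Agent.PreUniqCo.TrWord
import Cfsg.Agent.KFacts.Co3.Sheet
import Cfsg.Agent.KFacts.CoTwo.Main
import Cfsg.Agent.ConwayFacts.AutCo1
import Cfsg.Agent.H332.EB.McLAut
import Cfsg.Agent.H143.HT.FiYY
import Cfsg.Agent.CpAutHN.Second
import Cfsg.Agent.H404.K6.SporON
import Cfsg.Agent.H436.HeFive_m3
import Cfsg.Agent.H404.K6.Sieve_m3
import Cfsg.Agent.H734.K6.FiFive_mg_m3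
import Cfsg.Agent.H687.HeRow
import Cfsg.Agent.H492.IMHe
import Cfsg.Agent.H166.K6.PsuDiag_m3
import Cfsg.Agent.H904.SV.Th
import Cfsg.Agent.H436.B7
import Cfsg.Agent.H49.McLFive
import Cfsg.Agent.H51.Tools
import Cfsg.Agent.BpSpor.CoThreeFive
import Cfsg.Agent.LThreeCo1.QEv
import Cfsg.Agent.H800.Sp.Suz
import Cfsg.Agent.H997.OutSuz
import Cfsg.Agent.KFacts.SuzOut
import Cfsg.Agent.H573.Spor.McLFive
import Cfsg.Agent.Co2Type.CardCo2
import Cfsg.Agent.H478.RadTools_m3
import Cfsg.Agent.H628.Sq.Tits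
import Cfsg.Agent.H631.TitsD.Data
import Cfsg.Agent.H235.TitsRow
import Cfsg.Agent.H561.Eight.Blk
import Cfsg.Agent.H820.K6.ASix
import Cfsg.Agent.H968.TwoM22Fact
import Cfsg.Agent.H337.JankoOfIso
import Cfsg.Agent.S5563
import Cfsg.Agent.KFacts.J4.SheetJ4
import Cfsg.Agent.H686.Odd.McLFive
import Cfsg.Prelude.Def_BlockRank
import Cfsg.Agent.H999.ONRat
import Cfsg.Agent.H535.Ore.ON
import Cfsg.Agent.H34.SporTool2_m3
import Cfsg.Agent.S2078
import Cfsg.Agent.FastGrp
import Cfsg.Agent.Prune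
set_option linter.all false

section
prune_inst 0x7ffcfcf8afa8bfffffff7e3ffedddff991ecefffefdff943ffe9e19f8f9f0b67abc5fbaf8de418fe9ed6e23410b87b43f9ffeeffe06bdc7ffffd5ff41ffbee1ff7ff350511d0b4241f766fff9bf1778e6f3ffffffffffffffffffffffffffffffffffbfeffff

-- part: H774/SP/Rows_mg
section
prune_inst 0x102404000000000000000200004040100000000000000040800000000000020000000024000002000000000001006000000000400000000000000000040000000082004081a000000000000080010000000000000000000000000000000000004010000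
set_option linter.all false
open scoped Cfsg.Agent.FastGrp

/-- decoders of the packed data (elaboration time only) -/
private noncomputable def pk61d (b S i : Nat) : Nat := Nat.mod (Nat.shiftRight S (Nat.mul b i)) (Nat.shiftLeft (nat_lit 1) b)
private noncomputable def pk61c {α : Type} (t : Nat) (a : α) (f : Nat → α) : α := Nat.rec a (fun k _ => f k) t
private noncomputable def pk61f {α : Type} (t : Nat) (f : Nat → α) : α := Nat.rec (f Nat.zero) (fun k _ => f (Nat.succ k)) t
private noncomputable def pk61z (t : Nat) : Int := pk61f t fun t =>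
  pk61c (Nat.mod t (nat_lit 2)) (Int.ofNat (Nat.div t (nat_lit 2))) fun _ => Int.negSucc (Nat.div t (nat_lit 2))
private noncomputable def pk61l {α : Type} (f : Nat → α) (s e : Nat) (tl : List α) : List α :=
  pk61f e fun e => Nat.rec tl (fun k ih => List.cons (pk61f (Nat.sub e (Nat.succ k)) f) ih) (Nat.sub e s)

-- part: H774/SP/Mat
section
/-!
# Elements of `McL` for the prime 3 (helper774)

`R1`, `R4` of order 3 and traces `-3`, `6`; `R2`, `R5` involutions commuting with them; `R3`, `R6` of order 3 commuting with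
them and inverted by the involutions; `R7` of order 9.  Generated by a script; checked by the kernel.
-/

set_option autoImplicit false
set_option maxRecDepth 20000

namespace Cfsg.Agent.H774.SP.Mat

open Cfsg.Agent.LThreeCo1.Ev Cfsg.Agent.SporadicStructure.Co0Matrix Cfsg.Agent.CoOneType.CoEval

/-- matrix (times 8) -/
noncomputable def R1 : List (List ℤ) :=
  (by
  refine (?fq9001 : ((pk61l (fun i1 => (pk61l (fun i2 => (pk61z (pk61d (nat_lit 4) 
    (nat_lit 0xa221122122622212212222162521622122155212262222112251122122125262215222612221152125122262262225112521122622122212212525612226152622125512212222112221125622122212565222112221655152122212212222612221122652152265212222112226122125152212512222616112211211a111211211112516122112662116211261112216622612112111266211112211122612112611211266612222561221521222122625221111122112612161216211662211122162162161261216112225261251221222622122521111622162112616211211162222216221221225625125221122211221221225152622526122266221221222152152251122516226251222122122521161122112115111211211112a)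 i2))) (Nat.mul (nat_lit 24) i1) (Nat.mul (nat_lit 24) (Nat.succ i1)) List.nil)) (nat_lit 0) (nat_lit 24) List.nil) : List (List ℤ))
    = ?xq9001 → (List (List ℤ))) ?hq9001; (case hq9001 => (set_option maxRecDepth 1000000 in conv => lhs; reduce)); intro _; exact ?xq9001 : List (List ℤ))

theorem ok1 : Ok R1 (tr R1) := Cfsg.Agent.Co0Q.ok_of (by decide +kernel)

/-- matrix (times 8) -/
noncomputable def R2 : List (List ℤ) :=
  (by
  refine (?fq9002 : ((pk61l (fun i1 => (pk61l (fun i2 => (pk61z (pk61d (nat_lit 4) 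
    (nat_lit 0xc430) (pk61d (nat_lit 2) 
    (nat_lit 0xca008800120220a922a584948500c400210187004400210120a62296485820aa216a4464206911a648a810a6126684a88d004400210120a5215988a885004c002101209612a948a42099129a8468206a12698858106522aa886410aa119a8894205621aa84984a00880032021099226a4898850044002301205a225688a4106a229944a8109a21a58868850044002103) i2)))) (Nat.mul (nat_lit 24) i1) (Nat.mul (nat_lit 24) (Nat.succ i1)) List.nil)) (nat_lit 0) (nat_lit 24) List.nil) : List (List ℤ))
    = ?xq9002 → (List (List ℤ))) ?hq9002; (case hq9002 => (set_option maxRecDepth 1000000 in conv => lhs; reduce)); intro _; exact ?xq9002 : List (List ℤ))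

theorem ok2 : Ok R2 (tr R2) := Cfsg.Agent.Co0Q.ok_of (by decide +kernel)

/-- matrix (times 8) -/
noncomputable def R3 : List (List ℤ) :=
  (by
  refine (?fq9003 : ((pk61l (fun i1 => (pk61l (fun i2 => (pk61z (pk61d (nat_lit 4) 
    (nat_lit 0xc430) (pk61d (nat_lit 2) 
    (nat_lit 0xc000884080a28000448040d18000c48040512a95222a250425a62216290880004480407119a921262a041aa6122616082a6a212525082a5a22161a0480004c80405116aa22291904169a211a2608195622292a082666112a2a04400088c080a280004480c0511a69121a2908269912252a082569222a16082aa521191a0829aa12192604299a112a1908800044804053) i2)))) (Nat.mul (nat_lit 24) i1) (Nat.mul (nat_lit 24) (Nat.succ i1)) List.nil)) (nat_lit 0) (nat_lit 24) List.nil) : List (List ℤ))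
    = ?xq9003 → (List (List ℤ))) ?hq9003; (case hq9003 => (set_option maxRecDepth 1000000 in conv => lhs; reduce)); intro _; exact ?xq9003 : List (List ℤ))

theorem ok3 : Ok R3 (tr R3) := Cfsg.Agent.Co0Q.ok_of (by decide +kernel)

/-- matrix (times 8) -/
noncomputable def R4 : List (List ℤ) :=
  (by
  refine (?fq9004 : ((pk61l (fun i1 => (pk61l (fun i2 => (pk61z (pk61d (nat_lit 4) 
    (nat_lit 0xa2212212122222221622121622212212125225251122626116621126211116612211212222262212122252556122121116126121216661112211212211126626211111162216212222212215652252221122126122265262152225221122121122212262122522521125126122512562122252221122621111121621266111612211262222562212625222221125121122212265125222226152121111121121211166112266262222212512622525226122121122515212122222226122156125212212152222226125621161121121211111112a11212511621121261611162261212222215212622222521152621122262215122522221122651125262512122222221152126125212262622222251122151161121121211111112511212a)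 i2))) (Nat.mul (nat_lit 24) i1) (Nat.mul (nat_lit 24) (Nat.succ i1)) List.nil)) (nat_lit 0) (nat_lit 24) List.nil) : List (List ℤ))
    = ?xq9004 → (List (List ℤ))) ?hq9004; (case hq9004 => (set_option maxRecDepth 1000000 in conv => lhs; reduce)); intro _; exact ?xq9004 : List (List ℤ))

theorem ok4 : Ok R4 (tr R4) := Cfsg.Agent.Co0Q.ok_of (by decide +kernel)

/-- matrix (times 8) -/
noncomputable def R5 : List (List ℤ) :=
  (by
  refine (?fq9005 : ((pk61l (fun i1 => (pk61l (fun i2 => (pk61z (pk61d (nat_lit 4) 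
    (nat_lit 0xc430) (pk61d (nat_lit 2) 
    (nat_lit 0xe2080808004291040c04008108516162aa2893040404008104a1a252aa1404a162a15a28910c040400810452a2a1a624049291a26a1808a26191a618b1040404008104a25262a5280462a1929928086292619a189104040c0081089192929628089262a299140892a251692808a191a1a92408a2a16256246208080800c2086252926a240861a2a26518910404040083) i2)))) (Nat.mul (nat_lit 24) i1) (Nat.mul (nat_lit 24) (Nat.succ i1)) List.nil)) (nat_lit 0) (nat_lit 24) List.nil) : List (List ℤ))
    = ?xq9005 → (List (List ℤ))) ?hq9005; (case hq9005 => (set_option maxRecDepth 1000000 in conv => lhs; reduce)); intro _; exact ?xq9005 : List (List ℤ))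

theorem ok5 : Ok R5 (tr R5) := Cfsg.Agent.Co0Q.ok_of (by decide +kernel)

/-- matrix (times 8) -/
noncomputable def R6 : List (List ℤ) :=
  (by
  refine (?fq9006 : ((pk61l (fun i1 => (pk61l (fun i2 => (pk61z (pk61d (nat_lit 4) 
    (nat_lit 0xc430) (pk61d (nat_lit 2) 
    (nat_lit 0xc0a88800000680544c00000919012166aaa01a02119a9a902a02216a56602901229a59a0805c44000009250221aaa5908054c40000091a022296a560250212a69a6029021259a6a0260221956aa02a0212666990160112aa66a080d4440000092a0122a5969040a88800000e2a0111a9a9602601225aaa501602226999a0807444000009190222a96a5080544400000b) i2)))) (Nat.mul (nat_lit 24) i1) (Nat.mul (nat_lit 24) (Nat.succ i1)) List.nil)) (nat_lit 0) (nat_lit 24) List.nil) : List (List ℤ))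
    = ?xq9006 → (List (List ℤ))) ?hq9006; (case hq9006 => (set_option maxRecDepth 1000000 in conv => lhs; reduce)); intro _; exact ?xq9006 : List (List ℤ))

theorem ok6 : Ok R6 (tr R6) := Cfsg.Agent.Co0Q.ok_of (by decide +kernel)

/-- matrix (times 8) -/
noncomputable def R7 : List (List ℤ) :=
  (by
  refine (?fq9007 : ((pk61l (fun i1 => (pk61l (fun i2 => (pk61z (pk61d (nat_lit 4) 
    (nat_lit 0xc430) (pk61d (nat_lit 2) 
    (nat_lit 0xc188202020022821468a86642422898a85948244301010011812458a8a9828128a468658438820202002242186864a98824c1010100124124a4a4aa428224986496882441030100182c41010100118228a894a542811898946a8182189468aa428214a498998242285498a6882441010300114118a8a89682812868589a414224a8586a81822864a45a8824410101003) i2)))) (Nat.mul (nat_lit 24) i1) (Nat.mul (nat_lit 24) (Nat.succ i1)) List.nil)) (nat_lit 0) (nat_lit 24) List.nil) : List (List ℤ))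
    = ?xq9007 → (List (List ℤ))) ?hq9007; (case hq9007 => (set_option maxRecDepth 1000000 in conv => lhs; reduce)); intro _; exact ?xq9007 : List (List ℤ))

theorem ok7 : Ok R7 (tr R7) := Cfsg.Agent.Co0Q.ok_of (by decide +kernel)

/-- the matrices -/
noncomputable def M : ℕ → List (List ℤ)
  | 1 => R1
  | 2 => R2
  | 3 => R3
  | 4 => R4
  | 5 => R5
  | 6 => R6
  | 7 => R7
  | _ => R1

theorem okM (i : ℕ) : Ok (M i) (tr (M i)) := by
  unfold M
  split
  · exact ok1
  · exact ok2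
  · exact ok3
  · exact ok4
  · exact ok5
  · exact ok6
  · exact ok7
  · exact ok1

end Cfsg.Agent.H774.SP.Mat
end

-- part: H774/SP/Conway
section
/-!
# S4876, `p = 3`: the rows of the Conway groups and of `McL`, common part (helper774)

One computation in `McL`: elements of order 3 and of traces `-3` and `6` on the lattice, each commuting with an element of
order 3 and an element inverting it, and an element of order 9.  `row_of_hom` : a finite group `X` containing `McL`, with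
a function invariant under `Aut X` that extends the absolute value of the trace.
-/

set_option autoImplicit false
set_option maxRecDepth 20000

namespace Cfsg.Agent.H774.SP.Conway

open Cfsg Cfsg.Agent.SporadicA Cfsg.Agent.SporadicStructure.Co0Matrix Cfsg.Agent.CoOneType.CoEval
open Cfsg.Agent.CoOneType.CoFast Cfsg.Agent.LThreeCo1.Ev
open Cfsg.Agent.H49.Stab Cfsg.Agent.H774.SP.Mat
open Cfsg.Agent.H61.K6 Cfsg.Agent.H121.K6
open Cfsg.Agent.Co2Type.Mono (tr8 tr8_conj)
open Cfsg.Agent.PreUniqCo.TrWord (trW tr8_word)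

universe u

/-- the coordinates of `leechV` -/
def vL : List ℤ := [-1, -1, -1, -1, -1, -1, -1, -1, -1, -1, -1, -1, -1, -1, -1, -1, -1, -1, -1, -1, -1, -1, -1, -5]

theorem vecV_eq : ((Spor.leechV : leechLattice) : GolayPt → ℤ) = vec vL := by
  show Spor.vecV = vec vL
  funext p
  revert p
  decide +kernel

/-- the coordinates of `leechU` -/
def uL : List ℤ := [4, 0, 0, 0, 0, 0, 0, 0, 0, 0, 0, 0, 0, 0, 0, 0, 0, 0, 0, 0, 0, 0, 0, 4]

theorem vecU_eq : ((Spor.leechU : leechLattice) : GolayPt → ℤ) = vec uL := by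
  show Spor.vecU = vec uL
  funext p
  revert p
  decide +kernel

theorem k_fixV : (apZ R1 vL = vL ∧ apZ R2 vL = vL ∧ apZ R3 vL = vL) ∧ (apZ R4 vL = vL ∧ apZ R5 vL = vL ∧
    apZ R6 vL = vL) ∧ apZ R7 vL = vL := by
  decide +kernel

theorem k_fixU : (apZ R1 uL = uL ∧ apZ R2 uL = uL ∧ apZ R3 uL = uL) ∧ (apZ R4 uL = uL ∧ apZ R5 uL = uL ∧
    apZ R6 uL = uL) ∧ apZ R7 uL = uL := by
  decide +kernel

theorem fixV (i : ℕ) : (el okM i).1 Spor.leechV = Spor.leechV := by
  apply Subtype.ext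
  refine (Rep.apply (rep_mk (okM i)) (l := vL) (by decide) vecV_eq).trans ?_
  rw [← apZ_eq, vecV_eq]
  congr 1
  obtain ⟨⟨h1, h2, h3⟩, ⟨h4, h5, h6⟩, h7⟩ := k_fixV
  unfold M
  split <;> assumption

theorem fixU (i : ℕ) : (el okM i).1 Spor.leechU = Spor.leechU := by
  apply Subtype.ext
  refine (Rep.apply (rep_mk (okM i)) (l := uL) (by decide) vecU_eq).trans ?_
  rw [← apZ_eq, vecU_eq]
  congr 1
  obtain ⟨⟨h1, h2, h3⟩, ⟨h4, h5, h6⟩, h7⟩ := k_fixU
  unfold M
  split <;> assumption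

/-- the elements of `McL` -/
noncomputable def me (i : ℕ) : Spor.McL :=
  ⟨(el okM i).1, ⟨(el okM i).2, fixV i⟩, fixU i⟩

/-- the elements of `McL` and their inverses -/
noncomputable def mx (i : ℕ) : Spor.McL := if i < 32 then me i else (me (i - 32))⁻¹

/-- the inclusion -/
noncomputable def incM : Spor.McL →* Co0 := Subgroup.inclusion (inf_le_left.trans inf_le_left)

theorem incM_injective : Function.Injective incM := Subgroup.inclusion_injective _

theorem incM_mx (i : ℕ) : incM (mx i) = xe okM i := by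
  unfold mx xe
  split_ifs
  · rfl
  · rw [map_inv]; rfl

theorem incM_word (w : List ℕ) : incM (w.map mx).prod = (w.map (xe okM)).prod := by
  rw [map_list_prod, List.map_map]
  congr 1
  exact List.map_congr_left fun i _ => incM_mx i

theorem word_eq {w w' : List ℕ} (h : eqB (xM M) w w' = true) : (w.map mx).prod = (w'.map mx).prod := by
  apply incM_injective
  rw [incM_word, incM_word]
  exact eq_of_eqB (xrep okM) h

theorem word_tr (w : List ℕ) : tr8 (incM (w.map mx).prod) = trW (xM M) w := by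
  rw [incM_word]
  exact tr8_word (xrep okM) w

theorem mx_lt {i : ℕ} (h : i < 32) : mx i = me i := if_pos h
theorem mx_inv {i : ℕ} (h : i < 32) : mx (i + 32) = (me i)⁻¹ := by
  unfold mx
  rw [if_neg (by omega), Nat.add_sub_cancel]

/-! ### the relations -/

theorem k1 : eqB (xM M) [1, 1, 1] [] = true := by delta eqB; rw [Cfsg.Agent.Co0Q.foldZ_eq]; decide +kernel
theorem k2 : eqB (xM M) [3, 1] [1, 3] = true := by delta eqB; rw [Cfsg.Agent.Co0Q.foldZ_eq]; decide +kernel
theorem k3 : eqB (xM M) [2, 1] [1, 2] = true := by delta eqB; rw [Cfsg.Agent.Co0Q.foldZ_eq]; decide +kernel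
theorem k4 : eqB (xM M) [3, 3, 3] [] = true := by delta eqB; rw [Cfsg.Agent.Co0Q.foldZ_eq]; decide +kernel
theorem k5 : eqB (xM M) [2, 3] [35, 2] = true := by delta eqB; rw [Cfsg.Agent.Co0Q.foldZ_eq]; decide +kernel
theorem k6 : eqB (xM M) [4, 4, 4] [] = true := by delta eqB; rw [Cfsg.Agent.Co0Q.foldZ_eq]; decide +kernel
theorem k7 : eqB (xM M) [6, 4] [4, 6] = true := by delta eqB; rw [Cfsg.Agent.Co0Q.foldZ_eq]; decide +kernel
theorem k8 : eqB (xM M) [5, 4] [4, 5] = true := by delta eqB; rw [Cfsg.Agent.Co0Q.foldZ_eq]; decide +kernel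
theorem k9 : eqB (xM M) [6, 6, 6] [] = true := by delta eqB; rw [Cfsg.Agent.Co0Q.foldZ_eq]; decide +kernel
theorem k10 : eqB (xM M) [5, 6] [38, 5] = true := by delta eqB; rw [Cfsg.Agent.Co0Q.foldZ_eq]; decide +kernel
theorem k11 : eqB (xM M) [7, 7, 7, 7, 7, 7, 7, 7, 7] [] = true := by delta eqB; rw [Cfsg.Agent.Co0Q.foldZ_eq]; decide +kernel

theorem k_tr : (trW (xM M) [1] = -24 ∧ trW (xM M) [3] = 48 ∧ trW (xM M) [4] = 48) ∧ trW (xM M) [6] = 48 ∧
    trW (xM M) [7, 7, 7] ≠ 192 := by delta trW; rw [Cfsg.Agent.Co0Q.foldZ_eq]; decide +kernel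

theorem cube {i : ℕ} (hi : i < 32) (h : eqB (xM M) [i, i, i] [] = true) : me i ^ 3 = 1 := by
  have h1 := word_eq h
  simp only [List.map_cons, List.map_nil, List.prod_cons, List.prod_nil, mul_one, mx_lt hi] at h1
  rw [pow_succ, pow_two, mul_assoc]
  exact h1

theorem comm {i j : ℕ} (hi : i < 32) (hj : j < 32) (h : eqB (xM M) [i, j] [j, i] = true) :
    me i * me j = me j * me i := by
  have h1 := word_eq h
  simp only [List.map_cons, List.map_nil, List.prod_cons, List.prod_nil, mul_one, mx_lt hi, mx_lt hj] at h1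
  exact h1

theorem inv_of {i j : ℕ} (hi : i < 32) (hj : j < 32) (h : eqB (xM M) [i, j] [j + 32, i] = true) :
    me i * me j * (me i)⁻¹ = (me j)⁻¹ := by
  have h1 := word_eq h
  simp only [List.map_cons, List.map_nil, List.prod_cons, List.prod_nil, mul_one, mx_lt hi, mx_lt hj, mx_inv hj] at h1
  rw [h1, mul_inv_cancel_right]

theorem tr_me {i : ℕ} (hi : i < 32) : tr8 (incM (me i)) = trW (xM M) [i] := by
  have h1 := word_tr [i]
  simp only [List.map_cons, List.map_nil, List.prod_cons, List.prod_nil, mul_one, mx_lt hi] at h1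
  exact h1

theorem tr_one : tr8 (incM (1 : Spor.McL)) = 192 := by
  rw [map_one, Cfsg.Agent.SigZeroCo2.Lin.tr8_one]

theorem ne_one {s : Spor.McL} (h : tr8 (incM s) ≠ 192) : s ≠ 1 := by
  rintro rfl
  exact h tr_one

theorem nine : me 7 ^ 9 = 1 := by
  have h1 := word_eq k11
  simp only [List.map_cons, List.map_nil, List.prod_cons, List.prod_nil, mul_one, mx_lt (i := 7) (by norm_num)] at h1
  rw [← h1]
  simp only [pow_succ, pow_zero, one_mul, mul_assoc]

theorem three_ne : me 7 ^ 3 ≠ 1 := by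
  apply ne_one
  have h1 := word_tr [7, 7, 7]
  simp only [List.map_cons, List.map_nil, List.prod_cons, List.prod_nil, mul_one, mx_lt (i := 7) (by norm_num)] at h1
  rw [pow_succ, pow_two, mul_assoc, h1]
  exact k_tr.2.2

/-! ### the criterion -/

/-- **The common row.** -/
theorem row_of_hom {X : Type} [Group X] [Finite X] (φ : Spor.McL →* X) (hφ : Function.Injective φ) (T : X → ℕ)
    (haut : ∀ (σ : X ≃* X) (x : X), T (σ x) = T x) (hT : ∀ s, T (φ s) = (tr8 (incM s)).natAbs) : KRow.{u, 0} 3 X := by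
  classical
  have h3 : Fact (Nat.Prime 3) := ⟨Nat.prime_three⟩
  have hne : ∀ {s : Spor.McL}, s ≠ 1 → φ s ≠ 1 := fun {s} h h1 => h (hφ (by rw [h1, map_one]))
  have t1 : T (φ (me 1)) = 24 := by rw [hT, tr_me (by norm_num), k_tr.1.1]; rfl
  have t4 : T (φ (me 4)) = 48 := by rw [hT, tr_me (by norm_num), k_tr.1.2.2]; rfl
  have n1 : me 1 ≠ 1 := ne_one (by rw [tr_me (by norm_num), k_tr.1.1]; norm_num)
  have n3 : me 3 ≠ 1 := ne_one (by rw [tr_me (by norm_num), k_tr.1.2.1]; norm_num)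
  have n4 : me 4 ≠ 1 := ne_one (by rw [tr_me (by norm_num), k_tr.1.2.2]; norm_num)
  have n6 : me 6 ≠ 1 := ne_one (by rw [tr_me (by norm_num), k_tr.2.1]; norm_num)
  have c1 : me 1 ^ 3 = 1 := cube (by norm_num) k1
  have c3 : me 3 ^ 3 = 1 := cube (by norm_num) k4
  have c4 : me 4 ^ 3 = 1 := cube (by norm_num) k6
  have c6 : me 6 ^ 3 = 1 := cube (by norm_num) k9
  have i3 := inv_of (i := 2) (j := 3) (by norm_num) (by norm_num) k5
  have i6 := inv_of (i := 5) (j := 6) (by norm_num) (by norm_num) k10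
  have o1 : orderOf (φ (me 1)) = 3 := orderOf_eq_prime (by rw [← map_pow, c1, map_one]) (hne n1)
  have o4 : orderOf (φ (me 4)) = 3 := orderOf_eq_prime (by rw [← map_pow, c4, map_one]) (hne n4)
  have o7 : orderOf (φ (me 7)) = 9 := by
    have h1 : ¬ φ (me 7) ^ 3 ^ 1 = 1 := by
      rw [pow_one, ← map_pow]
      exact hne three_ne
    have h2 : φ (me 7) ^ 3 ^ (1 + 1) = 1 := by
      rw [← map_pow, show 3 ^ (1 + 1) = 9 by norm_num, nine, map_one]
    have h4 := orderOf_eq_prime_pow h1 h2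
    rw [h4]
    norm_num
  have w1 : wt 3 (φ (me 1)) = 2 := by
    refine wt_eq_two_of_inv (by norm_num) (by norm_num) (k := 1) (y := φ (me 3)) (n := φ (me 2)) ?_ ?_ ?_ (hne n3) ?_
    · rw [← map_mul, comm (by norm_num) (by norm_num) k2, map_mul]
    · rw [← map_mul, comm (by norm_num) (by norm_num) k3, map_mul]
    · rw [pow_one, ← map_pow, c3, map_one]
    · rw [← map_mul, ← map_inv, ← map_mul, i3, map_inv]
  have w4 : wt 3 (φ (me 4)) = 2 := by
    refine wt_eq_two_of_inv (by norm_num) (by norm_num) (k := 1) (y := φ (me 6)) (n := φ (me 5)) ?_ ?_ ?_ (hne n6) ?_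
    · rw [← map_mul, comm (by norm_num) (by norm_num) k7, map_mul]
    · rw [← map_mul, comm (by norm_num) (by norm_num) k8, map_mul]
    · rw [pow_one, ← map_pow, c6, map_one]
    · rw [← map_mul, ← map_inv, ← map_mul, i6, map_inv]
  have hX : ¬ HasNormalPComplement 3 X := by
    refine not_compl_of_inv (by norm_num) (by norm_num) (k := 1) (y := φ (me 3)) (n := φ (me 2)) ?_ (hne n3) ?_
    · rw [pow_one, ← map_pow, c3, map_one]
    · rw [← map_mul, ← map_inv, ← map_mul, i3, map_inv]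
  have e14 : φ (me 1) ≠ φ (me 4) := fun h => by rw [h, t4] at t1; norm_num at t1
  have e17 : φ (me 1) ≠ φ (me 7) := fun h => by rw [h, o7] at o1; norm_num at o1
  have e47 : φ (me 4) ≠ φ (me 7) := fun h => by rw [h, o7] at o4; norm_num at o4
  refine KRow.of_wt hX {φ (me 1), φ (me 4), φ (me 7)} ?_ ?_ ?_
  · intro x hx
    simp only [Finset.mem_insert, Finset.mem_singleton] at hx
    rcases hx with rfl | rfl | rfl
    · exact ⟨⟨1, by rw [o1]; norm_num⟩, hne n1⟩
    · exact ⟨⟨1, by rw [o4]; norm_num⟩, hne n4⟩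
    · refine ⟨⟨2, by rw [o7]; norm_num⟩, fun h => ?_⟩
      rw [h, orderOf_one] at o7
      norm_num at o7
  · intro x hx y hy σ h
    have h1 : T x = T y := by rw [← h, haut]
    have h2 : orderOf x = orderOf y := by rw [← h, MulEquiv.orderOf_eq]
    simp only [Finset.mem_insert, Finset.mem_singleton] at hx hy
    rcases hx with rfl | rfl | rfl <;> rcases hy with rfl | rfl | rfl
    · rfl
    · rw [t1, t4] at h1; norm_num at h1
    · rw [o1, o7] at h2; norm_num at h2
    · rw [t1, t4] at h1; norm_num at h1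
    · rfl
    · rw [o4, o7] at h2; norm_num at h2
    · rw [o1, o7] at h2; norm_num at h2
    · rw [o4, o7] at h2; norm_num at h2
    · rfl
  · rw [Finset.sum_insert (by simp [e14, e17]), Finset.sum_insert (by simp [e47]), Finset.sum_singleton, w1, w4]
    have := one_le_wt (p := 3) (φ (me 7))
    omega

/-- invariance from conjugation in `Co0` -/
theorem tr_conj (g h : Co0) : (tr8 (g * h * g⁻¹)).natAbs = (tr8 h).natAbs := by rw [tr8_conj]

end Cfsg.Agent.H774.SP.Conway
end

-- part: H774/SP/Rows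
section
/-!
# S4876, `p = 3`: the rows `McL`, `Co3`, `Co2`, `Co1` (helper774)
-/

set_option autoImplicit false

namespace Cfsg.Agent.H774.SP.Rows

open Cfsg Cfsg.Agent.SporadicA Cfsg.Agent.H774.SP.Conway Cfsg.Agent.H61.K6
open Cfsg.Agent.Co2Type.Mono (tr8 tr8_conj)

universe u

instance finite_Co3 : Finite Spor.Co3 :=
  Finite.of_injective (Subgroup.inclusion (inf_le_left : Spor.Co3 ≤ Co0)) (Subgroup.inclusion_injective _)

instance finite_Co2 : Finite Spor.Co2 :=
  Finite.of_injective (Subgroup.inclusion (inf_le_left : Spor.Co2 ≤ Co0)) (Subgroup.inclusion_injective _)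

instance finite_McL : Finite Spor.McL := Finite.of_injective incM incM_injective

/-! ### McL -/

theorem krow_mcl : KRow.{u, 0} 3 Spor.McL := by
  refine row_of_hom (MonoidHom.id _) Function.injective_id (fun s => (tr8 (incM s)).natAbs) (fun σ s => ?_)
    (fun s => rfl)
  obtain ⟨z, hz, -, -, h⟩ := Cfsg.Agent.H332.EB.McLAut.exists_conj σ
  have h1 : incM (σ s) = (⟨z, hz⟩ : Co0) * incM s * (⟨z, hz⟩ : Co0)⁻¹ := Subtype.ext (h s)
  show (tr8 (incM (σ s))).natAbs = (tr8 (incM s)).natAbs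
  rw [h1, tr_conj]

/-- **The row `McL`, `p = 3`.** -/
theorem row_mcl {X : Type*} [Group X] (h : Spor.IsoMcL X) : KRow.{u} 3 X := by
  obtain ⟨e⟩ := h
  exact KRow.congr e.symm krow_mcl

/-! ### Co3 -/

theorem krow_co3 : KRow.{u, 0} 3 Spor.Co3 := by
  refine row_of_hom (Subgroup.inclusion (inf_le_left : Spor.McL ≤ Spor.Co3)) (Subgroup.inclusion_injective _)
    (fun s => (tr8 (Subgroup.inclusion (inf_le_left : Spor.Co3 ≤ Co0) s)).natAbs) (fun σ s => ?_) (fun s => rfl)
  obtain ⟨k, hk⟩ := Cfsg.Agent.KFacts.Co3.Sheet.inner_of Cfsg.Agent.SporRec.Co3.Model.equivCo3 σ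
  have h1 : σ s = k * s * k⁻¹ := by rw [hk]; rfl
  show (tr8 (Subgroup.inclusion _ (σ s))).natAbs = (tr8 (Subgroup.inclusion _ s)).natAbs
  rw [h1, map_mul, map_mul, map_inv, tr_conj]

/-- **The row `Co3`, `p = 3`.** -/
theorem row_co3 {X : Type*} [Group X] (h : Spor.IsoCo3 X) : KRow.{u} 3 X := by
  obtain ⟨e⟩ := h
  exact KRow.congr e.symm krow_co3

/-! ### Co2 -/

theorem mcl_le_co2 : Spor.McL ≤ Spor.Co2 := fun _ h => ⟨h.1.1, h.2⟩

theorem krow_co2 : KRow.{u, 0} 3 Spor.Co2 := by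
  refine row_of_hom (Subgroup.inclusion mcl_le_co2) (Subgroup.inclusion_injective _)
    (fun s => (tr8 (Subgroup.inclusion (inf_le_left : Spor.Co2 ≤ Co0) s)).natAbs) (fun σ s => ?_) (fun s => rfl)
  have h0 : (σ : MulAut Spor.Co2) ∈ (MulAut.conj : Spor.Co2 →* MulAut Spor.Co2).range := by
    rw [Cfsg.Agent.KFacts.CoTwo.Main.range_conj]
    exact Subgroup.mem_top _
  obtain ⟨k, hk⟩ := h0
  have h1 : σ s = k * s * k⁻¹ := by rw [← hk]; rfl
  show (tr8 (Subgroup.inclusion _ (σ s))).natAbs = (tr8 (Subgroup.inclusion _ s)).natAbs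
  rw [h1, map_mul, map_mul, map_inv, tr_conj]

/-- **The row `Co2`, `p = 3`.** -/
theorem row_co2 {X : Type*} [Group X] (h : Spor.IsoCo2 X) : KRow.{u} 3 X := by
  obtain ⟨e⟩ := h
  exact KRow.congr e.symm krow_co2

/-! ### Co1 -/

theorem neg_smul (v : leechLattice) : (Co0Basic.negCo0 • v : leechLattice) = -v := Co0Basic.negCo0_apply v

theorem tr8_neg_mul (g : Co0) : tr8 (Co0Basic.negCo0 * g) = - tr8 g := by
  unfold tr8
  rw [← Finset.sum_neg_distrib]
  refine Finset.sum_congr rfl fun i _ => ?_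
  rw [mul_smul, neg_smul]
  rfl

/-- the absolute value of the trace, on `Co1` -/
noncomputable def T1 (x : Spor.Co1) : ℕ := (tr8 (Quotient.out x)).natAbs

theorem T1_mk (g : Co0) : T1 (g : Spor.Co1) = (tr8 g).natAbs := by
  unfold T1
  have h1 : ((Quotient.out (g : Spor.Co1) : Co0) : Spor.Co1) = (g : Spor.Co1) := QuotientGroup.out_eq' _
  have h2 : (Quotient.out (g : Spor.Co1) : Co0) * g⁻¹ ∈ Subgroup.center Co0 := by
    rw [← QuotientGroup.eq_one_iff, QuotientGroup.mk_mul, QuotientGroup.mk_inv, h1, mul_inv_cancel]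
  rcases Co0Basic.eq_one_or_neg_of_mem_center h2 with h | h
  · rw [mul_inv_eq_one.1 h]
  · rw [mul_inv_eq_iff_eq_mul.1 h, tr8_neg_mul, Int.natAbs_neg]

/-- the map from `McL` to `Co1` -/
noncomputable def incOne : Spor.McL →* Spor.Co1 := (QuotientGroup.mk' (Subgroup.center Co0)).comp incM

theorem incOne_injective : Function.Injective incOne := by
  rw [injective_iff_map_eq_one]
  intro s hs
  have h1 : incM s ∈ Subgroup.center Co0 := (QuotientGroup.eq_one_iff _).1 hs
  rcases Co0Basic.eq_one_or_neg_of_mem_center h1 with h | h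
  · exact incM_injective (by rw [h, map_one])
  · exfalso
    have h2 : (incM s • Spor.leechV : leechLattice) = Spor.leechV := s.2.1.2
    rw [h, neg_smul] at h2
    have h3 := congrArg (fun v : leechLattice => (v : GolayPt → ℤ) none) h2
    have h4 : -((Spor.leechV : leechLattice) : GolayPt → ℤ) none = ((Spor.leechV : leechLattice) : GolayPt → ℤ) none := h3
    have h5 : ((Spor.leechV : leechLattice) : GolayPt → ℤ) none = -5 := rfl
    rw [h5] at h4
    norm_num at h4

theorem krow_co1 : KRow.{u, 0} 3 Spor.Co1 := by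
  refine row_of_hom incOne incOne_injective T1 (fun σ s => ?_) (fun s => T1_mk _)
  obtain ⟨k, hk⟩ := Cfsg.Agent.ConwayFacts.AutCo1.inner σ
  obtain ⟨g, rfl⟩ := QuotientGroup.mk_surjective s
  obtain ⟨h, rfl⟩ := QuotientGroup.mk_surjective k
  rw [show σ (g : Spor.Co1) = _ from hk _, ← QuotientGroup.mk_inv, ← QuotientGroup.mk_mul, ← QuotientGroup.mk_mul,
    T1_mk, T1_mk, tr_conj]

/-- **The row `Co1`, `p = 3`.** -/
theorem row_co1 {X : Type*} [Group X] (h : Spor.IsoCo1 X) : KRow.{u} 3 X := by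
  obtain ⟨e⟩ := h
  exact KRow.congr e.symm krow_co1

end Cfsg.Agent.H774.SP.Rows
end

-- part: H387/K6/HNThree
section
/-!
# S4876, `p = 3`: the row of the Harada-Norton group (helper387)

Elements of `A12 ≤ HN`: `X1 = (9 10 11)` (weight 2), `X3 = (0 1 2)(3 4 5)(6 7 8)` (weight 2, the centraliser has 2-rank one)
and a 9-cycle.
-/

set_option autoImplicit false
set_option maxRecDepth 20000

open Cfsg

namespace Cfsg.Agent.H387.K6.HN

open Cfsg.Agent.H61.K6 Cfsg.Agent.H121.K6 Cfsg.Agent.H468.K6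
open Cfsg.Agent
open Cfsg.Agent.HN.XWords (W0 W0_sq)
open Cfsg.Agent.KFacts.HN (W0_ne)
open Cfsg.Agent.CpAutHN.Alt (A12 Φ Φ_inj cy t2 t2_mem s1 s1_mem x1 x1_mem x3 x3_mem y3 y3_mem s3 s3_mem)
open Cfsg.Agent.CpAutHN.Pairs
open Equiv.Perm (mem_alternatingGroup)
open Subgroup

universe u v

theorem card_hn : Nat.card Spor.HN = 273030912000000 := Cfsg.Agent.S1701.result.2

theorem finite_hn : Finite Spor.HN := Nat.finite_of_card_ne_zero (by rw [card_hn]; norm_num)

/-- `(0 1 2)` -/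
def ka : Equiv.Perm (Fin 12) := cy [0, 1, 2]
/-- `(0 1)(3 4)` -/
def kb : Equiv.Perm (Fin 12) := cy [0, 1] * cy [3, 4]
/-- the 9-cycle -/
def kc : Equiv.Perm (Fin 12) := cy [0, 1, 2, 3, 4, 5, 6, 7, 8]

theorem ka_mem : ka ∈ alternatingGroup (Fin 12) := by rw [mem_alternatingGroup]; decide +kernel
theorem kb_mem : kb ∈ alternatingGroup (Fin 12) := by rw [mem_alternatingGroup]; decide +kernel
theorem kc_mem : kc ∈ alternatingGroup (Fin 12) := by rw [mem_alternatingGroup]; decide +kernel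

theorem inv_of {f g : Equiv.Perm (Fin 12)} (hf : f ∈ alternatingGroup (Fin 12)) (hg : g ∈ alternatingGroup (Fin 12))
    (h : f * g * f⁻¹ = g⁻¹) : Φ ⟨f, hf⟩ * Φ ⟨g, hg⟩ * (Φ ⟨f, hf⟩)⁻¹ = (Φ ⟨g, hg⟩)⁻¹ := by
  rw [← map_inv, ← map_inv, ← map_mul, ← map_mul]
  exact congrArg _ (Subtype.ext h)

theorem cube {x : Spor.HN} (h : orderOf x = 3) : x ^ 3 ^ 1 = 1 := by rw [pow_one, ← h, pow_orderOf_eq_one]

theorem ne_one {x : Spor.HN} (h : orderOf x = 3) : x ≠ 1 := by
  rintro rfl
  rw [orderOf_one] at h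
  norm_num at h

theorem wt_one : wt 3 X1 = 2 := by
  have := finite_hn
  have h3 : orderOf (Φ ⟨ka, ka_mem⟩) = 3 := orderOf_three ka_mem (by decide +kernel) (by decide +kernel)
  exact wt_eq_two_of_inv Nat.prime_three (by norm_num) (k := 1) (y := Φ ⟨ka, ka_mem⟩) (n := Φ ⟨kb, kb_mem⟩)
    (_root_.Cfsg.Agent.CpAutHN.Pairs.comm_of ka_mem x1_mem (by decide +kernel)) (_root_.Cfsg.Agent.CpAutHN.Pairs.comm_of kb_mem x1_mem (by decide +kernel)) (cube h3) (ne_one h3)
    (inv_of kb_mem ka_mem (by decide +kernel))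

theorem wt_three : wt 3 X3 = 2 := by
  have := finite_hn
  have h3 : orderOf (Φ ⟨y3, y3_mem⟩) = 3 := orderOf_three y3_mem (by decide +kernel) (by decide +kernel)
  exact wt_eq_two_of_inv Nat.prime_three (by norm_num) (k := 1) (y := Φ ⟨y3, y3_mem⟩) (n := Φ ⟨s3, s3_mem⟩)
    (_root_.Cfsg.Agent.CpAutHN.Pairs.comm_of y3_mem x3_mem (by decide +kernel)) (_root_.Cfsg.Agent.CpAutHN.Pairs.comm_of s3_mem x3_mem (by decide +kernel)) (cube h3) (ne_one h3)
    (inv_of s3_mem y3_mem (by decide +kernel))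

/-- the centraliser of `X3` has 2-rank one -/
theorem one_X3 : Cfsg.Agent.CpAutHN.RankOne.One ↥(centralizer ({X3} : Set Spor.HN)) := by
  have := finite_hn
  have hc : X3 * S3 = S3 * X3 := _root_.Cfsg.Agent.CpAutHN.Pairs.comm_of x3_mem s3_mem (by decide +kernel)
  have hs' : orderOf (⟨S3, mem_centralizer_singleton_iff.2 hc.symm⟩ : ↥(centralizer ({X3} : Set Spor.HN))) = 2 := by
    rw [← Subgroup.orderOf_coe]; exact order_S3
  refine (Cfsg.Agent.CpAutTh.RankOne.uInv_of_unique hs' ?_).1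
  intro u hu hus
  apply Subtype.ext
  exact t1_x3.unique (by rw [Subgroup.orderOf_coe]; exact hu) (mem_centralizer_singleton_iff.1 u.2)
    (congrArg Subtype.val hus)

theorem ne_X (σ : Spor.HN ≃* Spor.HN) : σ X1 ≠ X3 := by
  intro h
  have ha : orderOf (Φ ⟨t2, t2_mem⟩) = 2 := orderOf_two t2_mem (by decide +kernel) (by decide +kernel)
  have hb : orderOf (Φ ⟨s1, s1_mem⟩) = 2 := orderOf_two s1_mem (by decide +kernel) (by decide +kernel)
  have hc : ∀ {f : Equiv.Perm (Fin 12)} (hf : f ∈ alternatingGroup (Fin 12)), f * x1 = x1 * f →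
      σ (Φ ⟨f, hf⟩) ∈ centralizer ({X3} : Set Spor.HN) := by
    intro f hf hfx
    rw [mem_centralizer_singleton_iff, ← h, ← map_mul, ← map_mul]
    exact congrArg σ (_root_.Cfsg.Agent.CpAutHN.Pairs.comm_of hf x1_mem hfx)
  have h1 := one_X3 ⟨_, hc t2_mem (by decide +kernel)⟩ ⟨_, hc s1_mem (by decide +kernel)⟩
    (by rw [← Subgroup.orderOf_coe, Subgroup.coe_mk, MulEquiv.orderOf_eq]; exact ha)
    (by rw [← Subgroup.orderOf_coe, Subgroup.coe_mk, MulEquiv.orderOf_eq]; exact hb)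
    (Subtype.ext (by
      show σ (Φ ⟨t2, t2_mem⟩) * σ (Φ ⟨s1, s1_mem⟩) = σ (Φ ⟨s1, s1_mem⟩) * σ (Φ ⟨t2, t2_mem⟩)
      rw [← map_mul σ, ← map_mul σ]
      exact congrArg σ (_root_.Cfsg.Agent.CpAutHN.Pairs.comm_of t2_mem s1_mem (by decide +kernel))))
  have h2 : (⟨t2, t2_mem⟩ : A12) = ⟨s1, s1_mem⟩ := Φ_inj (σ.injective (congrArg Subtype.val h1))
  exact absurd (congrArg Subtype.val h2) (by show ¬ t2 = s1; decide +kernel)

theorem kc_three : ¬ kc ^ 3 = 1 := by decide +kernel
theorem kc_nine : kc ^ 9 = 1 := by decide +kernel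

theorem order_nine : orderOf (Φ ⟨kc, kc_mem⟩) = 3 ^ 2 := by
  have : Fact (Nat.Prime 3) := ⟨Nat.prime_three⟩
  rw [orderOf_injective Φ Φ_inj]
  refine orderOf_eq_prime_pow (n := 1) ?_ ?_
  · intro h
    have h2 := congrArg Subtype.val h
    rw [Subgroup.coe_pow, Subgroup.coe_one, pow_one, Subgroup.coe_mk] at h2
    exact kc_three h2
  · apply Subtype.ext
    rw [Subgroup.coe_pow, Subgroup.coe_one, Subgroup.coe_mk]
    exact kc_nine

theorem krow : KRow.{u, 0} 3 Spor.HN := by
  have := finite_hn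
  have hs : IsSimpleGroup Spor.HN := Cfsg.Agent.S1701.result.1
  have hf : Fact (Nat.Prime 3) := ⟨Nat.prime_three⟩
  have hna : ∃ a b : Spor.HN, a * b ≠ b * a := by
    refine ⟨Φ ⟨kb, kb_mem⟩, Φ ⟨ka, ka_mem⟩, fun h => ?_⟩
    have h1 : kb * ka = ka * kb := by
      rw [← map_mul, ← map_mul] at h
      exact congrArg Subtype.val (Φ_inj h)
    exact absurd h1 (by decide +kernel)
  refine krow_three (c := Φ ⟨kc, kc_mem⟩) (not_compl_of_simple hna (by rw [card_hn]; norm_num))
    (el_of_prime Nat.prime_three order_X1) (el_of_prime Nat.prime_three order_X3)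
    (el_of_order (k := 2) Nat.prime_three (by norm_num) order_nine) ne_X
    (ne_of_order (by rw [order_X1, order_nine]; norm_num)) (ne_of_order (by rw [order_X3, order_nine]; norm_num))
    (na := 2) (nb := 2) (nc := 1) ?_ ?_ (wtGe_one _) (by norm_num)
  · rw [← wt_one]
    exact wtGe_wt _
  · rw [← wt_three]
    exact wtGe_wt _

/-- **`HN`, `p = 3`.** -/
theorem _root_.Cfsg.Agent.H387.K6.hn_three {X : Type v} [Group X] (h : Spor.IsoHN X) : KRow.{u, v} 3 X := by
  obtain ⟨e⟩ := h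
  exact KRow.congr e.symm krow

end Cfsg.Agent.H387.K6.HN
end

-- part: H404/K6/SporHe
section
/-!
S4876, helper404: the Held group, `p = 5`: `C(P)` is a 5-group.
-/

set_option autoImplicit false
set_option maxRecDepth 100000

namespace Cfsg.Agent.H404.K6.He

open Subgroup Cfsg
open Cfsg.Spor.He (Gen)
open Cfsg.Agent.SporadicB.HePerm Cfsg.Agent.FixBN.HeStab Cfsg.Agent.KFacts.He.Lv Cfsg.Agent.CpAutHe.Cnt
  Cfsg.Agent.CpAutHe.Bound Cfsg.Agent.H436.HeFive

/-- the tests for the images of the point `27` under the centralizer of the Sylow subgroup -/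
def TP (y : ℕ) : Bool := and (tst X [] [1, 2] 27 y) (and (tst Y [] [1] 27 y) (tst (pw X 2 ++ Y) [] [1] 27 y))

theorem cP : cnt 2058 TP = 25 := by delta TP; rw [tst_fast]; decide +kernel

/-- the tests relative to fixed points -/
def sh (F ks : List ℕ) (p y : ℕ) : Bool := and (tst X [] ks p y) (tst X F [] p y)

theorem e1 : cnt 2058 (sh [1087, 29, 1726, 1680] [1, 2] 1) = 1 := by delta sh; rw [tst_fast]; decide +kernel
theorem e8 : cnt 2058 (sh [176, 1605, 1726, 1313, 1680] [1, 2] 8) = 1 := by delta sh; rw [tst_fast]; decide +kernel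
theorem e32 : cnt 2058 (sh [510, 1605, 1087, 708, 1726, 1680] [1, 2] 32) = 1 := by delta sh; rw [tst_fast]; decide +kernel
theorem e0 : cnt 2058 (sh [1, 8, 32] [1] 0) = 1 := by delta sh; rw [tst_fast]; decide +kernel

theorem fix_of_sh {c : Cfsg.Spor.He} (hc : c * wd X = wd X * c) {F : List ℕ} (hF : ∀ f ∈ F, Fx c f) (p : Fin 2058)
    (ks : List ℕ) (hn : cnt 2058 (sh F ks p) = 1) : phi c p = p := by
  rw [← card_filter, Finset.card_eq_one] at hn
  obtain ⟨a, ha⟩ := hn
  have h0 : ∀ q : Fin 2058, sh F ks p q = true → (q : ℕ) = a := by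
    intro q hq
    have h2 : (q : ℕ) ∈ (Finset.range 2058).filter (fun y => sh F ks p y = true) := by
      rw [Finset.mem_filter, Finset.mem_range]
      exact ⟨q.2, hq⟩
    rw [ha, Finset.mem_singleton] at h2
    exact h2
  have h1 : sh F ks p (phi c p) = true := by
    unfold sh
    rw [Bool.and_eq_true]
    exact ⟨tst_spec hc (F := []) (fun f hf => absurd hf List.not_mem_nil) (List.Subset.refl _) ks p,
      tst_spec hc hF (List.Subset.refl _) [] p⟩
  have h2 : sh F ks p p = true := by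
    unfold sh tst
    simp
  exact Fin.ext ((h0 _ h1).trans (h0 _ h2).symm)

theorem fx_act {c : Cfsg.Spor.He} {w : List Gen} (hc : c * wd w = wd w * c) {p : Fin 2058} (hp : phi c p = p) {q : ℕ}
    (hq : Nat.beq (act w p) q = true) : Fx c q := by
  have h0 : act w p = q := Nat.eq_of_beq_eq_true hq
  have h1 : ((phi (wd w) p : Fin 2058) : ℕ) = q := by rw [← h0, act_eq]
  refine ⟨by rw [← h1]; exact (phi (wd w) p).2, ?_⟩
  have h2 : (⟨q, by rw [← h1]; exact (phi (wd w) p).2⟩ : Fin 2058) = phi (wd w) p := Fin.ext h1.symm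
  rw [h2, ← Equiv.Perm.mul_apply, ← map_mul, hc, map_mul, Equiv.Perm.mul_apply, hp]

theorem comm_pw {c : Cfsg.Spor.He} (hX : c * wd X = wd X * c) (hY : c * wd Y = wd Y * c) (i j : ℕ) :
    c * wd (pw X i ++ pw Y j) = wd (pw X i ++ pw Y j) * c := by
  rw [wd_append, wd_pw, wd_pw]
  exact (((show Commute c (wd X) from hX).pow_right i).mul_right ((show Commute c (wd Y) from hY).pow_right j)).eq

/-- the centralizer of `X` and `Y` -/
noncomputable def CE : Subgroup Cfsg.Spor.He := centralizer ({wd X} : Set Cfsg.Spor.He) ⊓ centralizer ({wd Y} : Set Cfsg.Spor.He)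

theorem mem_CE {c : Cfsg.Spor.He} : c ∈ CE ↔ c * wd X = wd X * c ∧ c * wd Y = wd Y * c := by
  unfold CE
  rw [Subgroup.mem_inf, mem_centralizer_singleton_iff, mem_centralizer_singleton_iff]

theorem st_le : Nat.card ↥(st CE 27) ≤ 1 := by
  rw [Subgroup.card_le_one_iff_eq_bot, eq_bot_iff_forall]
  intro c hc
  obtain ⟨hc1, hp⟩ := mem_st.1 hc
  obtain ⟨hX, hY⟩ := mem_CE.1 hc1
  have hw := comm_pw hX hY
  have f : ∀ {q : ℕ} (i j : ℕ), Nat.beq (act (pw X i ++ pw Y j) 27) q = true → Fx c q := fun i j h =>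
    fx_act (p := 27) (hw i j) hp h
  have k1087 : Fx c 1087 := f 3 3 (by decide +kernel)
  have k29 : Fx c 29 := f 4 0 (by decide +kernel)
  have k1726 : Fx c 1726 := f 4 1 (by decide +kernel)
  have k1680 : Fx c 1680 := f 4 4 (by decide +kernel)
  have k176 : Fx c 176 := f 3 0 (by decide +kernel)
  have k1605 : Fx c 1605 := f 3 2 (by decide +kernel)
  have k1313 : Fx c 1313 := f 4 3 (by decide +kernel)
  have k510 : Fx c 510 := f 2 4 (by decide +kernel)
  have k708 : Fx c 708 := f 3 4 (by decide +kernel)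
  have g1 : phi c 1 = 1 := fix_of_sh hX (by
    intro q hq
    simp only [List.mem_cons, List.not_mem_nil, or_false] at hq
    rcases hq with rfl | rfl | rfl | rfl <;> assumption) 1 _ e1
  have g8 : phi c 8 = 8 := fix_of_sh hX (by
    intro q hq
    simp only [List.mem_cons, List.not_mem_nil, or_false] at hq
    rcases hq with rfl | rfl | rfl | rfl | rfl <;> assumption) 8 _ e8
  have g32 : phi c 32 = 32 := fix_of_sh hX (by
    intro q hq
    simp only [List.mem_cons, List.not_mem_nil, or_false] at hq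
    rcases hq with rfl | rfl | rfl | rfl | rfl | rfl <;> assumption) 32 _ e32
  have g0 : phi c 0 = 0 := fix_of_sh hX (by
    intro q hq
    simp only [List.mem_cons, List.not_mem_nil, or_false] at hq
    rcases hq with rfl | rfl | rfl
    · exact ⟨by norm_num, g1⟩
    · exact ⟨by norm_num, g8⟩
    · exact ⟨by norm_num, g32⟩) 0 _ e0
  have e : ∀ i, phi (1 : Cfsg.Spor.He) i = i := fun i => by rw [map_one]; rfl
  apply eq_of_base
  · rw [g0, e]
  · rw [g1, e]
  · rw [g32, e]
  · rw [g8, e]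

theorem card_CE_le : Nat.card ↥CE ≤ 25 := by
  have h1 := orb CE 27 ((Finset.range 2058).filter (fun y => TP y = true)) (fun c hc => by
    obtain ⟨hX, hY⟩ := mem_CE.1 hc
    rw [Finset.mem_filter, Finset.mem_range]
    refine ⟨(phi c 27).2, ?_⟩
    unfold TP
    rw [Bool.and_eq_true, Bool.and_eq_true]
    refine ⟨tst_spec hX (F := []) (fun f hf => absurd hf List.not_mem_nil) (List.Subset.refl _) _ 27,
      tst_spec hY (F := []) (fun f hf => absurd hf List.not_mem_nil) (List.Subset.refl _) _ 27,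
      tst_spec (X := pw X 2 ++ Y) ?_ (F := []) (fun f hf => absurd hf List.not_mem_nil) (List.Subset.refl _) _ 27⟩
    rw [wd_append, wd_pw]
    exact (((show Commute c (wd X) from hX).pow_right 2).mul_right (show Commute c (wd Y) from hY)).eq) st_le
  rw [card_filter, cP] at h1
  exact h1

instance finite_he : Finite Cfsg.Spor.He := Cfsg.Agent.H436.HeFive.finite_he

theorem cp : CP 5 Cfsg.Spor.He := by
  have h5 : Fact (Nat.Prime 5) := ⟨by norm_num⟩
  have hi : ¬ 5 ∣ E.index := by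
    have h1 := E.card_mul_index
    rw [card_E, KFacts.He.Classes.card_he] at h1
    have h2 : E.index = 161215488 := by omega
    rw [h2]
    norm_num
  refine ⟨isP.toSylow hi, fun z hz => ?_⟩
  have hz' : z ∈ centralizer (E : Set Cfsg.Spor.He) := hz
  have h1 : z ∈ CE := mem_CE.2 ⟨(mem_centralizer_iff.1 hz' _ mem_EX).symm, (mem_centralizer_iff.1 hz' _ mem_EY).symm⟩
  have hE : E ≤ CE := by
    intro w hw
    obtain ⟨i, j, rfl⟩ := exists_pow powX powY commXY hw
    refine mem_CE.2 ⟨?_, ?_⟩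
    · have h2 : Commute (wd X ^ i * wd Y ^ j) (wd X) :=
        ((Commute.refl (wd X)).pow_left i).mul_left ((show Commute (wd Y) (wd X) from commXY.symm).pow_left j)
      exact h2.eq
    · have h2 : Commute (wd X ^ i * wd Y ^ j) (wd Y) :=
        ((show Commute (wd X) (wd Y) from commXY).pow_left i).mul_left ((Commute.refl (wd Y)).pow_left j)
      exact h2.eq
  have hEC : E = CE := Subgroup.eq_of_le_of_card_ge hE (by rw [card_E]; exact card_CE_le)
  have h2 : z ∈ E := by rw [hEC]; exact h1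
  obtain ⟨k, hk⟩ := (IsPGroup.iff_orderOf.1 isP) ⟨z, h2⟩
  exact ⟨k, by rw [← hk]; exact (Subgroup.orderOf_coe (⟨z, h2⟩ : E))⟩

end Cfsg.Agent.H404.K6.He
end

-- part: H404/K6/SporHe2
section
/-!
S4876, helper404: the Held group, `p = 5`: seven characters in the principal block.
-/

set_option autoImplicit false

namespace Cfsg.Agent.H404.K6.He

open Subgroup Cfsg Cfsg.Agent.SmallSimple.DegreeData Cfsg.Agent.H703.Lat Cfsg.Agent.Characters.Core
  Cfsg.Agent.Blocks.Basic

universe u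

/-- no solutions modulo 25 -/
theorem no_two : ∀ a b : ZMod 25, a + b + 1 = 0 → a * a + b * b + 7 ≠ 0 := by decide +kernel

theorem no_one : ∀ a b : ZMod 25, a + 1 = 0 → a * a + b * b + 7 ≠ 0 := by decide +kernel

theorem no_five : ∀ a b : ZMod 5, a = 0 → a * a + b * b + 7 ≠ 0 := by decide

theorem no_exc : ∀ f : ZMod 25, 16 - 16 * f = 0 → f * f + f * f + 7 ≠ 0 := by decide

theorem no_exc' : ∀ f : ZMod 25, 16 + 16 * f = 0 → f * f + f * f + 7 ≠ 0 := by decide

theorem five_dvd {A B d N1 N2 : ℤ} (hd : d = 1 ∨ d = -1) (h1 : 16 * A - 8 * d * B = 25 * N1)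
    (h2 : 16 * A ^ 2 - 16 * d * A * B + 72 * B ^ 2 = 625 * N2) : (5 : ℤ) ∣ B := by
  have h3 : 1088 * B ^ 2 = 625 * (16 * N2 - N1 ^ 2) := by
    rcases hd with rfl | rfl
    · linear_combination 16 * h2 - (16 * A - 8 * B + 25 * N1) * h1
    · linear_combination 16 * h2 - (16 * A + 8 * B + 25 * N1) * h1
  have h4 : (5 : ℤ) ∣ 1088 * B ^ 2 := by
    rw [h3]
    exact Dvd.dvd.mul_right (by norm_num) _
  have h5 : Prime (5 : ℤ) := by norm_num
  rcases h5.dvd_or_dvd h4 with h6 | h6
  · norm_num at h6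
  · exact h5.dvd_of_dvd_pow h6

theorem seven_of {G : Type u} [Group G] [Finite G] (hcard : 25 ∣ Nat.card G) [Fact (Nat.Prime 17)]
    {M17 M : Ideal AlgInt} {P : Sylow 17 G} (D : BlockData 17 M17 P 8 2) (hM17 : IsPModular 17 M17)
    (hP : Nat.card P = 17) (hC : centralizer ((P : Subgroup G) : Set G) = (P : Subgroup G)) (hM : IsPModular 5 M)
    {a b c : IrrCharacter G} (ha : charDegree (a : G → ℂ) = 51) (hb : charDegree (b : G → ℂ) = 51)
    (hc : charDegree (c : G → ℂ) = 4352) (hab : a ≠ b) (ma : a ∈ principalBlock M G) (mb : b ∈ principalBlock M G)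
    (mc : c ∈ principalBlock M G) : 7 ≤ Nat.card (principalBlock M G) := by
  classical
  have : Fact (Nat.Prime 5) := ⟨by norm_num⟩
  have hPf : Fintype P := Fintype.ofFinite P
  have h6 : 6 ≤ Nat.card (principalBlock M G) := six_le_kB hM (by norm_num) (by norm_num; exact hcard)
  rw [Sieve.card_B0] at h6 ⊢
  by_contra hlt
  have hcB : (B0 M G).card = 6 := by omega
  obtain ⟨one, hone⟩ : ∃ one : IrrCharacter G, one = ⟨fun _ => 1, isIrr_one⟩ := ⟨_, rfl⟩
  have ho1 : ∀ g, (one : G → ℂ) g = 1 := fun g => by rw [hone]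
  have ho : charDegree (one : G → ℂ) = 1 := by
    apply Blocks.Knorr.charDegree_of_natCast
    rw [ho1]
    simp
  have mo : one ∈ principalBlock M G := by rw [hone, ← mem_B0]; exact one_mem_B0 hM
  have hoa : one ≠ a := fun h => by rw [h, ha] at ho; omega
  have hob : one ≠ b := fun h => by rw [h, hb] at ho; omega
  have hoc : one ≠ c := fun h => by rw [h, hc] at ho; omega
  have hac : a ≠ c := fun h => by rw [h, hc] at ha; omega
  have hbc : b ≠ c := fun h => by rw [h, hc] at hb; omega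
  obtain ⟨T, hT⟩ : ∃ T : Finset (IrrCharacter G), T = {one, a, b, c} := ⟨_, rfl⟩
  have hTB : T ⊆ B0 M G := by
    intro χ hχ
    rw [hT] at hχ
    simp only [Finset.mem_insert, Finset.mem_singleton] at hχ
    rw [mem_B0]
    rcases hχ with rfl | rfl | rfl | rfl <;> assumption
  have hTs : ∀ {A : Type} [AddCommMonoid A] (F : IrrCharacter G → A), ∑ χ ∈ T, F χ = F one + (F a + (F b + F c)) := by
    intro A _ F
    rw [hT, Finset.sum_insert (by simp [hoa, hob, hoc]), Finset.sum_insert (by simp [hab, hac]),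
      Finset.sum_insert (by simp [hbc]), Finset.sum_singleton]
  have hTc : T.card = 4 := by
    rw [Finset.card_eq_sum_ones, hTs (A := ℕ)]
    norm_num
  have hdc : (B0 M G \ T).card = 2 := by
    rw [Finset.card_sdiff_of_subset hTB]
    omega
  obtain ⟨ψ, φ, hne, hBT⟩ := Finset.card_eq_two.1 hdc
  have hsum : ∀ {A : Type} [AddCommMonoid A] (F : IrrCharacter G → A),
      ∑ χ ∈ B0 M G, F χ = (F ψ + F φ) + (F one + (F a + (F b + F c))) := by
    intro A _ F
    rw [← Finset.sum_sdiff hTB, hBT, hTs, Finset.sum_pair hne]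
  -- the sum of the squares
  have hsq := dvd_sum_sq hM (good_principal (G := G) hM) (a := 2) (by norm_num; exact hcard)
  rw [hsum, ho, ha, hb, hc] at hsq
  obtain ⟨u, hu⟩ := hsq
  have hu' : (charDegree (ψ : G → ℂ) : ℤ) * (charDegree (ψ : G → ℂ) : ℤ) +
      (charDegree (φ : G → ℂ) : ℤ) * (charDegree (φ : G → ℂ) : ℤ) + 7 = ((25 : ℕ) : ℤ) * (u - 757804) := by
    push_cast at hu ⊢
    linear_combination hu
  have hsq25 : ((charDegree (ψ : G → ℂ) : ℕ) : ZMod 25) * (charDegree (ψ : G → ℂ) : ℕ) +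
      ((charDegree (φ : G → ℂ) : ℕ) : ZMod 25) * (charDegree (φ : G → ℂ) : ℕ) + 7 = 0 := by
    have h1 := congrArg (fun z : ℤ => (z : ZMod 25)) hu'
    simp only [Int.cast_mul, Int.cast_add, Int.cast_natCast] at h1
    rw [ZMod.natCast_self, zero_mul] at h1
    exact_mod_cast h1
  have hsq5 : ((charDegree (ψ : G → ℂ) : ℕ) : ZMod 5) * (charDegree (ψ : G → ℂ) : ℕ) +
      ((charDegree (φ : G → ℂ) : ℕ) : ZMod 5) * (charDegree (φ : G → ℂ) : ℕ) + 7 = 0 := by
    have h1 := congrArg (fun z : ℤ => (z : ZMod 5)) hu'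
    simp only [Int.cast_mul, Int.cast_add, Int.cast_natCast] at h1
    rw [(ZMod.natCast_eq_zero_iff 25 5).2 (by norm_num), zero_mul] at h1
    exact_mod_cast h1
  -- values
  have vz : ∀ {χ : IrrCharacter G} {m : ℕ}, charDegree (χ : G → ℂ) = 17 * m → ∀ x ∈ P, x ≠ 1 → (χ : G → ℂ) x = 0 := by
    intro χ m hm
    have hX : χ ∉ D.X := by
      intro hX
      have h1 := Sieve.modEq_X D hP hX
      rw [hm] at h1
      have h2 := Int.ModEq.dvd h1
      rcases D.d_mem with h3 | h3 <;> rw [h3] at h2 <;> push_cast at h2 <;> omega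
    obtain ⟨ε, h1, h2, h3⟩ := Sieve.type D hM17 hP hC hX
    have h4 : ε = 0 := by
      rw [hm] at h2
      have h5 := Int.ModEq.dvd h2
      rcases h1 with rfl | rfl | rfl
      · rfl
      · push_cast at h5; omega
      · push_cast at h5; omega
    intro x hx hx1
    rw [h3 x hx hx1, h4]
    simp
  have va := vz (χ := a) (m := 3) ha
  have vb := vz (χ := b) (m := 3) hb
  have vc := vz (χ := c) (m := 256) hc
  have hth : ∀ x : P, ∃ n : ℤ, x ≠ 1 → (charDegree (ψ : G → ℂ) : ℂ) * (ψ : G → ℂ) x +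
      (charDegree (φ : G → ℂ) : ℂ) * (φ : G → ℂ) x + 1 = 25 * n := by
    intro x
    by_cases hx : x = 1
    · exact ⟨0, fun h => absurd hx h⟩
    obtain ⟨n, hn⟩ := theta_dvd hM (good_principal (G := G) hM) (a := 2) (by norm_num; exact hcard) (x : G)
    have hx1 : (x : G) ≠ 1 := fun h => hx (Subtype.ext h)
    rw [hsum, va x x.2 hx1, vb x x.2 hx1, vc x x.2 hx1, ho1, ho] at hn
    refine ⟨n, fun _ => ?_⟩
    push_cast at hn
    linear_combination hn
  choose n hn using hth
  obtain ⟨x0, hx0⟩ : ∃ x : P, x ≠ 1 := by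
    have : Nontrivial P := Finite.one_lt_card_iff_nontrivial.1 (by rw [hP]; norm_num)
    exact exists_ne 1
  have hx0' : (x0 : G) ≠ 1 := fun h => hx0 (Subtype.ext h)
  have hcE : ((Finset.univ.erase (1 : P)).card : ℂ) = 16 := by
    rw [Finset.card_erase_of_mem (Finset.mem_univ _), Finset.card_univ, ← Nat.card_eq_fintype_card,
      show Nat.card (↥P) = 17 from hP]
    norm_num
  -- exactly one exceptional character
  have hmix : ∀ (α β : IrrCharacter G) (m : P → ℤ), (∀ x : P, x ≠ 1 → (charDegree (α : G → ℂ) : ℂ) * (α : G → ℂ) x +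
      (charDegree (β : G → ℂ) : ℂ) * (β : G → ℂ) x + 1 = 25 * m x) → α ∈ D.X → β ∉ D.X →
      (5 : ℤ) ∣ (charDegree (α : G → ℂ) : ℤ) := by
    intro α β m hm hα hβ
    obtain ⟨ε, -, -, h3⟩ := Sieve.type D hM17 hP hC hβ
    obtain ⟨A, hA⟩ : ∃ A : ℤ, A = (charDegree (β : G → ℂ) : ℤ) * ε + 1 := ⟨_, rfl⟩
    obtain ⟨B, hB⟩ : ∃ B : ℤ, B = (charDegree (α : G → ℂ) : ℤ) := ⟨_, rfl⟩
    have hT : ∀ x : P, x ≠ 1 → (A : ℂ) + B * (α : G → ℂ) x = 25 * m x := by
      intro x hx
      have h1 := hm x hx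
      rw [h3 x x.2 (fun h => hx (Subtype.ext h))] at h1
      rw [← h1, hA, hB]
      push_cast
      ring
    rw [← hB]
    have e1 := Sieve.sum_X D hα
    have e2 := Sieve.sum_X_inv D hα
    have e3 := Sieve.sum_sq_X D hP hα
    refine five_dvd (A := A) (N1 := ∑ x ∈ Finset.univ.erase (1 : P), m x)
      (N2 := ∑ x ∈ Finset.univ.erase (1 : P), m x * m x⁻¹) D.d_mem ?_ ?_
    · have h1 : ∑ x ∈ Finset.univ.erase (1 : P), ((A : ℂ) + B * (α : G → ℂ) x) =
          ∑ x ∈ Finset.univ.erase (1 : P), (25 * m x : ℂ) :=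
        Finset.sum_congr rfl fun x hx => hT x (Finset.ne_of_mem_erase hx)
      rw [Finset.sum_add_distrib, Finset.sum_const, ← Finset.mul_sum, e1, nsmul_eq_mul, hcE, ← Finset.mul_sum] at h1
      have h2 : ((16 * A - 8 * D.d * B : ℤ) : ℂ) = ((25 * ∑ x ∈ Finset.univ.erase (1 : P), m x : ℤ) : ℂ) := by
        push_cast at h1 ⊢
        linear_combination h1
      exact_mod_cast h2
    · have h1 : ∑ x ∈ Finset.univ.erase (1 : P), ((A : ℂ) ^ 2 + A * B * (α : G → ℂ) x +
          A * B * (α : G → ℂ) ((x⁻¹ : P) : G) + B ^ 2 * ((α : G → ℂ) x * (α : G → ℂ) ((x⁻¹ : P) : G))) =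
          ∑ x ∈ Finset.univ.erase (1 : P), (625 * (m x * m x⁻¹) : ℂ) := by
        refine Finset.sum_congr rfl fun x hx => ?_
        have h2 := hT x (Finset.ne_of_mem_erase hx)
        have h4 := hT x⁻¹ (inv_ne_one.2 (Finset.ne_of_mem_erase hx))
        linear_combination (A + B * (α : G → ℂ) ((x⁻¹ : P) : G)) * h2 + 25 * (m x : ℂ) * h4
      rw [Finset.sum_add_distrib, Finset.sum_add_distrib, Finset.sum_add_distrib, Finset.sum_const, ← Finset.mul_sum,
        ← Finset.mul_sum, ← Finset.mul_sum, e1, e2, e3, nsmul_eq_mul, hcE, ← Finset.mul_sum] at h1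
      have h2 : ((16 * A ^ 2 - 16 * D.d * A * B + 72 * B ^ 2 : ℤ) : ℂ) =
          ((625 * ∑ x ∈ Finset.univ.erase (1 : P), m x * m x⁻¹ : ℤ) : ℂ) := by
        push_cast at h1 ⊢
        linear_combination h1
      exact_mod_cast h2
  have h5z : ∀ α : IrrCharacter G, (5 : ℤ) ∣ (charDegree (α : G → ℂ) : ℤ) →
      ((charDegree (α : G → ℂ) : ℕ) : ZMod 5) = 0 := by
    intro α h
    rw [ZMod.natCast_eq_zero_iff]
    exact_mod_cast h
  by_cases hψ : ψ ∈ D.X
  · by_cases hφ : φ ∈ D.X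
    · have h1 : ∑ x ∈ Finset.univ.erase (1 : P), ((charDegree (ψ : G → ℂ) : ℂ) * (ψ : G → ℂ) x +
          (charDegree (φ : G → ℂ) : ℂ) * (φ : G → ℂ) x + 1) = ∑ x ∈ Finset.univ.erase (1 : P), (25 * n x : ℂ) :=
        Finset.sum_congr rfl fun x hx => hn x (Finset.ne_of_mem_erase hx)
      rw [Finset.sum_add_distrib, Finset.sum_add_distrib, Finset.sum_const, ← Finset.mul_sum, ← Finset.mul_sum,
        Sieve.sum_X D hψ, Sieve.sum_X D hφ, nsmul_eq_mul, hcE, ← Finset.mul_sum, D.deg_X ψ hψ, D.deg_X φ hφ] at h1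
      have h2 : 16 - 16 * D.d * (D.f : ℤ) = 25 * ∑ x ∈ Finset.univ.erase (1 : P), n x := by
        have h3 : ((16 - 16 * D.d * (D.f : ℤ) : ℤ) : ℂ) = ((25 * ∑ x ∈ Finset.univ.erase (1 : P), n x : ℤ) : ℂ) := by
          push_cast at h1 ⊢
          linear_combination h1
        exact_mod_cast h3
      have h3 := congrArg (fun z : ℤ => (z : ZMod 25)) h2
      push_cast at h3
      have h25 : ((25 : ZMod 25)) = 0 := by decide
      rw [h25, zero_mul] at h3
      rw [D.deg_X ψ hψ, D.deg_X φ hφ] at hsq25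
      rcases D.d_mem with hd | hd
      · refine no_exc (D.f : ZMod 25) ?_ hsq25
        rw [hd] at h3
        rw [← h3]
        push_cast
        ring
      · refine no_exc' (D.f : ZMod 25) ?_ hsq25
        rw [hd] at h3
        rw [← h3]
        push_cast
        ring
    · exact no_five _ _ (h5z ψ (hmix ψ φ n hn hψ hφ)) hsq5
  · by_cases hφ : φ ∈ D.X
    · refine no_five _ _ (h5z φ (hmix φ ψ n (fun x hx => ?_) hφ hψ)) (by rw [add_comm (_ * _)]; exact hsq5)
      rw [← hn x hx]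
      ring
    · obtain ⟨ε, h1, -, h3⟩ := Sieve.type D hM17 hP hC hψ
      obtain ⟨ε', h1', -, h3'⟩ := Sieve.type D hM17 hP hC hφ
      have h4 := hn x0 hx0
      rw [h3 _ x0.2 hx0', h3' _ x0.2 hx0'] at h4
      have h5 : (charDegree (ψ : G → ℂ) : ℤ) * ε + (charDegree (φ : G → ℂ) : ℤ) * ε' + 1 = 25 * n x0 := by
        exact_mod_cast h4
      have h6 := congrArg (fun z : ℤ => (z : ZMod 25)) h5
      push_cast at h6
      have h25 : ((25 : ZMod 25)) = 0 := by decide
      rw [h25, zero_mul] at h6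
      rcases h1 with rfl | rfl | rfl <;> rcases h1' with rfl | rfl | rfl <;> push_cast at h6
      · rw [mul_zero, mul_zero, zero_add, zero_add] at h6
        exact absurd h6 (by decide)
      · exact no_one ((charDegree (φ : G → ℂ) : ℕ) : ZMod 25) ((charDegree (ψ : G → ℂ) : ℕ) : ZMod 25)
          (by rw [← h6]; ring) (by rw [← hsq25]; ring)
      · exact no_one (-((charDegree (φ : G → ℂ) : ℕ) : ZMod 25)) ((charDegree (ψ : G → ℂ) : ℕ) : ZMod 25)
          (by rw [← h6]; ring) (by rw [← hsq25]; ring)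
      · exact no_one ((charDegree (ψ : G → ℂ) : ℕ) : ZMod 25) ((charDegree (φ : G → ℂ) : ℕ) : ZMod 25)
          (by rw [← h6]; ring) (by rw [← hsq25])
      · exact no_two ((charDegree (ψ : G → ℂ) : ℕ) : ZMod 25) ((charDegree (φ : G → ℂ) : ℕ) : ZMod 25)
          (by rw [← h6]; ring) (by rw [← hsq25])
      · exact no_two ((charDegree (ψ : G → ℂ) : ℕ) : ZMod 25) (-((charDegree (φ : G → ℂ) : ℕ) : ZMod 25))
          (by rw [← h6]; ring) (by rw [← hsq25]; ring)
      · exact no_one (-((charDegree (ψ : G → ℂ) : ℕ) : ZMod 25)) ((charDegree (φ : G → ℂ) : ℕ) : ZMod 25)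
          (by rw [← h6]; ring) (by rw [← hsq25]; ring)
      · exact no_two (-((charDegree (ψ : G → ℂ) : ℕ) : ZMod 25)) ((charDegree (φ : G → ℂ) : ℕ) : ZMod 25)
          (by rw [← h6]; ring) (by rw [← hsq25]; ring)
      · exact no_two (-((charDegree (ψ : G → ℂ) : ℕ) : ZMod 25)) (-((charDegree (φ : G → ℂ) : ℕ) : ZMod 25))
          (by rw [← h6]; ring) (by rw [← hsq25]; ring)

end Cfsg.Agent.H404.K6.He
end

-- part: H404/K6/RowHe
section
/-!
S4876, helper404: **the row of the Held group, `p = 5`**.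
-/

set_option autoImplicit false

namespace Cfsg.Agent.H404.K6.He

open Cfsg Subgroup Cfsg.Agent.H61.K6 Cfsg.Agent.H687.HeNetData Cfsg.Agent.SporadicB.HePerm

universe u v

theorem exists_four : ∃ a b c : IrrCharacter Cfsg.Spor.He, charDegree (a : Cfsg.Spor.He → ℂ) = 51 ∧
    charDegree (b : Cfsg.Spor.He → ℂ) = 51 ∧ charDegree (c : Cfsg.Spor.He → ℂ) = 4352 ∧ a ≠ b ∧
    ∀ (σ : MulAut Cfsg.Spor.He) (x : Cfsg.Spor.He), (c : Cfsg.Spor.He → ℂ) (σ x) = (c : Cfsg.Spor.He → ℂ) x := by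
  obtain ⟨χ, h1, h2, h3, h4⟩ := H687.He8330.exists_chars
  refine ⟨⟨χ 5, h1 5⟩, ⟨χ 6, h1 6⟩, ⟨χ 1, h1 1⟩, H687.charDegree_of_eq (h3 5), H687.charDegree_of_eq (h3 6),
    H687.charDegree_of_eq (h3 1), fun h => h2 5 6 (by decide) (congrArg Subtype.val h), fun σ x => ?_⟩
  refine H687.Scheme.inv_of_unique h1 (σ := σ) (fun g => ?_) (s := 1) (fun t hts => ?_) x
  · rw [Finset.sum_apply, Finset.sum_apply, h4, h4]
    exact_mod_cast H687.HeRow.pi_aut σ g
  · rw [h3, h3]
    have : H687.He8330.dg t ≠ H687.He8330.dg 1 := by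
      revert hts
      revert t
      decide
    exact_mod_cast this

theorem seven (M : Ideal AlgInt) (hM : IsPModular 5 M) : 7 ≤ Nat.card (principalBlock M Cfsg.Spor.He) := by
  have h17 : Fact (Nat.Prime 17) := ⟨by norm_num⟩
  have h5 : Fact (Nat.Prime 5) := ⟨by norm_num⟩
  obtain ⟨a, b, c, ha, hb, hc, hab, -⟩ := exists_four
  obtain ⟨M17, P, hM17, hP, hC, ⟨D⟩⟩ := Sieve.exists_data (q := 17) (e := 8) (t := 2) (by norm_num)
    (w := wd [.f, .d, .c, .b]) Cfsg.Agent.H492.IMHe.o17 Cfsg.Agent.H492.IMHe.card17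
    (by rw [KFacts.He.Classes.card_he]; norm_num) (by norm_num) (by rw [KFacts.He.Classes.card_he])
  exact seven_of (by rw [KFacts.He.Classes.card_he]; norm_num) D hM17 hP hC hM ha hb hc hab
    (mem_of_degree hM cp a (by rw [ha]; norm_num)) (mem_of_degree hM cp b (by rw [hb]; norm_num))
    (mem_of_degree hM cp c (by rw [hc]; norm_num))

theorem ext_he : H668.K6.ExtK.{u, 0} 5 Cfsg.Spor.He := by
  have h5 : Fact (Nat.Prime 5) := ⟨by norm_num⟩
  refine ExtK.of_inv ?_ fun M hM => ?_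
  · rcases KFacts.He.Outer.index_le_two (K := Cfsg.Spor.He) ⟨MulEquiv.refl _⟩ with h | h <;> rw [h] <;> norm_num
  · obtain ⟨a, b, c, ha, hb, hc, hab, hinv⟩ := exists_four
    refine ⟨c, mem_of_degree hM cp c (by rw [hc]; norm_num), hinv, 1, ?_⟩
    rw [Blocks.Basic.irr_one_eq_charDegree c.2, hc]
    norm_num

/-- **The Held group, `p = 5`.** -/
theorem row_he {S : Type v} [Group S] (h : Cfsg.Spor.IsoHe S) : KRow.{u, v} 5 S := by
  obtain ⟨e⟩ := h
  exact KRow.congr e.symm (H668.K6.KRow.of_ext ext_he seven)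

end Cfsg.Agent.H404.K6.He
end

-- part: H349/K6/SporSeven
section
/-!
# S4876, `p = 7`: the row of `Th` (helper349)

`C(s) = ⟨s⟩ × GL₃(2)` for an element `s` of order 7.
-/

set_option autoImplicit false

open Cfsg

namespace Cfsg.Agent.H349.K6

open Cfsg.Agent.H61.K6 Cfsg.Agent.H404.K6

universe u v

/-- `Inert` with `r = 2`, `p = 7`. -/
theorem inert_seven {X : Type*} [Group X] {x y h : X} (hX : ¬ 7 ^ 3 ∣ Nat.card X) (ox : orderOf x = 7)
    (oy : orderOf y = 7) (comm : Commute x y) (hx : Commute h x) (hy : h * y * h⁻¹ = y ^ 2) :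
    Inert 7 x y h 2 3 where
  card := hX
  ox := ox
  oy := oy
  comm := comm
  nmem := by
    rintro ⟨k, hk⟩
    have hk' : x ^ k = y := hk
    have h1 : h * y * h⁻¹ = y := by
      rw [← hk', (hx.zpow_right k).eq, mul_inv_cancel_right]
    rw [hy, pow_two] at h1
    have h2 : y = 1 := mul_eq_left.1 h1
    rw [h2, orderOf_one] at oy
    exact absurd oy (by norm_num)
  hx := hx
  hy := hy
  ord := by
    intro i h0 h3
    interval_cases i <;> decide

namespace Th

open Cfsg.Agent.ThType.CentSevenGL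

noncomputable def mU : M3 := !![0,0,1;1,0,1;0,1,0]
noncomputable def mU' : M3 := !![1,1,0;0,0,1;1,0,0]
noncomputable def mH : M3 := !![1,0,0;0,0,1;0,1,1]
noncomputable def mH' : M3 := !![1,0,0;0,1,1;0,1,0]

noncomputable def gU : G3 := ⟨mU, mU', by decide +kernel, by decide +kernel⟩
noncomputable def gH : G3 := ⟨mH, mH', by decide +kernel, by decide +kernel⟩

theorem rel : gH * gU * gH⁻¹ = gU ^ 2 := by
  ext1
  show mH * mU * mH' = mU ^ 2
  decide +kernel

theorem orderU : orderOf gU = 7 := by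
  have : Fact (Nat.Prime 7) := ⟨by norm_num⟩
  refine orderOf_eq_prime ?_ ?_
  · ext1
    show mU ^ 7 = 1
    decide +kernel
  · intro e
    have h1 : mU = 1 := congrArg Units.val e
    revert h1
    decide +kernel

/-- **`Th`, `p = 7`.** -/
theorem th_seven {X : Type v} [Group X] (h : Spor.IsoTh X) : KRow.{u, v} 7 X := by
  obtain ⟨e⟩ := h
  obtain ⟨s, F, hs, hinj, hFs, -⟩ := Cfsg.Agent.H904.SV.Th.exists_F
  have H : Inert 7 s (F gU) (F gH) 2 3 := by
    refine inert_seven ?_ hs ?_ (hFs gU).symm (hFs gH) ?_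
    · rw [Cfsg.Agent.H723.Spor.Th.card_th]
      norm_num
    · rw [orderOf_injective F hinj, orderU]
    · rw [← map_inv, ← map_mul, ← map_mul, rel, map_pow]
  exact KRow.congr e.symm (KRow.of_inertial.{u, 0} H (Or.inr ⟨rfl, by norm_num⟩))

end Th

end Cfsg.Agent.H349.K6
end

-- part: H349/K6/SporSevenB
section
/-!
# S4876, `p = 7`: the row of `B` (helper349)

`C_B(7A) = 7 × 2.L₃(4).2`: in the Monster, `C(y) / ⟨y⟩ ≅ He` for an element `y` of order 7 commuting with the
2A-involution `t`, the image of `t` is of type 2A in `He` and `C_He(2A) = 2².L₃(4).2` contains `7:3`.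
-/

set_option autoImplicit false
set_option maxRecDepth 100000

namespace Cfsg.Agent.H349.K6.B

open Cfsg Subgroup

universe u v

/-! ### `He` -/

section He

open Cfsg.Spor.He
open Cfsg.Agent.KFacts.He.Lv Cfsg.Agent.KFacts.He.TwoACent Cfsg.Agent.KFacts.He.TwoAPlane
open Cfsg.Agent.SporadicA.FieldFour Cfsg.Agent.ONType.Psl

noncomputable def mU : Matrix (Fin 3) (Fin 3) F4 := ![![.z, .z, .o], ![.o, .z, .o], ![.z, .o, .z]]
noncomputable def mH : Matrix (Fin 3) (Fin 3) F4 := ![![.o, .z, .z], ![.z, .z, .o], ![.z, .o, .o]]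

theorem det_mU : mU.det = 1 := by rw [Matrix.det_fin_three]; decide +kernel
theorem det_mH : mH.det = 1 := by rw [Matrix.det_fin_three]; decide +kernel

noncomputable def sU : SL3 := ⟨mU, det_mU⟩
noncomputable def sH : SL3 := ⟨mH, det_mH⟩

theorem mrel : mH * mU = mU * mU * mH := by decide +kernel

theorem srel : sH * sU = sU * sU * sH := Subtype.ext mrel

/-- the elements of `PSL₃(4)` -/
noncomputable def pU : PSL3 := (QuotientGroup.mk sU : PSL3)
noncomputable def pH : PSL3 := (QuotientGroup.mk sH : PSL3)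

theorem prel : pH * pU = pU * pU * pH := congrArg (QuotientGroup.mk : SL3 → PSL3) srel

theorem mU7 : mU * mU * mU * mU * mU * mU * mU = 1 := by decide +kernel

theorem pU7 : pU ^ 7 = 1 := by
  have h1 : sU * sU * sU * sU * sU * sU * sU = 1 := Subtype.ext mU7
  have h2 : pU * pU * pU * pU * pU * pU * pU = 1 := congrArg (QuotientGroup.mk : SL3 → PSL3) h1
  rw [← h2]
  simp only [pow_succ, pow_zero, one_mul]

theorem pU_ne : pU ≠ 1 := by
  intro h
  have h1 : sU ∈ center SL3 := (QuotientGroup.eq_one_iff sU).1 h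
  have h2 : sH * sU = sU * sH := mem_center_iff.1 h1 sH
  have h3 : mH * mU = mU * mH := congrArg Subtype.val h2
  revert h3
  decide +kernel

theorem V_pow {x : Spor.He} (hx : x ∈ V) : x ^ 4 = 1 := by
  have h1 : (⟨x, hx⟩ : ↥V) ^ Nat.card ↥V = 1 := pow_card_eq_one'
  rw [card_V] at h1
  exact congrArg Subtype.val h1

/-- **`7:3` in `C_He(2A)`** -/
theorem exists_he : ∃ u h : Spor.He, orderOf u = 7 ∧ u * gn .a = gn .a * u ∧ h * gn .a = gn .a * h ∧
    h * u * h⁻¹ = u ^ 2 := by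
  obtain ⟨u0, hu0⟩ := Th_surjective pU
  obtain ⟨h0, hh0⟩ := Th_surjective pH
  have hk : ∀ x : ↥L, Th x = 1 → (x : Spor.He) ∈ V := by
    intro x hx
    have h1 : x ∈ Th.ker := hx
    rw [ker_Th] at h1
    exact mem_subgroupOf.1 h1
  -- the relation
  have hv : ((h0 * u0 * h0⁻¹ * (u0 * u0)⁻¹ : ↥L) : Spor.He) ∈ V := by
    apply hk
    rw [map_mul, map_mul, map_mul, map_inv, map_inv, map_mul, hu0, hh0, prel]
    group
  obtain ⟨w, hw⟩ : ∃ w : Spor.He, w = ((h0 * u0 * h0⁻¹ * (u0 * u0)⁻¹ : ↥L) : Spor.He) := ⟨_, rfl⟩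
  rw [← hw] at hv
  have hcw : Commute (((u0 : ↥L) : Spor.He)) w := (mem_V.1 hv _ u0.2)
  have hrel : (h0 : Spor.He) * u0 * (h0 : Spor.He)⁻¹ = w * (u0 : Spor.He) ^ 2 := by
    rw [hw]
    show (h0 : Spor.He) * u0 * (h0 : Spor.He)⁻¹ = (h0 : Spor.He) * u0 * (h0 : Spor.He)⁻¹ * ((u0 : Spor.He) * u0)⁻¹ *
      (u0 : Spor.He) ^ 2
    group
  have h7 : ((u0 : Spor.He) ^ 7) ∈ V := by
    have h1 := hk (u0 ^ 7) (by rw [map_pow, hu0, pU7])
    exact h1
  have h56 : ((u0 : Spor.He) ^ 8) ^ 7 = 1 := by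
    rw [← pow_mul, show 8 * 7 = 7 * 4 * 2 by norm_num, pow_mul, pow_mul, V_pow h7, one_pow]
  have hw8 : w ^ 8 = 1 := by
    rw [show 8 = 4 * 2 by norm_num, pow_mul, V_pow hv, one_pow]
  refine ⟨(u0 : Spor.He) ^ 8, h0, ?_, ?_, L_comm_a h0.2, ?_⟩
  · have : Fact (Nat.Prime 7) := ⟨by norm_num⟩
    refine orderOf_eq_prime h56 ?_
    intro h1
    apply pU_ne
    have h2 : Th (u0 ^ 8) = 1 := by
      have h3 : u0 ^ 8 = 1 := Subtype.ext h1
      rw [h3, map_one]
    rw [map_pow, hu0, pow_succ, pU7, one_mul] at h2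
    exact h2
  · have h1 : (u0 : Spor.He) ^ 8 ∈ L := L.pow_mem u0.2 8
    exact L_comm_a h1
  · rw [← conj_pow, hrel, (hcw.symm.pow_right 2).mul_pow, hw8, one_mul, ← pow_mul, ← pow_mul]

end He

/-! ### lifting -/

/-- lifting through a central subgroup of order 7 -/
theorem lift {C : Type u} {F : Type v} [Group C] [Group F] (π : C →* F) (hπ : Function.Surjective π) {x : C}
    (hxc : ∀ c : C, c * x = x * c) (hker : ∀ c, π c = 1 → ∃ k : ℤ, x ^ k = c) (hx : orderOf x = 7)
    {u h τ : F} (hu : orderOf u = 7) (hrel : h * u * h⁻¹ = u ^ 2) {t : C} (ht : t * t = 1) (htτ : π t = τ)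
    (hut : u * τ = τ * u) (hht : h * τ = τ * h) :
    ∃ U H : C, orderOf U = 7 ∧ U * t = t * U ∧ H * t = t * H ∧ H * U * H⁻¹ = U ^ 2 := by
  have hti : t⁻¹ = t := inv_eq_of_mul_eq_one_left ht
  have hx7 : x ^ 7 = 1 := by rw [← hx, pow_orderOf_eq_one]
  have hcz : ∀ (c : C) (k : ℤ), c * x ^ k = x ^ k * c := fun c k => (show Commute c x from hxc c).zpow_right k
  have hx7k : ∀ k : ℤ, (x ^ k) ^ 7 = 1 := by
    intro k
    rw [← zpow_natCast, ← zpow_mul, mul_comm, zpow_mul, zpow_natCast, hx7, one_zpow]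
  -- elements commuting modulo `x`
  have hcomm : ∀ c : C, π c * τ = τ * π c → c * t = t * c := by
    intro c hc
    obtain ⟨k, hk⟩ := hker (c * t * c⁻¹ * t) (by
      rw [map_mul, map_mul, map_mul, map_inv, htτ, hc, ← htτ]
      rw [show π t * π c * (π c)⁻¹ * π t = π t * π t by group, ← map_mul, ht, map_one])
    have h1 : c * t * c⁻¹ = x ^ k * t := by
      rw [hk, mul_assoc (c * t * c⁻¹), ht, mul_one]
    have h2 : x ^ k * x ^ k = 1 := by
      have e1 : (c * t * c⁻¹) * (c * t * c⁻¹) = 1 := by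
        rw [show (c * t * c⁻¹) * (c * t * c⁻¹) = c * (t * t) * c⁻¹ by group, ht]
        group
      rw [h1] at e1
      rw [← e1, show x ^ k * t * (x ^ k * t) = x ^ k * (t * x ^ k) * t by group, hcz t k,
        show x ^ k * (x ^ k * t) * t = x ^ k * x ^ k * (t * t) by group, ht, mul_one]
    have h3 : x ^ k = 1 := by
      have e2 := hx7k k
      rw [show (7 : ℕ) = 2 * 3 + 1 by norm_num, pow_succ, pow_mul, pow_two, h2, one_pow, one_mul] at e2
      exact e2
    rw [h3, one_mul] at h1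
    calc c * t = (c * t * c⁻¹) * c := by group
      _ = t * c := by rw [h1]
  obtain ⟨U0, rfl⟩ := hπ u
  obtain ⟨H, rfl⟩ := hπ h
  obtain ⟨k, hk⟩ := hker ((U0 ^ 2)⁻¹ * (H * U0 * H⁻¹)) (by
    rw [map_mul, map_inv, map_pow, map_mul, map_mul, map_inv, hrel, inv_mul_cancel])
  have hk' : H * U0 * H⁻¹ = U0 ^ 2 * x ^ k := by rw [hk, mul_inv_cancel_left]
  have hxk : ∀ c : C, Commute c (x ^ k) := fun c => hcz c k
  have hrel' : H * (U0 * x ^ k) * H⁻¹ = (U0 * x ^ k) ^ 2 := by
    rw [(hxk U0).mul_pow]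
    calc H * (U0 * x ^ k) * H⁻¹ = H * U0 * (x ^ k * H⁻¹) := by group
      _ = H * U0 * (H⁻¹ * x ^ k) := by rw [(hxk H⁻¹).eq]
      _ = (H * U0 * H⁻¹) * x ^ k := by group
      _ = U0 ^ 2 * x ^ k * x ^ k := by rw [hk']
      _ = U0 ^ 2 * (x ^ k) ^ 2 := by rw [mul_assoc, pow_two (x ^ k)]
  have hpxk : π (x ^ k) = 1 := by
    rw [hk, map_mul, map_inv, map_pow, map_mul, map_mul, map_inv, hrel, inv_mul_cancel]
  have hpU : π (U0 * x ^ k) = π U0 := by rw [map_mul, hpxk, mul_one]
  refine ⟨U0 * x ^ k, H, ?_, ?_, ?_, hrel'⟩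
  · have : Fact (Nat.Prime 7) := ⟨by norm_num⟩
    refine orderOf_eq_prime ?_ ?_
    · obtain ⟨m, hm⟩ := hker ((U0 * x ^ k) ^ 7) (by rw [map_pow, hpU, ← hu, pow_orderOf_eq_one])
      have h1 : H * (U0 * x ^ k) ^ 7 * H⁻¹ = ((U0 * x ^ k) ^ 7) ^ 2 := by
        rw [← conj_pow, hrel', ← pow_mul, ← pow_mul, mul_comm]
      rw [← hm, hcz H m, mul_inv_cancel_right, pow_two] at h1
      rw [← hm]
      exact (mul_eq_left.1 h1.symm)
    · intro h1
      rw [h1, map_one] at hpU
      rw [← hpU, orderOf_one] at hu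
      exact absurd hu (by norm_num)
  · exact hcomm _ (by rw [hpU]; exact hut)
  · exact hcomm _ hht

/-! ### the Monster -/

section M

open Cfsg.Agent.BpTab Cfsg.Agent.CpAutBFive Cfsg.Agent.MFive
open Cfsg.Agent.LThreeMB (fr Zx XX KChart.Cent KChart.pi KChart.chart mk mk_eq_one mk_eq_mk mk_congr mk_mul exists_mk
  conj_comm tt)
open Cfsg.Agent.MonsterU Cfsg.Agent.MonsterU.Ch
open Cfsg.Agent.MonsterX
open Cfsg.Agent.MonsterU.Lam2 (L2)
open Cfsg.Spor (Co1)
open Cfsg.Agent.KFacts.He.Lv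

theorem small_of_conj {τ : Spor.He} (h : IsConj (gn .a) τ) : BpMon.Small τ := by
  obtain ⟨g, hg⟩ := isConj_iff.1 h
  let f : MulAut Cfsg.Spor.He := MulAut.conj g
  have hf : f ((Cfsg.Agent.KFacts.He.Lv.gn .a)) = τ := hg
  intro P hP hc hn
  have h4 := BpMon.small_a (P.map f.symm.toMonoidHom) (hP.map _) (by
    rintro _ ⟨q, hq, rfl⟩
    apply f.injective
    show f (f.symm q * _) = f (_ * f.symm q)
    rw [map_mul, map_mul, f.apply_symm_apply, hf, hc q hq]) (by
    rintro c hcc _ ⟨q, hq, rfl⟩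
    refine ⟨f c * q * (f c)⁻¹, hn (f c) (by rw [← hf, ← map_mul, ← map_mul, hcc]) q hq, ?_⟩
    show f.symm (f c * q * (f c)⁻¹) = c * f.symm q * c⁻¹
    rw [map_mul, map_mul, map_inv, f.symm_apply_apply])
  rwa [Nat.card_congr (equivMapOfInjective _ _ f.symm.injective).toEquiv.symm] at h4

theorem he_of_conj {τ : Spor.He} (h : IsConj (gn .a) τ) : ∃ u k : Spor.He, orderOf u = 7 ∧ u * τ = τ * u ∧
    k * τ = τ * k ∧ k * u * k⁻¹ = u ^ 2 := by
  obtain ⟨g, hg⟩ := isConj_iff.1 h
  obtain ⟨u, k, h1, h2, h3, h4⟩ := exists_he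
  have hc : ∀ c : Spor.He, c * gn .a = gn .a * c → (g * c * g⁻¹) * τ = τ * (g * c * g⁻¹) := by
    intro c hc
    rw [← hg]
    calc g * c * g⁻¹ * (g * gn .a * g⁻¹) = g * (c * gn .a) * g⁻¹ := by group
      _ = g * (gn .a * c) * g⁻¹ := by rw [hc]
      _ = _ := by group
  refine ⟨g * u * g⁻¹, g * k * g⁻¹, ?_, hc _ h2, hc _ h3, ?_⟩
  · rw [← h1]
    exact MulEquiv.orderOf_eq (MulAut.conj g) u
  · rw [conj_pow, ← h4]
    group

theorem exists_mem {x : centralizer ({KDone.K.z} : Set ↥InstData.M.G)} (hx : orderOf x = 7) {t : ↥InstData.M.G}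
    (ht : orderOf t = 2) (hxt : (x : ↥InstData.M.G) * t = t * x) (hnt : ∀ d : ↥InstData.M.G, d * t * d⁻¹ ≠ KDone.K.z) :
    ∃ U H : ↥InstData.M.G, orderOf U = 7 ∧ U * x = x * U ∧ H * x = x * H ∧ U * t = t * U ∧ H * t = t * H ∧
      H * U * H⁻¹ = U ^ 2 := by
  have := MFive.Row.finite_model
  have h := KChart.chart KDone.lft MFive.Row.hc
  have hp : Nat.Prime 7 := by norm_num
  rcases CpAutMSeven.Ranks.hranks _ (MFive.orderOf_pi h hp (by decide) hx) with h6 | h6
  · obtain ⟨d, hd⟩ := BpMon.BSeven.conj_z hx h6 ht hxt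
    exfalso
    refine hnt d⁻¹ ?_
    rw [← hd]
    group
  obtain ⟨e⟩ : Spor.IsoHe (XX (x : ↥InstData.M.G)) := CpAutMSeven.ZeroComps.heSix x hx h6
  have hxo : orderOf (x : ↥InstData.M.G) = 7 := by rw [Subgroup.orderOf_coe, hx]
  have hxp : (x : ↥InstData.M.G) ^ 7 = 1 := by rw [← hxo, pow_orderOf_eq_one]
  have htt : t * t = 1 := by rw [← pow_two, ← ht, pow_orderOf_eq_one]
  have ht1 : t ≠ 1 := by
    intro h1
    rw [h1, orderOf_one] at ht
    exact absurd ht (by norm_num)
  -- an involution commuting with `x` is not in `⟨x⟩`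
  have hpow : ∀ s : ↥InstData.M.G, s * s = 1 → s ^ 7 = s := fun s hs => by
    rw [show 7 = 2 * 3 + 1 by norm_num, pow_succ, pow_mul, pow_two, hs, one_pow, one_mul]
  have hinv : ∀ s : ↥InstData.M.G, s * s = 1 → s ≠ 1 → ∀ hs : s * (x : ↥InstData.M.G) = x * s,
      _root_.Cfsg.Agent.LThreeMB.mk (x : ↥InstData.M.G) hs * _root_.Cfsg.Agent.LThreeMB.mk (x : ↥InstData.M.G) hs = 1 ∧ _root_.Cfsg.Agent.LThreeMB.mk (x : ↥InstData.M.G) hs ≠ 1 := by
    intro s hss hs1 hs
    constructor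
    · rw [mk_mul hs hs (by rw [hss, one_mul, mul_one])]
      rw [mk_congr _ (by rw [one_mul, mul_one]) hss]
      rfl
    · intro h1
      obtain ⟨i, hi⟩ := (_root_.Cfsg.Agent.LThreeMB.mk_eq_one hs).1 h1
      apply hs1
      have h2 : s ^ 7 = 1 := by rw [← hi, ← zpow_natCast, ← zpow_mul, mul_comm, zpow_mul, zpow_natCast, hxp, one_zpow]
      rwa [hpow s hss] at h2
  have hcl : ∀ (s : ↥InstData.M.G) (hs : s * (x : ↥InstData.M.G) = x * s), s * s = 1 → s ≠ 1 →
      IsConj CTwoTab.He.z (e (_root_.Cfsg.Agent.LThreeMB.mk (x : ↥InstData.M.G) hs)) ∨ IsConj (gn .a) (e (_root_.Cfsg.Agent.LThreeMB.mk (x : ↥InstData.M.G) hs)) := by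
    intro s hs hss hs1
    obtain ⟨h1, h2⟩ := hinv s hss hs1 hs
    exact CTwoTab.He.classes (by rw [← map_mul, h1, map_one]) (by rwa [ne_eq, e.map_eq_one_iff])
  have hzz : KDone.K.z * KDone.K.z = 1 := h.large.z_sq
  have hzx : KDone.K.z * (x : ↥InstData.M.G) = x * KDone.K.z := (mem_centralizer_singleton_iff.1 x.2).symm
  have hz : IsConj CTwoTab.He.z (e (tt x)) := by
    rcases hcl KDone.K.z hzx hzz h.large.z_ne with h1 | h1
    · exact h1
    · exact absurd (small_of_conj h1) (BpMon.not_small h hp (by norm_num) hx (by rw [h6]; norm_num) ⟨6, h6⟩ e)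
  have hτ : IsConj (gn .a) (e (_root_.Cfsg.Agent.LThreeMB.mk (x : ↥InstData.M.G) hxt.symm)) := by
    rcases hcl t hxt.symm htt ht1 with h1 | h1
    · exfalso
      obtain ⟨c, hc⟩ := isConj_iff.1 (h1.symm.trans hz)
      obtain ⟨c, rfl⟩ := e.surjective c
      rw [← map_mul, ← map_inv, ← map_mul] at hc
      obtain ⟨g, hg, rfl⟩ := exists_mk c
      have hc2 := e.injective hc
      have h3 : _root_.Cfsg.Agent.LThreeMB.mk (x : ↥InstData.M.G) (conj_comm hg hxt.symm) = _root_.Cfsg.Agent.LThreeMB.mk (x : ↥InstData.M.G) hzx := hc2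
      obtain ⟨i, hi⟩ := (mk_eq_mk _ _).1 h3
      -- `g t g⁻¹ x^i = z`
      apply hnt g
      have hcx : Commute (g * t * g⁻¹) ((x : ↥InstData.M.G) ^ i) :=
        (show Commute (g * t * g⁻¹) (x : ↥InstData.M.G) from conj_comm hg hxt.symm).zpow_right i
      have h4 : (g * t * g⁻¹ * (x : ↥InstData.M.G) ^ i) ^ 7 = KDone.K.z ^ 7 := by rw [hi]
      have h5 : (g * t * g⁻¹) * (g * t * g⁻¹) = 1 := by
        calc (g * t * g⁻¹) * (g * t * g⁻¹) = g * (t * t) * g⁻¹ := by group
          _ = 1 := by rw [htt]; group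
      rw [hcx.mul_pow, hpow _ h5, hpow _ hzz, ← zpow_natCast ((x : ↥InstData.M.G) ^ i), ← zpow_mul, mul_comm i,
        zpow_mul, zpow_natCast, hxp, one_zpow, mul_one] at h4
      exact h4
    · exact h1
  obtain ⟨u, k, hu, hut, hkt, hrel⟩ := he_of_conj hτ
  -- lifting
  let C := ↥(centralizer ({(x : ↥InstData.M.G)} : Set ↥InstData.M.G))
  let π : C →* Spor.He := e.toMonoidHom.comp (QuotientGroup.mk' (Zx (x : ↥InstData.M.G)))
  have hπ : Function.Surjective π := e.surjective.comp (QuotientGroup.mk'_surjective _)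
  obtain ⟨U, H, h1, h2, h3, h4⟩ := lift π hπ (x := ⟨(x : ↥InstData.M.G), mem_centralizer_singleton_iff.2 rfl⟩)
    (fun c => Subtype.ext (mem_centralizer_singleton_iff.1 c.2)) (fun c hc => by
      have h5 : e (_root_.Cfsg.Agent.LThreeMB.mk (x : ↥InstData.M.G) (mem_centralizer_singleton_iff.1 c.2)) = 1 := hc
      rw [e.map_eq_one_iff] at h5
      obtain ⟨i, hi⟩ := (Cfsg.Agent.LThreeMB.mk_eq_one (mem_centralizer_singleton_iff.1 c.2)).1 h5
      exact ⟨i, Subtype.ext hi⟩) (by rw [← Subgroup.orderOf_coe]; exact hxo) hu hrel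
    (t := ⟨t, mem_centralizer_singleton_iff.2 hxt.symm⟩) (Subtype.ext htt) rfl hut hkt
  refine ⟨U, H, by rw [Subgroup.orderOf_coe, h1], mem_centralizer_singleton_iff.1 U.2,
    mem_centralizer_singleton_iff.1 H.2, congrArg Subtype.val h2, congrArg Subtype.val h3, ?_⟩
  exact congrArg Subtype.val h4

/-- the general 2A-involution -/
theorem exists_gen {v y : ↥InstData.M.G} (hv : IsConj BpSpor.BCover.t v) (hy : orderOf y = 7) (hyv : y * v = v * y) :
    ∃ U H : ↥InstData.M.G, orderOf U = 7 ∧ U * y = y * U ∧ H * y = y * H ∧ U * v = v * U ∧ H * v = v * H ∧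
      H * U * H⁻¹ = U ^ 2 := by
  have := MFive.Row.finite_model
  have ht := RowB.orderOf_t hv
  have hnt := RowB.not_conj hv
  have he : 2 ∣ Nat.card ↥(centralizer ({y} : Set ↥InstData.M.G)) := by
    have h1 : orderOf (⟨v, mem_centralizer_singleton_iff.2 hyv.symm⟩ : ↥(centralizer ({y} : Set ↥InstData.M.G))) = 2 := by
      rw [← Subgroup.orderOf_coe]
      exact ht
    rw [← h1]
    exact _root_.orderOf_dvd_natCard _
  obtain ⟨g, hg⟩ := MSevenT.hex7 y hy he
  have h1 : (g⁻¹ * y * g) * KDone.K.z = KDone.K.z * (g⁻¹ * y * g) := by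
    calc (g⁻¹ * y * g) * KDone.K.z = g⁻¹ * (y * (g * KDone.K.z * g⁻¹)) * g := by group
      _ = g⁻¹ * ((g * KDone.K.z * g⁻¹) * y) * g := by rw [hg]
      _ = KDone.K.z * (g⁻¹ * y * g) := by group
  obtain ⟨x', hx'⟩ : ∃ x' : centralizer ({KDone.K.z} : Set ↥InstData.M.G), (x' : ↥InstData.M.G) = g⁻¹ * y * g :=
    ⟨⟨g⁻¹ * y * g, mem_centralizer_singleton_iff.2 h1⟩, rfl⟩
  have hconj : ∀ c : ↥InstData.M.G, orderOf (g⁻¹ * c * g) = orderOf c := by
    intro c
    have h6 := MulEquiv.orderOf_eq (MulAut.conj g⁻¹) c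
    rwa [MulAut.conj_apply, inv_inv] at h6
  have hx7 : orderOf x' = 7 := by rw [← Subgroup.orderOf_coe, hx', hconj, hy]
  have h4 : (x' : ↥InstData.M.G) * (g⁻¹ * v * g) = (g⁻¹ * v * g) * x' := by
    rw [hx']
    calc g⁻¹ * y * g * (g⁻¹ * v * g) = g⁻¹ * (y * v) * g := by group
      _ = g⁻¹ * (v * y) * g := by rw [hyv]
      _ = _ := by group
  obtain ⟨U, H, a1, a2, a3, a4, a5, a6⟩ := exists_mem hx7 (t := g⁻¹ * v * g) (by rw [hconj, ht]) h4 (by
    intro d hd
    refine hnt (d * g⁻¹) ?_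
    rw [← hd]
    group)
  have hback : ∀ c d : ↥InstData.M.G, c * (g⁻¹ * d * g) = (g⁻¹ * d * g) * c → (g * c * g⁻¹) * d = d * (g * c * g⁻¹) := by
    intro c d hcd
    calc g * c * g⁻¹ * d = g * (c * (g⁻¹ * d * g)) * g⁻¹ := by group
      _ = g * ((g⁻¹ * d * g) * c) * g⁻¹ := by rw [hcd]
      _ = _ := by group
  rw [hx'] at a2 a3
  refine ⟨g * U * g⁻¹, g * H * g⁻¹, ?_, hback _ _ a2, hback _ _ a3, hback _ _ a4, hback _ _ a5, ?_⟩
  · rw [← a1]
    exact MulEquiv.orderOf_eq (MulAut.conj g) U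
  · rw [conj_pow, ← a6]
    group

end M

/-! ### the Baby Monster -/

theorem exists_inert {L : Type u} [Group L] (h : Spor.IsoB L) :
    ∃ x y k : L, Cfsg.Agent.H404.K6.Inert 7 x y k 2 3 := by
  have := MFive.Row.finite_model
  have hcL : Nat.card L = 4154781481226426191177580544000000 := by
    obtain ⟨e⟩ := h
    rw [Nat.card_congr e.toEquiv, BM.KHAll.card_B]
  obtain ⟨t, ht, h2, ⟨e⟩⟩ := H436.B7.exists_cover h
  obtain ⟨q, hq⟩ : ∃ q : ↥(centralizer ({t} : Set ↥MonsterX.InstData.M.G)) →* L, q =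
    e.toMonoidHom.comp (QuotientGroup.mk' (center ↥(centralizer ({t} : Set ↥MonsterX.InstData.M.G)))) := ⟨_, rfl⟩
  have hqs : Function.Surjective q := by
    rw [hq]
    exact e.surjective.comp (QuotientGroup.mk'_surjective _)
  have hqk : ∀ c, q c = 1 → c ^ 2 = 1 := by
    intro c hc
    rw [hq] at hc
    have h3 : e (QuotientGroup.mk c) = 1 := hc
    rw [map_eq_one_iff e e.injective, QuotientGroup.eq_one_iff] at h3
    have h4 : (⟨c, h3⟩ : ↥(center ↥(centralizer ({t} : Set ↥MonsterX.InstData.M.G)))) ^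
      Nat.card ↥(center ↥(centralizer ({t} : Set ↥MonsterX.InstData.M.G))) = 1 := pow_card_eq_one'
    rw [h2] at h4
    exact congrArg Subtype.val h4
  have : Fact (Nat.Prime 7) := ⟨by norm_num⟩
  -- images of elements of order 7
  have h7 : ∀ c, orderOf c = 7 → orderOf (q c) = 7 := by
    intro c hc
    refine orderOf_eq_prime ?_ ?_
    · rw [← map_pow, ← hc, pow_orderOf_eq_one, map_one]
    · intro h3
      have h4 := orderOf_dvd_of_pow_eq_one (hqk c h3)
      rw [hc] at h4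
      exact absurd (Nat.le_of_dvd (by norm_num) h4) (by norm_num)
  have hdvd : 7 ∣ Nat.card ↥(centralizer ({t} : Set ↥MonsterX.InstData.M.G)) := by
    refine dvd_trans ?_ (card_dvd_of_surjective q hqs)
    rw [hcL]
    norm_num
  obtain ⟨y, hy⟩ := exists_prime_orderOf_dvd_card' (G := ↥(centralizer ({t} : Set ↥MonsterX.InstData.M.G))) 7 hdvd
  obtain ⟨U, H, a1, a2, a3, a4, a5, a6⟩ := exists_gen ht (y := (y : ↥MonsterX.InstData.M.G))
    (by rw [Subgroup.orderOf_coe, hy]) (mem_centralizer_singleton_iff.1 y.2)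
  obtain ⟨U', hU'⟩ : ∃ U' : ↥(centralizer ({t} : Set ↥MonsterX.InstData.M.G)), (U' : ↥MonsterX.InstData.M.G) = U :=
    ⟨⟨U, mem_centralizer_singleton_iff.2 a4⟩, rfl⟩
  obtain ⟨H', hH'⟩ : ∃ H' : ↥(centralizer ({t} : Set ↥MonsterX.InstData.M.G)), (H' : ↥MonsterX.InstData.M.G) = H :=
    ⟨⟨H, mem_centralizer_singleton_iff.2 a5⟩, rfl⟩
  have b2 : U' * y = y * U' := Subtype.ext (by
    show (U' : ↥MonsterX.InstData.M.G) * y = y * U'
    rw [hU', a2])
  have b3 : H' * y = y * H' := Subtype.ext (by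
    show (H' : ↥MonsterX.InstData.M.G) * y = y * H'
    rw [hH', a3])
  have b6 : H' * U' * H'⁻¹ = U' ^ 2 := Subtype.ext (by
    show (H' : ↥MonsterX.InstData.M.G) * U' * (H' : ↥MonsterX.InstData.M.G)⁻¹ = (U' : ↥MonsterX.InstData.M.G) ^ 2
    rw [hH', hU', a6])
  refine ⟨q y, q U', q H', inert_seven ?_ (h7 y hy) (h7 U' ?_) ?_ ?_ ?_⟩
  · rw [hcL]
    norm_num
  · rw [← Subgroup.orderOf_coe, hU', a1]
  · show q y * q U' = q U' * q y
    rw [← map_mul, ← map_mul, b2]
  · show q H' * q y = q y * q H'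
    rw [← map_mul, ← map_mul, b3]
  · rw [← map_inv, ← map_mul, ← map_mul, b6, map_pow]

/-- **`B`, `p = 7`.** -/
theorem b_seven {X : Type v} [Group X] (h : Spor.IsoB X) : Cfsg.Agent.H61.K6.KRow.{u, v} 7 X := by
  obtain ⟨x, y, k, H⟩ := exists_inert h
  exact H404.K6.KRow.of_inertial.{u, v} H (Or.inr ⟨rfl, by norm_num⟩)

end Cfsg.Agent.H349.K6.B
end

-- part: H121/K6/CoMat
section
/-!
# More elements of `Co2` and `Co3` (helper121)

`R1`, `R2` generate `5^(1+2)` (`H49.MatMcL`); `R4` of order 4 and `R6` of order 6 centralize its centre and fix `leechV`;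
`R5` of order 4 commutes with `R1`, squares `R2` and fixes `leechU`.
-/

set_option autoImplicit false
set_option maxRecDepth 20000

namespace Cfsg.Agent.H121.K6.CoMat

open Cfsg.Agent.LThreeCo1.Ev Cfsg.Agent.SporadicStructure.Co0Matrix Cfsg.Agent.CoOneType.CoEval
open Cfsg.Agent.H49.MatMcL

/-- matrix (times 8) -/
noncomputable def R4 : List (List ℤ) :=
  (by
  refine (?fq9008 : ((pk61l (fun i1 => (pk61l (fun i2 => (pk61z (pk61d (nat_lit 4) 
    (nat_lit 0x844400044400044040400403033300044300844040400304407043300044300403043040400734400044300404033030044300034300043040380404033400034400033048400404034400044408043030300304034380033400044030400404044300043400033040400384470034400033300403044040043400843300043030400404034400043380034040300404400044300734300304034040400044400034470303043030400033307034400404044030043408033400044040300304043300044400034030308404044400034300034830400304400034300043400374043040400033470044400303034040400043400033400404733040400043400043300304044730400044300043407403034030300044400044400404044047)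 i2))) (Nat.mul (nat_lit 24) i1) (Nat.mul (nat_lit 24) (Nat.succ i1)) List.nil)) (nat_lit 0) (nat_lit 24) List.nil) : List (List ℤ))
    = ?xq9008 → (List (List ℤ))) ?hq9008; (case hq9008 => (set_option maxRecDepth 1000000 in conv => lhs; reduce)); intro _; exact ?xq9008 : List (List ℤ))

theorem ok4 : Ok R4 (tr R4) := Cfsg.Agent.Co0Q.ok_of (by decide +kernel)

/-- matrix (times 8) -/
noncomputable def R6 : List (List ℤ) :=
  (by
  refine (?fq9010 : ((pk61l (fun i1 => (pk61l (fun i2 => (pk61z (pk61d (nat_lit 4) 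
    (nat_lit 0xa212222221622222121121262212252221152222126651212562252221122225621121212212225521122222656121211121666162211111212212622215522221122225126126212212252226122252151126211121111662261166212212121121111112211616262262622262522526122222121151211626116112211161212262122265222251122222151621211621611112266111262212122212222251125222621156212512222521122222121626512262225221152522121126212212522221122552621621212262222221125252126121516121111112a111112122121511261616122166112122121222152222261522226211215122122252261252251216212125122222561225221261212161211111125111112122121a) i2))) (Nat.mul (nat_lit 24) i1) (Nat.mul (nat_lit 24) (Nat.succ i1)) List.nil)) (nat_lit 0) (nat_lit 24) List.nil) : List (List ℤ))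
    = ?xq9010 → (List (List ℤ))) ?hq9010; (case hq9010 => (set_option maxRecDepth 1000000 in conv => lhs; reduce)); intro _; exact ?xq9010 : List (List ℤ))

theorem ok6 : Ok R6 (tr R6) := Cfsg.Agent.Co0Q.ok_of (by decide +kernel)

/-- The matrices in `Co3`. -/
noncomputable def M3 : ℕ → List (List ℤ)
  | 2 => R2
  | 3 => R3
  | 4 => R4
  | 6 => R6
  | _ => R1

theorem okM3 (i : ℕ) : Ok (M3 i) (tr (M3 i)) := by
  unfold M3
  split
  · exact ok2
  · exact ok3
  · exact ok4
  · exact ok6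
  · exact ok1

end Cfsg.Agent.H121.K6.CoMat
end

-- part: H121/K6/Co3
section
/-!
# S4876, `p = 5`: the row of `Co3` (helper121)

`z = [x, y]` central in the Sylow subgroup `⟨x, y⟩`: weight 5 (`⟨x, y⟩` is normal in `C(z)`, elements of orders 4 and 6).
-/

set_option autoImplicit false
set_option maxRecDepth 20000

open Cfsg Subgroup

namespace Cfsg.Agent.H121.K6.Co3

open Cfsg.Agent.SporadicA Cfsg.Agent.SporadicStructure.Co0Matrix Cfsg.Agent.CoOneType.CoEval
open Cfsg.Agent.CoOneType.CoFast Cfsg.Agent.LThreeCo1.Ev Cfsg.Agent.H49.Stab Cfsg.Agent.H49.MatMcL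
open Cfsg.Agent.H49.CoThreeThree (vL vecV_eq)
open Cfsg.Agent.H61.K6 Cfsg.Agent.H80.K6 Cfsg.Agent.H121.K6.CoMat
open scoped commutatorElement

universe u v

theorem k_fix : apZ R4 vL = vL ∧ apZ R6 vL = vL := by decide +kernel

theorem fix (i : ℕ) : (el okM3 i).1 Spor.leechV = Spor.leechV := by
  apply Subtype.ext
  refine (Rep.apply (rep_mk (okM3 i)) (l := vL) (by decide) vecV_eq).trans ?_
  rw [← apZ_eq, vecV_eq]
  congr 1
  obtain ⟨h1, h2, h3⟩ := Cfsg.Agent.H49.McLFive.k_fixV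
  obtain ⟨h4, h6⟩ := k_fix
  unfold M3
  split <;> assumption

/-- the group -/
abbrev G : Type := Spor.Co3

/-- the letters -/
noncomputable def e (i : ℕ) : G := xs okM3 fix i

theorem W {w w' : List ℕ} (h : eqB (xM M3) w w' = true) : (w.map e).prod = (w'.map e).prod := word_eq okM3 fix h

theorem N {w w' : List ℕ} (h : neB' (xM M3) w w' = true) : (w.map e).prod ≠ (w'.map e).prod := word_ne okM3 fix h

theorem e33 : e 33 = (e 1)⁻¹ := xs_inv okM3 fix (i := 1) (by norm_num)
theorem e34 : e 34 = (e 2)⁻¹ := xs_inv okM3 fix (i := 2) (by norm_num)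

theorem c1 : eqB (xM M3) (List.replicate 5 1) [] = true := by delta eqB; rw [Cfsg.Agent.Co0Q.foldZ_eq]; decide +kernel
theorem c2 : eqB (xM M3) (List.replicate 5 2) [] = true := by delta eqB; rw [Cfsg.Agent.Co0Q.foldZ_eq]; decide +kernel
theorem c3 : eqB (xM M3) [1, 2, 33, 34, 1] [1, 1, 2, 33, 34] = true := by delta eqB; rw [Cfsg.Agent.Co0Q.foldZ_eq]; decide +kernel
theorem c4 : eqB (xM M3) [1, 2, 33, 34, 2] [2, 1, 2, 33, 34] = true := by delta eqB; rw [Cfsg.Agent.Co0Q.foldZ_eq]; decide +kernel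
theorem c5 : neB' (xM M3) [1, 2, 33, 34] [] = true := by delta neB'; rw [Cfsg.Agent.Co0Q.foldZ_eq]; decide +kernel
theorem c6 : eqB (xM M3) [3, 1] [33, 3] = true := by delta eqB; rw [Cfsg.Agent.Co0Q.foldZ_eq]; decide +kernel
theorem d1 : eqB (xM M3) [4, 1] [1, 1, 1, 2, 2, 4] = true := by delta eqB; rw [Cfsg.Agent.Co0Q.foldZ_eq]; decide +kernel
theorem d2 : eqB (xM M3) [4, 2] [2, 2, 4] = true := by delta eqB; rw [Cfsg.Agent.Co0Q.foldZ_eq]; decide +kernel
theorem d3 : eqB (xM M3) [4, 1, 2, 33, 34] [1, 2, 33, 34, 4] = true := by delta eqB; rw [Cfsg.Agent.Co0Q.foldZ_eq]; decide +kernel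
theorem d4 : eqB (xM M3) [4, 4, 4, 4] [] = true := by delta eqB; rw [Cfsg.Agent.Co0Q.foldZ_eq]; decide +kernel
theorem f1 : eqB (xM M3) [6, 1] [1, 1, 1, 1, 2, 6] = true := by delta eqB; rw [Cfsg.Agent.Co0Q.foldZ_eq]; decide +kernel
theorem f2 : eqB (xM M3) [6, 2] [1, 1, 2, 2, 6] = true := by delta eqB; rw [Cfsg.Agent.Co0Q.foldZ_eq]; decide +kernel
theorem f3 : eqB (xM M3) [6, 1, 2, 33, 34] [1, 2, 33, 34, 6] = true := by delta eqB; rw [Cfsg.Agent.Co0Q.foldZ_eq]; decide +kernel
theorem f4 : eqB (xM M3) [6, 6, 6, 6, 6, 6] [] = true := by delta eqB; rw [Cfsg.Agent.Co0Q.foldZ_eq]; decide +kernel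
theorem n1 : ∀ k : Fin 3, neB' (xM M3) (1 :: List.replicate (k + 1) 4) (List.replicate (k + 1) 4 ++ [1]) = true := by
  delta neB'; rw [Cfsg.Agent.Co0Q.foldZ_eq]; decide +kernel
theorem n2 : ∀ k : Fin 5, neB' (xM M3) (1 :: List.replicate (k + 1) 6) (List.replicate (k + 1) 6 ++ [1]) = true := by
  delta neB'; rw [Cfsg.Agent.Co0Q.foldZ_eq]; decide +kernel

/-- generator -/
noncomputable def x : G := e 1
/-- generator -/
noncomputable def y : G := e 2
/-- the central element -/
noncomputable def z : G := ⁅x, y⁆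

theorem z_word : (([1, 2, 33, 34] : List ℕ).map e).prod = z := by
  simp only [List.map_cons, List.map_nil, List.prod_cons, List.prod_nil, mul_one, e33, e34]
  rw [z, commutatorElement_def, x, y]
  simp only [mul_assoc]

theorem happ (l l' : List ℕ) : ((l ++ l').map e).prod = (l.map e).prod * (l'.map e).prod := by
  rw [List.map_append, List.prod_append]

theorem hone (i : ℕ) : (([i] : List ℕ).map e).prod = e i := by simp

theorem x5 : x ^ 5 = 1 := by
  have := W c1
  rwa [List.map_replicate, List.prod_replicate] at this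

theorem y5 : y ^ 5 = 1 := by
  have := W c2
  rwa [List.map_replicate, List.prod_replicate] at this

theorem zx : z * x = x * z := by
  have h1 : (([1, 2, 33, 34] ++ [1] : List ℕ).map e).prod = (([1] ++ [1, 2, 33, 34] : List ℕ).map e).prod := W c3
  rwa [happ, happ, z_word, hone] at h1

theorem zy : z * y = y * z := by
  have h1 : (([1, 2, 33, 34] ++ [2] : List ℕ).map e).prod = (([2] ++ [1, 2, 33, 34] : List ℕ).map e).prod := W c4
  rwa [happ, happ, z_word, hone] at h1

theorem z_ne : z ≠ 1 := by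
  have := N c5
  rw [z_word] at this
  exact this

/-- the Sylow subgroup -/
noncomputable abbrev P : Subgroup G := _root_.Subgroup.closure {x, y}

theorem xP : x ∈ P := _root_.Subgroup.subset_closure (Or.inl rfl)
theorem yP : y ∈ P := _root_.Subgroup.subset_closure (Or.inr rfl)
instance finG : Finite G := CpAutCoFive.finite_co3

theorem z5 : z ^ 5 = 1 := Cfsg.Agent.H51.Tools.pow_comm_eq_one x5 zx zy

theorem isPGroup : IsPGroup 5 P := by
  have : Fact (Nat.Prime 5) := ⟨Nat.prime_five⟩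
  exact Cfsg.Agent.H51.Tools.isPGroup_closure x5 y5 z5 zx zy

theorem order_z : orderOf z = 5 := by
  have : Fact (Nat.Prime 5) := ⟨Nat.prime_five⟩
  exact orderOf_eq_prime z5 z_ne

theorem card_P : 125 ∣ Nat.card P := by
  have := Cfsg.Agent.H51.Tools.cube_dvd_card Nat.prime_five x5 y5 zx zy z_ne
  norm_num only [] at this
  exact this

theorem P_le : P ≤ centralizer ({z} : Set G) := by
  rw [closure_le]
  rintro g (rfl | rfl)
  · exact mem_centralizer_singleton_iff.2 zx.symm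
  · exact mem_centralizer_singleton_iff.2 zy.symm

theorem zcomm {i : ℕ} (h : eqB (xM M3) [i, 1, 2, 33, 34] [1, 2, 33, 34, i] = true) : e i * z = z * e i := by
  have h1 : (([i] ++ [1, 2, 33, 34] : List ℕ).map e).prod = (([1, 2, 33, 34] ++ [i] : List ℕ).map e).prod := W h
  rwa [happ, happ, z_word, hone] at h1

theorem mem_of_word {i j : ℕ} {w : List ℕ} (hw : ∀ k ∈ w, k = 1 ∨ k = 2) (h : e i * e j = (w.map e).prod * e i) :
    e i * e j * (e i)⁻¹ ∈ P := by
  rw [h, mul_inv_cancel_right]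
  apply list_prod_mem
  intro g hg
  obtain ⟨k, hk, rfl⟩ := List.mem_map.1 hg
  rcases hw k hk with rfl | rfl
  · exact xP
  · exact yP

theorem norm_b : e 4 ∈ normalizer (P : Set G) := by
  refine mem_normalizer_closure ?_
  rintro g (rfl | rfl)
  · refine mem_of_word (w := [1, 1, 1, 2, 2]) (by decide) ?_
    have h1 : (([4] ++ [1] : List ℕ).map e).prod = (([1, 1, 1, 2, 2] ++ [4] : List ℕ).map e).prod := W d1
    rwa [happ, happ, hone, hone] at h1
  · refine mem_of_word (w := [2, 2]) (by decide) ?_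
    have h1 : (([4] ++ [2] : List ℕ).map e).prod = (([2, 2] ++ [4] : List ℕ).map e).prod := W d2
    rwa [happ, happ, hone, hone] at h1

theorem norm_d : e 6 ∈ normalizer (P : Set G) := by
  refine mem_normalizer_closure ?_
  rintro g (rfl | rfl)
  · refine mem_of_word (w := [1, 1, 1, 1, 2]) (by decide) ?_
    have h1 : (([6] ++ [1] : List ℕ).map e).prod = (([1, 1, 1, 1, 2] ++ [6] : List ℕ).map e).prod := W f1
    rwa [happ, happ, hone, hone] at h1
  · refine mem_of_word (w := [1, 1, 2, 2]) (by decide) ?_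
    have h1 : (([6] ++ [2] : List ℕ).map e).prod = (([1, 1, 2, 2] ++ [6] : List ℕ).map e).prod := W f2
    rwa [happ, happ, hone, hone] at h1

theorem b4 : (e 4) ^ 4 = 1 := by
  have h1 : ((List.replicate 4 4).map e).prod = (([] : List ℕ).map e).prod := W d4
  rwa [List.map_replicate, List.prod_replicate] at h1

theorem d6 : (e 6) ^ 6 = 1 := by
  have h1 : ((List.replicate 6 6).map e).prod = (([] : List ℕ).map e).prod := W f4
  rwa [List.map_replicate, List.prod_replicate] at h1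

theorem ne_of {i k : ℕ} (h : neB' (xM M3) (1 :: List.replicate k i) (List.replicate k i ++ [1]) = true) :
    x * e i ^ k ≠ e i ^ k * x := by
  have h1 : (([1] ++ List.replicate k i : List ℕ).map e).prod ≠ ((List.replicate k i ++ [1] : List ℕ).map e).prod := N h
  rwa [happ, happ, List.map_replicate, List.prod_replicate, hone] at h1

theorem b_ne (k : ℕ) (h0 : 0 < k) (h4 : k < 4) : x * e 4 ^ k ≠ e 4 ^ k * x := by
  have := n1 ⟨k - 1, by omega⟩
  simp only at this
  rw [show k - 1 + 1 = k by omega] at this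
  exact ne_of this

theorem d_ne (k : ℕ) (h0 : 0 < k) (h6 : k < 6) : x * e 6 ^ k ≠ e 6 ^ k * x := by
  have := n2 ⟨k - 1, by omega⟩
  simp only at this
  rw [show k - 1 + 1 = k by omega] at this
  exact ne_of this

theorem order_b : orderOf (e 4) = 4 := by
  rw [orderOf_eq_iff (by norm_num)]
  refine ⟨b4, fun k h4 h0 h => b_ne k h0 h4 ?_⟩
  rw [h, mul_one, one_mul]

theorem order_d2 : orderOf (e 6 ^ 2) = 3 := by
  rw [orderOf_eq_iff (by norm_num)]
  refine ⟨by rw [← pow_mul]; exact d6, fun k h3 h0 h => d_ne (2 * k) (by omega) (by omega) ?_⟩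
  rw [pow_mul, h, mul_one, one_mul]

theorem card_C : Nat.card ↥(centralizer ({z} : Set G)) ∣ 1500 * 8 := by
  have := BpSpor.CoThreeFive.card_dvd order_z
  norm_num only [] at this ⊢
  exact this

theorem idx : ¬ 5 ∣ (P.subgroupOf (centralizer ({z} : Set G))).index := by
  have : Fact (Nat.Prime 5) := ⟨Nat.prime_five⟩
  refine index_not_dvd (n := 3) P_le (by rw [show 5 ^ 3 = 125 by norm_num]; exact card_P) fun h => ?_
  have h1 := h.trans card_C
  norm_num at h1

theorem P_normal : (P.subgroupOf (centralizer ({z} : Set G))).Normal := by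
  have : Fact (Nat.Prime 5) := ⟨Nat.prime_five⟩
  refine normal_of_card (m := 1500) (k := 8) P_le isPGroup idx (by norm_num) ?_ card_C ?_
  · have h1 : 125 ∣ Nat.card ↥(normalizer (P : Set G) ⊓ centralizer ({z} : Set G)) :=
      card_P.trans (Subgroup.card_dvd_of_le (le_inf Subgroup.le_normalizer P_le))
    have h2 : 4 ∣ Nat.card ↥(normalizer (P : Set G) ⊓ centralizer ({z} : Set G)) :=
      dvd_of_mem ⟨norm_b, mem_centralizer_singleton_iff.2 (zcomm d3)⟩ order_b
    have h3 : 3 ∣ Nat.card ↥(normalizer (P : Set G) ⊓ centralizer ({z} : Set G)) :=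
      dvd_of_mem ⟨Subgroup.pow_mem _ norm_d 2, Subgroup.pow_mem _ (mem_centralizer_singleton_iff.2 (zcomm f3)) 2⟩ order_d2
    have h4 : 4 * 3 ∣ Nat.card ↥(normalizer (P : Set G) ⊓ centralizer ({z} : Set G)) :=
      (by norm_num : Nat.Coprime 4 3).mul_dvd_of_dvd_of_dvd h2 h3
    exact (by norm_num : Nat.Coprime 125 12).mul_dvd_of_dvd_of_dvd h1 h4
  · intro d hd h5
    have h6 := Nat.le_of_dvd (by norm_num) hd
    interval_cases d <;> revert hd h5 <;> decide

theorem eps_z : EpsGe.{u, 0} 5 z 5 := by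
  have : Fact (Nat.Prime 5) := ⟨Nat.prime_five⟩
  have hb : ∀ j : ℕ, e 4 ^ j * z = z * e 4 ^ j := fun j => ((show Commute (e 4) z from zcomm d3).pow_left j).eq
  have hd : ∀ j : ℕ, e 6 ^ j * z = z * e 6 ^ j := fun j => ((show Commute (e 6) z from zcomm f3).pow_left j).eq
  refine epsGe_normal (O := {1, 2, 3, 4, 6}) P P_le isPGroup idx P_normal ?_
  intro m hm
  simp only [Finset.mem_insert, Finset.mem_singleton] at hm
  rcases hm with rfl | rfl | rfl | rfl | rfl
  · exact ⟨by norm_num, 1, by simp, by simp, fun k h0 h1 => absurd h1 (by omega)⟩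
  · refine ⟨by norm_num, e 4 ^ 2, hb 2, by rw [← pow_mul]; exact b4, fun k h0 h1 => ⟨x, xP, ?_⟩⟩
    rw [← pow_mul]
    exact b_ne _ (by omega) (by omega)
  · refine ⟨by norm_num, e 6 ^ 2, hd 2, by rw [← pow_mul]; exact d6, fun k h0 h1 => ⟨x, xP, ?_⟩⟩
    rw [← pow_mul]
    exact d_ne _ (by omega) (by omega)
  · exact ⟨by norm_num, e 4, by simpa only [_root_.pow_one] using hb 1, b4, fun k h0 h1 => ⟨x, xP, b_ne k h0 h1⟩⟩
  · exact ⟨by norm_num, e 6, by simpa only [_root_.pow_one] using hd 1, d6, fun k h0 h1 => ⟨x, xP, d_ne k h0 h1⟩⟩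

theorem row_G : KRow.{u, 0} 5 G := by
  classical
  have : Fact (Nat.Prime 5) := ⟨Nat.prime_five⟩
  have hX : ¬ HasNormalPComplement 5 G := by
    refine not_compl_of_inv Nat.prime_five (by norm_num) (k := 1) (y := x) (n := e 3)
      (by rw [pow_one]; exact x5) ?_ ?_
    · intro h
      apply z_ne
      rw [z, h, commutatorElement_def]
      simp
    · have h1 : (([3] ++ [1] : List ℕ).map e).prod = (([33] ++ [3] : List ℕ).map e).prod := W c6
      rw [happ, happ, hone, hone, hone, e33] at h1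
      rw [x, h1, mul_inv_cancel_right]
  refine KRow.of_weights hX {z} ?_ ?_ (fun _ => 5) ?_ ?_
  · intro g hg
    rw [Finset.mem_singleton] at hg
    subst hg
    exact ⟨⟨1, by rw [order_z, pow_one]⟩, z_ne⟩
  · intro g hg h hh σ hσ
    rw [Finset.mem_singleton] at hg hh
    rw [hg, hh]
  · intro g hg
    rw [Finset.mem_singleton] at hg
    subst hg
    exact eps_z.wtGe
  · simp

/-- **The row of `Co3`.** -/
theorem row_co3 {X : Type v} [Group X] (h : Cfsg.Spor.IsoCo3 X) : KRow.{u, v} 5 X := by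
  obtain ⟨e⟩ := h
  exact KRow.congr e.symm row_G

end Cfsg.Agent.H121.K6.Co3
end

private theorem dce_3ff270cc957c : _root_.True := by
  try have : _root_.True := by simp only [_root_.Cfsg.Agent.H121.K6.Co3.x.eq_1]
  try have : _root_.True := by simp only [_root_.Cfsg.Agent.H121.K6.Co3.z.eq_1]
  try have : _root_.True := by simp only [_root_.Cfsg.Agent.H121.K6.Co3.y.eq_1]
  exact _root_.True.intro
end

-- part: H774/SP/Suz_mg
section
prune_inst 0x2000000000000000000000000004000000000000008000002001000600040000000020080000000008000400000000010000a00000000000000000011800800800040010000008800000000006000000000000000000000000000000000000000000000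
set_option linter.all false
open scoped Cfsg.Agent.FastGrp

-- part: H774/SP/Suz
section
/-!
# S4876, `p = 3`: the row `Suz` (helper774)

`x = de` (162 fixed points), `x = bc` (18 fixed points), an element of order 9.  The sum of the numbers of fixed points of
`s` and `ρ s` is invariant under `Aut Suz`.
-/

set_option autoImplicit false
set_option maxRecDepth 100000

namespace Cfsg.Agent.H774.SP.Suz

open Cfsg.Spor Cfsg.Agent.SporadicRecognition.SuzPhi Cfsg.Agent.SporadicRecognition.SuzOrder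
open Cfsg.Agent.SporRec.SuzCl hiding el_append
open Cfsg.Agent.H800.Sp.Suz Cfsg.Agent.KFacts.SuzRho
open Cfsg.Agent.H61.K6 Cfsg.Agent.H121.K6

universe u

/-! ### words -/

theorem neq {u v : List Suz.Gen} (p : ℕ) (hp : p < 1782)
    (h : Nat.beq (wk u.reverse p) (wk v.reverse p) = false) : el u ≠ el v := by
  intro e
  have h1 := (wtr_spec u p hp).1
  rw [e, (wtr_spec v p hp).1, ← wk_reverse, ← wk_reverse] at h1
  rw [h1] at h
  simp at h

theorem el_reverse (w : List Suz.Gen) : el w.reverse = (el w)⁻¹ := by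
  induction w with
  | nil => exact inv_one.symm
  | cons x w ih =>
    rw [List.reverse_cons, Cfsg.Agent.H800.Sp.Suz.el_append, ih, show x :: w = [x] ++ w from rfl,
      Cfsg.Agent.H800.Sp.Suz.el_append, mul_inv_rev]
    congr 1
    exact eq_inv_of_mul_eq_one_left (Cfsg.Agent.SuzThree.Basic.gen_sq x)

theorem el_surj (s : Suz) : ∃ w, el w = s := by
  have hs : s ∈ Subgroup.closure (Set.range (PresentedGroup.of : Suz.Gen → Suz)) := by
    have h := PresentedGroup.closure_range_of (coxRelators Suz.edges ∪ {r | r ∈ Suz.extra})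
    exact h ▸ Subgroup.mem_top s
  induction hs using Subgroup.closure_induction with
  | mem x hx =>
    obtain ⟨g, rfl⟩ := hx
    exact ⟨[g], el_one g⟩
  | one => exact ⟨[], rfl⟩
  | mul x y _ _ hx hy =>
    obtain ⟨v, rfl⟩ := hx
    obtain ⟨w, rfl⟩ := hy
    exact ⟨v ++ w, Cfsg.Agent.H800.Sp.Suz.el_append v w⟩
  | inv x _ hx =>
    obtain ⟨v, rfl⟩ := hx
    exact ⟨v.reverse, el_reverse v⟩

theorem phi_lt (s : Suz) {p : ℕ} (hp : p < 1782) : φ s p < 1782 := by
  obtain ⟨w, rfl⟩ := el_surj s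
  rw [(wtr_spec w p hp).1]
  exact (wtr_spec w p hp).2

/-! ### fixed points -/

/-- the number of fixed points -/
noncomputable def fp (s : Suz) : ℕ := ((Finset.range 1782).filter fun p => φ s p = p).card

theorem fp_conj (g s : Suz) : fp (g * s * g⁻¹) = fp s := by
  unfold fp
  symm
  apply Finset.card_bij (fun p _ => φ g p)
  · intro p hp
    rw [Finset.mem_filter, Finset.mem_range] at hp ⊢
    refine ⟨phi_lt g hp.1, ?_⟩
    rw [map_mul, map_mul, map_inv, Equiv.Perm.mul_apply, Equiv.Perm.mul_apply,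
      show (φ g)⁻¹ (φ g p) = p from (φ g).symm_apply_apply p, hp.2]
  · intro p _ q _ h
    exact (φ g).injective h
  · intro q hq
    rw [Finset.mem_filter, Finset.mem_range] at hq
    refine ⟨φ g⁻¹ q, ?_, ?_⟩
    · rw [Finset.mem_filter, Finset.mem_range]
      refine ⟨phi_lt g⁻¹ hq.1, ?_⟩
      have h1 := hq.2
      rw [map_mul, map_mul, Equiv.Perm.mul_apply, Equiv.Perm.mul_apply] at h1
      apply (φ g).injective
      rw [h1, map_inv]
      exact ((φ g).apply_symm_apply q).symm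
    · rw [map_inv]
      exact (φ g).apply_symm_apply q

/-- number of `i` in `[s, s + 2^d)` with `f i` -/
noncomputable def cnt (f : ℕ → Bool) (d : ℕ) : ℕ → ℕ :=
  Nat.rec (motive := fun _ => ℕ → ℕ) (fun s => Bool.rec (motive := fun _ => ℕ) 0 1 (f s))
    (fun k ih s => Nat.add (ih s) (ih (Nat.add s (Nat.pow 2 k)))) d

theorem cnt_spec (f : ℕ → Bool) (d : ℕ) : ∀ s, cnt f d s = ((Finset.Ico s (s + 2 ^ d)).filter fun i => f i = true).card := by
  induction d with
  | zero =>
    intro s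
    have h1 : Finset.Ico s (s + 2 ^ 0) = {s} := by
      ext i
      simp only [Finset.mem_Ico, Finset.mem_singleton, pow_zero]
      omega
    rw [h1, Finset.filter_singleton]
    show (Bool.rec (motive := fun _ => ℕ) 0 1 (f s) : ℕ) = _
    cases f s <;> simp
  | succ d ih =>
    intro s
    show cnt f d s + cnt f d (s + 2 ^ d) = _
    rw [ih, ih, ← Finset.card_union_of_disjoint]
    · congr 1
      rw [← Finset.filter_union]
      congr 1
      rw [pow_succ]
      rw [show s + 2 ^ d * 2 = s + 2 ^ d + 2 ^ d by ring]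
      exact Finset.Ico_union_Ico_eq_Ico (Nat.le_add_right _ _) (Nat.le_add_right _ _)
    · apply Finset.disjoint_filter_filter
      exact Finset.Ico_disjoint_Ico_consecutive _ _ _

theorem fp_el (w : List Suz.Gen) : fp (el w) =
    cnt (fun i => and (Nat.ble (Nat.succ i) 1782) (Nat.beq (wk w.reverse i) i)) 11 0 := by
  rw [cnt_spec, fp]
  congr 1
  ext i
  simp only [Finset.mem_filter, Finset.mem_range, Finset.mem_Ico, Bool.and_eq_true, Nat.beq_eq, wk_reverse]
  constructor
  · rintro ⟨h1, h2⟩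
    refine ⟨by omega, Nat.ble_eq_true_of_le h1, ?_⟩
    rw [← (wtr_spec w i h1).1, h2]
  · rintro ⟨-, h1, h2⟩
    have h1 : i < 1782 := Nat.le_of_ble_eq_true h1
    exact ⟨h1, by rw [(wtr_spec w i h1).1, h2]⟩

theorem f1 : cnt (fun i => and (Nat.ble (Nat.succ i) 1782) (Nat.beq (wk [.e, .d] i) i)) 11 0 = 162 := by
  decide +kernel

theorem f2 : cnt (fun i => and (Nat.ble (Nat.succ i) 1782) (Nat.beq (wk [.c, .b] i) i)) 11 0 = 18 := by
  decide +kernel

/-- an `Aut`-invariant -/
noncomputable def T (s : Suz) : ℕ := fp s + fp (rho s)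

theorem T_conj (g s : Suz) : T (g * s * g⁻¹) = T s := by
  unfold T
  rw [fp_conj, map_mul, map_mul, map_inv, fp_conj]

theorem T_rho (s : Suz) : T (rho s) = T s := by
  unfold T
  have h : rho (rho s) = s := DFunLike.congr_fun rho_sq s
  rw [h, add_comm]

theorem T_aut (σ : Suz ≃* Suz) (s : Suz) : T (σ s) = T s := by
  rcases Cfsg.Agent.KFacts.SuzOut.out_two (σ : MulAut Suz) rho with h | h | h
  · obtain ⟨g, hg⟩ := h
    have h1 : σ s = g * s * g⁻¹ := by rw [← hg]; rfl
    rw [h1, T_conj]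
  · obtain ⟨g, hg⟩ := h
    exact absurd hg.symm (Cfsg.Agent.H997.OutSuz.rho_outer g)
  · obtain ⟨g, hg⟩ := h
    have h1 : rho = (σ : MulAut Suz) * MulAut.conj g := by rw [hg, mul_inv_cancel_left]
    have h2 : rho (g⁻¹ * s * g) = σ s := by
      rw [h1]
      show σ (g * (g⁻¹ * s * g) * g⁻¹) = σ s
      congr 1
      group
    rw [← h2, T_rho]
    have h3 := T_conj g⁻¹ s
    rwa [inv_inv] at h3

/-! ### weights -/

theorem wt2 {x y n : List Suz.Gen} (c1 : eqG (y ++ x) (x ++ y) = true) (c2 : eqG (n ++ x) (x ++ n) = true)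
    (c3 : eqG (y ++ (y ++ y)) [] = true) (c4 : el y ≠ 1) (c5 : eqG (y ++ (n ++ y)) n = true) : wt 3 (el x) = 2 := by
  have e1 := geq c1
  have e2 := geq c2
  have e3 := geq c3
  have e5 := geq c5
  simp only [Cfsg.Agent.H800.Sp.Suz.el_append, Cfsg.Agent.H800.Sp.Suz.el_nil] at e1 e2 e3 e5
  refine wt_eq_two_of_inv (by norm_num) (by norm_num) (k := 1) (y := el y) (n := el n) e1 e2 ?_ c4 ?_
  · rw [pow_one, pow_succ, pow_two, mul_assoc]
    exact e3
  · rw [mul_inv_eq_iff_eq_mul]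
    exact eq_inv_mul_of_mul_eq e5

/-- the words -/
def X1 : List Suz.Gen := [.d, .e]
def Y1 : List Suz.Gen := [.b, .f]
def N1 : List Suz.Gen := [.b]
def X2 : List Suz.Gen := [.b, .c]
def Y2 : List Suz.Gen := [.e, .f, .b, .c, .d, .c, .b, .f, .e, .f, .b, .c, .d, .c, .b, .f]
def N2 : List Suz.Gen := [.e]
def X3 : List Suz.Gen := [.d, .g, .f, .a, .b, .c, .f, .d, .c, .b]

theorem fp_eq {w v : List Suz.Gen} (h : w.reverse = v) {n : ℕ}
    (hn : cnt (fun i => and (Nat.ble (Nat.succ i) 1782) (Nat.beq (wk v i) i)) 11 0 = n) : fp (el w) = n := by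
  subst h
  rw [fp_el]
  exact hn

theorem r1 : X1.reverse = [.e, .d] := rfl

theorem r1' : (List.map sw X1).reverse = [.e, .d] := rfl

theorem r2 : X2.reverse = [.c, .b] := rfl

theorem r2' : (List.map sw X2).reverse = [.c, .b] := rfl

theorem T_of {s : Suz} {a b c : ℕ} (h1 : fp s = a) (h2 : fp (rho s) = b) (h3 : a + b = c) : T s = c := by
  unfold T
  rw [h1, h2, h3]

theorem t1 : fp (el X1) = 162 := fp_eq r1 f1

theorem t1' : fp (rho (el X1)) = 162 := by
  rw [rho_el]
  exact fp_eq r1' f1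

theorem t2 : fp (el X2) = 18 := fp_eq r2 f2

theorem t2' : fp (rho (el X2)) = 18 := by
  rw [rho_el]
  exact fp_eq r2' f2

theorem T1 : T (el X1) = 324 := T_of t1 t1' rfl

theorem T2 : T (el X2) = 36 := T_of t2 t2' rfl

theorem g1 : eqG (X1 ++ (X1 ++ X1)) [] = true := by decide +kernel
theorem g2 : eqG (X2 ++ (X2 ++ X2)) [] = true := by decide +kernel
theorem g3 : eqG (X3 ++ (X3 ++ (X3 ++ (X3 ++ (X3 ++ (X3 ++ (X3 ++ (X3 ++ X3)))))))) [] = true := by decide +kernel

theorem w1 : wt 3 (el X1) = 2 :=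
  wt2 (y := Y1) (n := N1) (by decide +kernel) (by decide +kernel) (by decide +kernel)
    (neq (v := []) 1 (by norm_num) (by decide +kernel)) (by decide +kernel)

theorem w2 : wt 3 (el X2) = 2 :=
  wt2 (y := Y2) (n := N2) (by decide +kernel) (by decide +kernel) (by decide +kernel)
    (neq (v := []) 1 (by norm_num) (by decide +kernel)) (by decide +kernel)

theorem one_ne : el X1 ≠ 1 := neq (v := []) 4 (by norm_num) (by decide +kernel)
theorem two_ne : el X2 ≠ 1 := neq (v := []) 1 (by norm_num) (by decide +kernel)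
theorem three_ne : el (X3 ++ (X3 ++ X3)) ≠ 1 := neq (v := []) 1 (by norm_num) (by decide +kernel)

/-- **The row `Suz`, `p = 3`.** -/
theorem krow : KRow.{u, 0} 3 Suz := by
  classical
  have h3 : Fact (Nat.Prime 3) := ⟨Nat.prime_three⟩
  have e1 := geq g1
  have e2 := geq g2
  have e3 := geq g3
  simp only [Cfsg.Agent.H800.Sp.Suz.el_append, Cfsg.Agent.H800.Sp.Suz.el_nil] at e1 e2 e3
  have e4 := three_ne
  simp only [Cfsg.Agent.H800.Sp.Suz.el_append] at e4
  have o1 : orderOf (el X1) = 3 := orderOf_eq_prime (by rw [pow_succ, pow_two, mul_assoc]; exact e1) one_ne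
  have o2 : orderOf (el X2) = 3 := orderOf_eq_prime (by rw [pow_succ, pow_two, mul_assoc]; exact e2) two_ne
  have o3 : orderOf (el X3) = 9 := by
    have h1 : ¬ el X3 ^ 3 ^ 1 = 1 := by
      rw [pow_one, pow_succ, pow_two, mul_assoc]
      exact e4
    have h2 : el X3 ^ 3 ^ (1 + 1) = 1 := by
      rw [← e3]
      simp only [pow_succ, pow_zero, one_mul, mul_assoc, show 3 ^ (1 + 1) = 9 by norm_num]
    rw [orderOf_eq_prime_pow h1 h2]
    norm_num
  have t1 := T1
  have t2 := T2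
  have hX : ¬ Cfsg.HasNormalPComplement 3 Suz := by
    have h5 := geq (u := Y1 ++ (N1 ++ Y1)) (v := N1) (by decide +kernel)
    have h6 := geq (u := Y1 ++ (Y1 ++ Y1)) (v := []) (by decide +kernel)
    simp only [Cfsg.Agent.H800.Sp.Suz.el_append, Cfsg.Agent.H800.Sp.Suz.el_nil] at h5 h6
    refine not_compl_of_inv (by norm_num) (by norm_num) (k := 1) (y := el Y1) (n := el N1) ?_
      (neq (v := []) 1 (by norm_num) (by decide +kernel)) ?_
    · rw [pow_one, pow_succ, pow_two, mul_assoc]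
      exact h6
    · rw [mul_inv_eq_iff_eq_mul]
      exact eq_inv_mul_of_mul_eq h5
  have e12 : el X1 ≠ el X2 := fun h => by rw [h, t2] at t1; norm_num at t1
  have e13 : el X1 ≠ el X3 := fun h => by rw [h, o3] at o1; norm_num at o1
  have e23 : el X2 ≠ el X3 := fun h => by rw [h, o3] at o2; norm_num at o2
  refine KRow.of_wt hX {el X1, el X2, el X3} ?_ ?_ ?_
  · intro x hx
    simp only [Finset.mem_insert, Finset.mem_singleton] at hx
    rcases hx with rfl | rfl | rfl
    · exact ⟨⟨1, by rw [o1]; norm_num⟩, one_ne⟩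
    · exact ⟨⟨1, by rw [o2]; norm_num⟩, two_ne⟩
    · refine ⟨⟨2, by rw [o3]; norm_num⟩, fun h => ?_⟩
      rw [h, orderOf_one] at o3
      norm_num at o3
  · intro x hx y hy σ h
    have h1 : T x = T y := by rw [← h, T_aut]
    have h2 : orderOf x = orderOf y := by rw [← h, MulEquiv.orderOf_eq]
    simp only [Finset.mem_insert, Finset.mem_singleton] at hx hy
    rcases hx with rfl | rfl | rfl <;> rcases hy with rfl | rfl | rfl
    · rfl
    · rw [t1, t2] at h1; norm_num at h1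
    · rw [o1, o3] at h2; norm_num at h2
    · rw [t1, t2] at h1; norm_num at h1
    · rfl
    · rw [o2, o3] at h2; norm_num at h2
    · rw [o1, o3] at h2; norm_num at h2
    · rw [o2, o3] at h2; norm_num at h2
    · rfl
  · rw [Finset.sum_insert (by simp [e12, e13]), Finset.sum_insert (by simp [e23]), Finset.sum_singleton, w1, w2]
    have := one_le_wt (p := 3) (el X3)
    omega

/-- **The row `Suz`, `p = 3`.** -/
theorem row_suz {X : Type*} [Group X] (h : IsoSuz X) : KRow.{u} 3 X := by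
  obtain ⟨e⟩ := h
  exact KRow.congr e.symm krow

end Cfsg.Agent.H774.SP.Suz
end

-- part: H629/K6/CoTwo
section
/-!
# S4876, `p = 5`: the row of `Co2` (helper629)

`a`, `b`, `c` : the elements of order 5 of `McL` of helper573 (`c` central in `⟨a, b⟩` of order 125), `d ∈ Co2` commutes
with `a` and `d c d⁻¹ = c²`.  The weight of `a` is at least 4 (`H166.K6.wtGe_of_cyc`), that of `c` at least 1; the
5-part of `|C(a)|` is 25, that of `|C(c)|` is 125.
-/

set_option autoImplicit false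
set_option maxRecDepth 100000

open Cfsg

namespace Cfsg.Agent.H629.K6.CoTwo

open Subgroup Cfsg.Agent.H61.K6

universe u v

section general

variable {G : Type*} [Group G] [Finite G] {p : ℕ} [hp : Fact p.Prime]

/-- an element of `p`-power order centralized by a Sylow subgroup -/
theorem exists_central (P : Sylow p G) {x : G} (hx : ∃ k : ℕ, orderOf x = p ^ k)
    (hi : ¬ p ∣ (centralizer ({x} : Set G)).index) :
    ∃ g : G, g * x * g⁻¹ ∈ (P : Subgroup G) ∧ ∀ z ∈ (P : Subgroup G), z * (g * x * g⁻¹) = g * x * g⁻¹ * z := by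
  obtain ⟨R⟩ : Nonempty (Sylow p ↥(centralizer ({x} : Set G))) := inferInstance
  have hcard : Nat.card ((R : Subgroup ↥(centralizer ({x} : Set G))).map (centralizer ({x} : Set G)).subtype) =
      p ^ (Nat.card G).factorization p := by
    rw [card_map_of_injective (subtype_injective _), Sylow.card_eq_multiplicity,
      ← card_mul_index (centralizer ({x} : Set G)),
      Nat.factorization_mul Nat.card_pos.ne' (by rw [index_eq_card]; exact Nat.card_pos.ne'), Finsupp.add_apply,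
      Nat.factorization_eq_zero_of_not_dvd hi, add_zero]
  let R' : Sylow p G := Sylow.ofCard _ hcard
  have hR : ∀ z ∈ (R' : Subgroup G), z * x = x * z := by
    rintro _ ⟨y, _, rfl⟩
    exact mem_centralizer_singleton_iff.1 y.2
  have hxR : x ∈ (R' : Subgroup G) := by
    have hn : zpowers x ≤ normalizer ((R' : Subgroup G) : Set G) := by
      rw [zpowers_le]
      refine centralizer_le_normalizer _ ?_
      rw [mem_centralizer_iff]
      intro z hz
      exact hR z hz
    have hpx : IsPGroup p (zpowers x) := by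
      obtain ⟨k, hk⟩ := hx
      exact IsPGroup.of_card (n := k) (by rw [Nat.card_zpowers, hk])
    have h1 : IsPGroup p (zpowers x ⊔ (R' : Subgroup G) : Subgroup G) := hpx.to_sup_of_normal_right' R'.2 hn
    have h2 := R'.3 h1 le_sup_right
    rw [← h2]
    exact mem_sup_left (mem_zpowers x)
  obtain ⟨g, hg⟩ := MulAction.exists_smul_eq G R' P
  refine ⟨g, ?_, ?_⟩
  · rw [← hg]
    exact ⟨x, hxR, rfl⟩
  · intro z hz
    rw [← hg] at hz
    obtain ⟨w, hw, rfl⟩ := hz
    change g * w * g⁻¹ * (g * x * g⁻¹) = g * x * g⁻¹ * (g * w * g⁻¹)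
    calc g * w * g⁻¹ * (g * x * g⁻¹) = g * (w * x) * g⁻¹ := by group
      _ = g * (x * w) * g⁻¹ := by rw [hR w hw]
      _ = _ := by group

/-- `p`-central elements of order `p` in a group with nonabelian Sylow subgroups of order `p ^ 3` -/
theorem conj_of_central (P : Sylow p G) (hP : Nat.card (P : Subgroup G) = p ^ 3)
    (hna : ¬ IsMulCommutative (P : Subgroup G)) {x y : G} (hx : orderOf x = p) (hy : orderOf y = p)
    (hxi : ¬ p ∣ (centralizer ({x} : Set G)).index) (hyi : ¬ p ∣ (centralizer ({y} : Set G)).index) :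
    ∃ g : G, ∃ k : ℕ, g * x * g⁻¹ = y ^ k := by
  have hpr : p.Prime := hp.out
  have hZ := H573.card_center_cube hP fun hc => hna ⟨⟨hc⟩⟩
  obtain ⟨g, hg, hgc⟩ := exists_central P ⟨1, by rw [hx, pow_one]⟩ hxi
  obtain ⟨t, ht, htc⟩ := exists_central P ⟨1, by rw [hy, pow_one]⟩ hyi
  have h1 : (⟨g * x * g⁻¹, hg⟩ : (P : Subgroup G)) ∈ center (P : Subgroup G) := by
    rw [mem_center_iff]; intro z; exact Subtype.ext (hgc z z.2)
  have h2 : (⟨t * y * t⁻¹, ht⟩ : (P : Subgroup G)) ∈ center (P : Subgroup G) := by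
    rw [mem_center_iff]; intro z; exact Subtype.ext (htc z z.2)
  set! a : center (P : Subgroup G) := ⟨_, h1⟩ with ha
  set! b : center (P : Subgroup G) := ⟨_, h2⟩ with hb
  have hb1 : b ≠ 1 := by
    intro h3
    have h4 : t * y * t⁻¹ = 1 := congrArg (fun c : center (P : Subgroup G) => ((c : (P : Subgroup G)) : G)) h3
    have h5 : y = 1 := by
      calc y = t⁻¹ * (t * y * t⁻¹) * t := by group
        _ = 1 := by rw [h4]; group
    rw [h5, orderOf_one] at hy
    exact hpr.one_lt.ne hy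
  have hpr' : Fact (Nat.Prime (Nat.card (center (P : Subgroup G)))) := ⟨by rw [hZ]; exact hpr⟩
  have hz : zpowers b = ⊤ := zpowers_eq_top_of_prime_card (p := Nat.card (center (P : Subgroup G))) rfl hb1
  have ham : a ∈ zpowers b := by rw [hz]; exact mem_top _
  obtain ⟨k, hk⟩ := (mem_powers_iff_mem_zpowers.2 ham)
  refine ⟨t⁻¹ * g, k, ?_⟩
  have h3 : (t * y * t⁻¹) ^ k = g * x * g⁻¹ := by
    have := congrArg (fun c : center (P : Subgroup G) => ((c : (P : Subgroup G)) : G)) hk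
    simpa only [ha, hb, _root_.conj_pow, _root_.SubmonoidClass.mk_pow] using this
  calc t⁻¹ * g * x * (t⁻¹ * g)⁻¹ = t⁻¹ * (g * x * g⁻¹) * t := by group
    _ = t⁻¹ * (t * y * t⁻¹) ^ k * t := by rw [h3]
    _ = y ^ k := by rw [conj_pow]; group

/-- the `p`-subgroups of `C(a)` are cyclic modulo `⟨a⟩` -/
theorem cyc_of_not_dvd {a : G} (ha : orderOf a = p) (hd : ¬ p ^ 3 ∣ Nat.card ↥(centralizer ({a} : Set G))) :
    ∀ Q : Subgroup G, IsPGroup p Q → (∀ h ∈ Q, h * a = a * h) → ∃ g ∈ Q, ∀ h ∈ Q, ∃ i k : ℤ, h = g ^ i * a ^ k := by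
  intro Q hQ hQa
  have hn : Q ≤ normalizer ((zpowers a : Subgroup G) : Set G) := by
    intro h hh
    refine centralizer_le_normalizer _ ?_
    rw [mem_centralizer_iff]
    rintro _ ⟨m, rfl⟩
    exact ((show Commute a h from (hQa h hh).symm).zpow_left m).eq
  have hpa : IsPGroup p (zpowers a) := IsPGroup.of_card (n := 1) (by rw [Nat.card_zpowers, ha, pow_one])
  have hR : IsPGroup p (Q ⊔ zpowers a : Subgroup G) := hQ.to_sup_of_normal_right' hpa hn
  have hRC : Q ⊔ zpowers a ≤ centralizer ({a} : Set G) := by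
    refine sup_le (fun h hh => mem_centralizer_singleton_iff.2 (hQa h hh)) ?_
    rw [zpowers_le]
    exact mem_centralizer_singleton_iff.2 rfl
  obtain ⟨m, hm⟩ := IsPGroup.iff_card.1 hR
  have hm2 : m ≤ 2 := by
    by_contra hcon
    exact hd (((pow_dvd_pow p (by omega : 3 ≤ m)).trans (dvd_of_eq hm.symm)).trans (card_dvd_of_le hRC))
  by_cases hsub : Q ≤ zpowers a
  · refine ⟨1, one_mem _, fun h hh => ?_⟩
    obtain ⟨k, hk⟩ := hsub hh
    exact ⟨0, k, by rw [zpow_zero, one_mul]; exact hk.symm⟩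
  · obtain ⟨g, hg, hga⟩ := SetLike.not_le_iff_exists.1 hsub
    have hc : Commute g a := hQa g hg
    let T : Subgroup G :=
      { carrier := {h | ∃ i k : ℤ, h = g ^ i * a ^ k}
        one_mem' := ⟨0, 0, by simp⟩
        mul_mem' := by
          rintro _ _ ⟨i, k, rfl⟩ ⟨i', k', rfl⟩
          refine ⟨i + i', k + k', ?_⟩
          rw [zpow_add, zpow_add]
          have h1 := (hc.zpow_zpow i' k).eq
          calc g ^ i * a ^ k * (g ^ i' * a ^ k') = g ^ i * (a ^ k * g ^ i') * a ^ k' := by group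
            _ = g ^ i * (g ^ i' * a ^ k) * a ^ k' := by rw [h1]
            _ = _ := by group
        inv_mem' := by
          rintro _ ⟨i, k, rfl⟩
          refine ⟨-i, -k, ?_⟩
          rw [mul_inv_rev, zpow_neg, zpow_neg]
          exact ((hc.zpow_zpow i k).inv_inv).eq.symm }
    have hT : T ≤ Q ⊔ zpowers a := by
      rintro _ ⟨i, k, rfl⟩
      exact mul_mem (mem_sup_left (zpow_mem hg i)) (mem_sup_right (zpow_mem (mem_zpowers a) k))
    have haT : zpowers a ≤ T := by
      rw [zpowers_le]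
      exact ⟨0, 1, by simp⟩
    have hgT : g ∈ T := ⟨1, 0, by simp⟩
    have hTp : IsPGroup p T := hR.to_le hT
    obtain ⟨l, hl⟩ := IsPGroup.iff_card.1 hTp
    have hl2 : 2 ≤ l := by
      by_contra hcon
      have h1 : zpowers a = T := by
        apply eq_of_le_of_card_ge haT
        rw [Nat.card_zpowers, ha, hl]
        calc p ^ l ≤ p ^ 1 := Nat.pow_le_pow_right hp.out.pos (by omega)
          _ = p := pow_one p
      rw [← h1] at hgT
      exact hga hgT
    have hTe : T = Q ⊔ zpowers a := by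
      apply eq_of_le_of_card_ge hT
      rw [hm, hl]
      exact Nat.pow_le_pow_right hp.out.pos (by omega)
    refine ⟨g, hg, fun h hh => ?_⟩
    have h1 : h ∈ T := by rw [hTe]; exact mem_sup_left hh
    exact h1

end general

section data

open Cfsg.Agent.SporadicA Cfsg.Agent.SporadicStructure.Co0Matrix Cfsg.Agent.CoOneType.CoEval
open Cfsg.Agent.LThreeCo1.Ev Cfsg.Agent.H573.Spor.Co0 Cfsg.Agent.H573.Spor.McLFive

def nD : ℕ := 0xa39d084a0e839d084a108421083a1494212941d07420e741d2939ce7424e839d084a12849d083a146421084a109421294250942127424e74a4e7424e849d083992849d484a108421083a10839cc83a1283a5063a108421083a1083a5083a0e849d083a108420c83990839d083a0e84a50849908521084a1084a5083a0e83a5084a146421083a1083a5083a12639d084a108429084a109420e741d09420e941ce73a4e9424e742127425074212741ce739ce9425283a508498e83a5483a108421084a10849d063a0e839d083a108421064a10849d084a1283a5084a108420c8499083a5064a1284a5084a108421063a10849d084a0e64a5083a108429083a107420e9425094212941d293a4e7425284a4c84a0e849d064a108421084a1074212741d09420e7425294a4e942529420e742507421294252949ce9424e84a5084a12839d0839908521083a107420e941d07420e9424e749ce74252a4a5083a1284a5083a108421084a14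

theorem okD : okN nD = true := Cfsg.Agent.Co0Q.okz_of (by decide +kernel)

def gD : Co0 := _root_.Cfsg.Agent.SporadicStructure.Co0Matrix.mk (ok_of_okN okD)
theorem repD : _root_.Cfsg.Agent.CoOneType.CoEval.Rep gD (dec nD) := rep_mk _

def e' : ℕ → Co0
  | 0 => gA
  | 1 => gC
  | _ => gD

def Ms' : ℕ → List (List ℤ)
  | 0 => dec nA
  | 1 => dec nC
  | _ => dec nD

theorem hM' : ∀ i, _root_.Cfsg.Agent.CoOneType.CoEval.Rep (e' i) (Ms' i)
  | 0 => repA
  | 1 => repC
  | _ + 2 => repD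

theorem ad : gD * gA = gA * gD := by
  have h := eq_of_eqB hM' (w := [2, 0]) (w' := [0, 2]) (by delta eqB; rw [Cfsg.Agent.Co0Q.foldZ_eq]; decide +kernel)
  simpa only [e', pow_succ, mul_assoc, _root_.List.map_cons, _root_.List.map_nil, _root_.List.prod_cons, _root_.List.prod_nil, _root_.mul_one] using h

theorem dc : gD * gC = gC * (gC * gD) := by
  have h := eq_of_eqB hM' (w := [2, 1]) (w' := [1, 1, 2]) (by delta eqB; rw [Cfsg.Agent.Co0Q.foldZ_eq]; decide +kernel)
  simpa only [e', pow_succ, mul_assoc, _root_.List.map_cons, _root_.List.map_nil, _root_.List.prod_cons, _root_.List.prod_nil, _root_.mul_one] using h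

theorem memD : gD.1 ∈ Spor.Co2 := mem_Co2 repD (by decide +kernel)

end data

section row

open Cfsg.Agent.H573.Spor.McLFive Cfsg.Agent.H573.Spor.Co0 Cfsg.Agent.SporadicA
open Cfsg.Agent.LThreeMB (fr fr_conj)
open Cfsg.Spor (Co1)

local notation "Z2" => (Spor.Co2)

def a : Z2 := ⟨gA.1, le_Co2 memA⟩
def b : Z2 := ⟨gB.1, le_Co2 memB⟩
def c : Z2 := ⟨gC.1, le_Co2 memC⟩
def d : Z2 := ⟨gD.1, memD⟩

theorem a5 : a ^ 5 = 1 := Subtype.ext (show gA.1 ^ 5 = 1 from congrArg Subtype.val a_pow)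
theorem b5 : b ^ 5 = 1 := Subtype.ext (show gB.1 ^ 5 = 1 from congrArg Subtype.val b_pow)
theorem c5 : c ^ 5 = 1 := Subtype.ext (show gC.1 ^ 5 = 1 from congrArg Subtype.val c_pow)
theorem a1 : a ≠ 1 := fun h => a_ne (Subtype.ext (show gA.1 = 1 from congrArg Subtype.val h))
theorem c1 : c ≠ 1 := fun h => c_ne (Subtype.ext (show gC.1 = 1 from congrArg Subtype.val h))
theorem hac : a * c = c * a := Subtype.ext (show gA.1 * gC.1 = gC.1 * gA.1 from congrArg Subtype.val ac)
theorem hbc : b * c = c * b := Subtype.ext (show gB.1 * gC.1 = gC.1 * gB.1 from congrArg Subtype.val bc)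
theorem hab : a * b = b * a * c :=
  Subtype.ext (show gA.1 * gB.1 = gB.1 * gA.1 * gC.1 from congrArg Subtype.val ab)
theorem hda : d * a = a * d := Subtype.ext (show gD.1 * gA.1 = gA.1 * gD.1 from congrArg Subtype.val ad)
theorem hdc : d * c = c * (c * d) :=
  Subtype.ext (show gD.1 * gC.1 = gC.1 * (gC.1 * gD.1) from congrArg Subtype.val dc)

theorem oa : orderOf a = 5 := by
  have : Fact (Nat.Prime 5) := ⟨by norm_num⟩
  exact orderOf_eq_prime a5 a1

theorem oc : orderOf c = 5 := by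
  have : Fact (Nat.Prime 5) := ⟨by norm_num⟩
  exact orderOf_eq_prime c5 c1

theorem conj_dc : d * c * d⁻¹ = c ^ 2 := by
  rw [hdc, pow_two]; group

theorem card_eq : Nat.card Z2 = 42305421312000 := Co2Type.CardCo2.card_co2

theorem fin : Finite Z2 := Nat.finite_of_card_ne_zero (by rw [card_eq]; norm_num)

theorem not_conj (g : Z2) (k : ℕ) : g * a * g⁻¹ ≠ c ^ k := by
  have : Finite Z2 := fin
  intro hg
  have hX : Z2 ≤ Co0 := fun _ h => h.1
  have hk : orderOf (c ^ k) = 5 := by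
    rw [← hg, ← oa]
    have := orderOf_injective (MulAut.conj g).toMonoidHom (MulAut.conj g).injective a
    simpa only [MulAut.conj_apply, _root_.MulEquiv.toMonoidHom_eq_coe, _root_.MonoidHom.coe_coe] using this
  have hz : zpowers (c ^ k) = zpowers c := by
    apply Subgroup.eq_of_le_of_card_ge
    · rw [zpowers_le]; exact pow_mem (mem_zpowers _) k
    · rw [Nat.card_zpowers, Nat.card_zpowers, hk, oc]
  have hm : c ∈ zpowers (c ^ k) := by rw [hz]; exact mem_zpowers _
  obtain ⟨m, hm⟩ := mem_zpowers_iff.1 hm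
  apply fr_ne
  have e1 : toCo1 Z2 hX a = (QuotientGroup.mk gA : Co1) := rfl
  have e2 : toCo1 Z2 hX c = (QuotientGroup.mk gC : Co1) := rfl
  rw [← e1, ← e2]
  refine fr_eq_of_conj (u := toCo1 Z2 hX g) (k := k) (m := m) ?_ ?_
  · rw [← map_inv, ← map_mul, ← map_mul, hg, map_pow]
  · rw [← map_pow, ← map_zpow, hm]

/-- `a b = c' (b a)` -/
theorem hab' : a * b = c * (b * a) := by
  rw [hab, mul_assoc, hac, ← mul_assoc, hbc, mul_assoc]

theorem dvd_c : 5 ^ 3 ∣ Nat.card ↥(centralizer ({c} : Set Z2)) := by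
  have : Finite Z2 := fin
  have h5 : Fact (Nat.Prime 5) := ⟨by norm_num⟩
  have hp := H978.RadCube.isPGroup_cube hac hbc hab' a5 b5 c5
  obtain ⟨m, hm⟩ := IsPGroup.iff_card.1 hp
  have h3 : 3 ≤ m := by
    by_contra hcon
    have hcomm : ∀ u v : ↥(H978.RadCube.cube hac hbc hab'), u * v = v * u := by
      have hm2 : m ≤ 2 := by omega
      interval_cases m
      · have : Subsingleton ↥(H978.RadCube.cube hac hbc hab') :=
          (Nat.card_eq_one_iff_unique.1 (by rw [hm]; norm_num)).1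
        exact fun u v => Subsingleton.elim _ _
      · have : IsCyclic ↥(H978.RadCube.cube hac hbc hab') := isCyclic_of_prime_card (p := 5) (by rw [hm]; norm_num)
        exact (IsCyclic.isMulCommutative (α := ↥(H978.RadCube.cube hac hbc hab'))).is_comm.comm
      · exact (IsPGroup.isMulCommutative_of_card_eq_prime_sq (p := 5) hm).is_comm.comm
    have h4 : a * b = b * a := congrArg Subtype.val (hcomm ⟨a, ⟨1, 0, 0, by simp⟩⟩ ⟨b, ⟨0, 1, 0, by simp only [_root_.zpow_ofNat, _root_.pow_zero, _root_.pow_one, _root_.one_mul, _root_.mul_one]⟩⟩)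
    rw [hab] at h4
    exact c1 (mul_eq_left.1 h4)
  have hle : H978.RadCube.cube hac hbc hab' ≤ centralizer ({c} : Set Z2) := by
    rintro _ ⟨i, j, k, rfl⟩
    rw [mem_centralizer_singleton_iff]
    exact (((show Commute a c from hac).zpow_left i).mul_left ((show Commute b c from hbc).zpow_left j)
      |>.mul_left ((Commute.refl c).zpow_left k)).eq
  refine dvd_trans ?_ (card_dvd_of_le hle)
  rw [hm]
  exact pow_dvd_pow 5 h3

theorem not_dvd_index {x : Z2} (h : 5 ^ 3 ∣ Nat.card ↥(centralizer ({x} : Set Z2))) :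
    ¬ 5 ∣ (centralizer ({x} : Set Z2)).index := by
  intro h1
  have h2 : 5 ^ 3 * 5 ∣ Nat.card Z2 := by
    rw [← card_mul_index (centralizer ({x} : Set Z2))]
    exact mul_dvd_mul h h1
  rw [card_eq] at h2
  norm_num at h2

theorem not_dvd_a : ¬ 5 ^ 3 ∣ Nat.card ↥(centralizer ({a} : Set Z2)) := by
  have : Finite Z2 := fin
  have h5 : Fact (Nat.Prime 5) := ⟨by norm_num⟩
  intro h
  let P : Sylow 5 Z2 := default
  have hP : Nat.card (P : Subgroup Z2) = 5 ^ 3 :=
    H573.card_sylow_of P (by rw [card_eq]; norm_num) (by rw [card_eq]; norm_num)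
  have hna : ¬ IsMulCommutative (P : Subgroup Z2) := by
    refine H573.not_comm_of_class_two (a := a) (b := b) (c := c) (i := 1) (j := 1) (k := 1) (by rw [pow_one]; exact a5)
      (by rw [pow_one]; exact b5) (by rw [pow_one]; exact c5) hac hbc hab ?_ P
    intro h'
    rw [hab] at h'
    exact c1 (mul_eq_left.1 h')
  obtain ⟨g, k, hg⟩ := conj_of_central P hP hna oa oc (not_dvd_index h) (not_dvd_index dvd_c)
  exact not_conj g k hg

theorem c_notMem : c ∉ zpowers a := by
  have : Finite Z2 := fin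
  intro h
  have h1 : zpowers c = zpowers a := by
    refine Subgroup.eq_of_le_of_card_ge (zpowers_le.2 h) ?_
    rw [Nat.card_zpowers, Nat.card_zpowers, oa, oc]
  have h2 : a ∈ zpowers c := by rw [h1]; exact mem_zpowers a
  obtain ⟨k, hk⟩ := mem_powers_iff_mem_zpowers.2 h2
  refine not_conj 1 k ?_
  rw [one_mul, inv_one, mul_one]
  exact hk.symm

theorem order_two : orderOf ((2 : ℕ) : ZMod 5) = 4 := by
  rw [orderOf_eq_iff (by norm_num)]
  decide

theorem weight_a : WtGe.{u, 0} 5 a 4 := by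
  have : Finite Z2 := fin
  have h5 : Fact (Nat.Prime 5) := ⟨by norm_num⟩
  have h := H166.K6.wtGe_of_cyc.{u, 0} (p := 5) (x := a) (y := c) (c := d) ⟨1, by rw [oa, pow_one]⟩ hac.symm hda
    ⟨1, by rw [oc, pow_one]⟩ c_notMem conj_dc (cyc_of_not_dvd oa not_dvd_a)
  rwa [order_two] at h

theorem a_ne_c : a ≠ c := by
  intro h
  exact not_conj 1 1 (by rw [one_mul, inv_one, mul_one, pow_one]; exact h)

/-- **The row `Co2`, `p = 5`.** -/
theorem row_model (hs : IsSimpleGroup Z2) : KRow.{u, 0} 5 Z2 := by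
  classical
  have : Finite Z2 := fin
  have h5 : Fact (Nat.Prime 5) := ⟨by norm_num⟩
  have haut : ∀ σ : Z2 ≃* Z2, σ a ≠ c := by
    intro σ h
    have h1 := card_centralizer_aut σ a
    rw [h] at h1
    exact not_dvd_a (h1 ▸ dvd_c)
  have hcomm : ∃ x y : Z2, x * y ≠ y * x := by
    refine ⟨a, b, fun h => ?_⟩
    rw [hab] at h
    exact c1 (mul_eq_left.1 h)
  refine KRow.of_weights (not_compl_of_simple hcomm (by rw [card_eq]; norm_num)) {a, c} ?_ ?_
    (fun y => if y = a then 4 else 1) ?_ ?_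
  · intro y hy
    simp only [Finset.mem_insert, Finset.mem_singleton] at hy
    rcases hy with rfl | rfl
    · exact ⟨⟨1, by rw [pow_one]; exact oa⟩, a1⟩
    · exact ⟨⟨1, by rw [pow_one]; exact oc⟩, c1⟩
  · intro y hy y' hy' σ hσ
    simp only [Finset.mem_insert, Finset.mem_singleton] at hy hy'
    rcases hy with rfl | rfl <;> rcases hy' with rfl | rfl
    · rfl
    · exact absurd hσ (haut σ)
    · exact absurd (show σ.symm a = c by rw [← hσ, σ.symm_apply_apply]) (haut σ.symm)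
    · rfl
  · intro y hy
    simp only [Finset.mem_insert, Finset.mem_singleton] at hy
    rcases hy with rfl | rfl
    · rw [if_pos rfl]
      exact weight_a
    · rw [if_neg a_ne_c.symm]
      exact wtGe_one c
  · rw [Finset.sum_pair a_ne_c, if_pos rfl, if_neg a_ne_c.symm]

/-- **The row `Co2`, `p = 5`.** -/
theorem row_co2 {S : Type v} [Group S] [IsSimpleGroup S] (h : Spor.IsoCo2 S) : KRow.{u, v} 5 S := by
  obtain ⟨f⟩ := h
  have hs : IsSimpleGroup Z2 := f.symm.isSimpleGroup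
  exact (row_model hs).congr f.symm

end row

end Cfsg.Agent.H629.K6.CoTwo
end

-- part: H404/K6/SporTits
section
/-!
S4876, helper404: the Tits group, `p = 5`.

`C(P)` is a 5-group, and there are seven degrees prime to 5: `1, 27, 351, 2048`, `78` or `39`, `1248` or `624`, and one
more in the principal 13-block (`1728`).
-/

set_option autoImplicit false
set_option linter.unusedSectionVars false

namespace Cfsg.Agent.H404.K6.Tits

open Cfsg Subgroup Cfsg.Agent.H61.K6 Cfsg.Agent.H664.Eight Cfsg.Agent.H740.Eight.Tits Cfsg.Agent.H631.TitsD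
  Cfsg.Agent.SmallSimple.DegreeData

universe u

/-- an orbit of a subgroup acting by conjugation -/
theorem card_dvd_of_orbit {X : Type u} [Group X] [Finite X] (N : Subgroup X) (y : X) (O : Set X)
    (h1 : ∀ n ∈ N, n * y * n⁻¹ ∈ O) (h2 : ∀ w ∈ O, ∃ n ∈ N, n * y * n⁻¹ = w) : Nat.card O ∣ Nat.card N := by
  let _ : MulAction N X := MulAction.compHom X ((MulAut.conj : X →* MulAut X).comp N.subtype)
  have hs : ∀ (n : N) (x : X), n • x = (n : X) * x * (n : X)⁻¹ := fun n x => rfl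
  have h3 : MulAction.orbit N y = O := by
    ext w
    constructor
    · rintro ⟨n, rfl⟩
      exact h1 n n.2
    · intro hw
      obtain ⟨n, hn, rfl⟩ := h2 w hw
      exact ⟨⟨n, hn⟩, rfl⟩
  rw [← h3, Nat.card_congr (MulAction.orbitEquivQuotientStabilizer N y)]
  exact Subgroup.card_quotient_dvd_card _

theorem card_sylow {X : Type u} [Group X] [Finite X] (h : Nat.card X = 17971200) [Fact (Nat.Prime 5)]
    (P : Sylow 5 X) : Nat.card P = 25 := by
  rw [Sylow.card_eq_multiplicity, h]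
  have h1 : (17971200 : ℕ).factorization 5 = 2 := by
    rw [show (17971200 : ℕ) = 5 ^ 2 * 718848 by norm_num, Nat.factorization_mul (by norm_num) (by norm_num),
      Finsupp.add_apply, Nat.factorization_pow, Finsupp.smul_apply, Nat.Prime.factorization_self (by norm_num),
      Nat.factorization_eq_zero_of_not_dvd (by norm_num)]
    norm_num
  rw [h1]
  norm_num

theorem cp {X : Type u} [Group X] [Finite X] (T : TD X) (F : H235.TitsIdx.Facts X) : CP 5 X := by
  have h5 : Fact (Nat.Prime 5) := ⟨by norm_num⟩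
  have h2f : Fact (Nat.Prime 2) := ⟨by norm_num⟩
  have h3f : Fact (Nat.Prime 3) := ⟨by norm_num⟩
  obtain ⟨P⟩ : Nonempty (Sylow 5 X) := inferInstance
  have hP := card_sylow T.card P
  have hcomm := IsPGroup.isMulCommutative_of_card_eq_prime_sq (p := 5) (G := P) (by rw [hP]; norm_num)
  have habel : ∀ a ∈ (P : Subgroup X), ∀ b ∈ (P : Subgroup X), a * b = b * a := fun a ha b hb =>
    congrArg Subtype.val (hcomm.is_comm.comm (⟨a, ha⟩ : P) ⟨b, hb⟩)
  have hPC : (P : Subgroup X) ≤ centralizer ((P : Subgroup X) : Set X) := fun x hx =>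
    mem_centralizer_iff.2 fun y hy => habel y hy x hx
  -- elements of `P`
  have hord : ∀ w ∈ (P : Subgroup X), w ≠ 1 → orderOf w = 5 := by
    intro w hw hw1
    have h1 : w ^ 25 = 1 := by
      have h2 : (⟨w, hw⟩ : P) ^ 25 = 1 := by
        rw [← hP]
        exact pow_card_eq_one'
      exact congrArg Subtype.val h2
    exact orderOf_eq_prime (F.exp w h1) hw1
  set C := centralizer ((P : Subgroup X) : Set X) with hC
  obtain ⟨y, hy⟩ := exists_prime_orderOf_dvd_card' (G := P) 5 (by rw [hP]; norm_num)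
  have hyP : (y : X) ∈ (P : Subgroup X) := y.2
  have hyo : orderOf (y : X) = 5 := by rw [orderOf_coe, hy]
  have hCle : ∀ w ∈ (P : Subgroup X), C ≤ centralizer ({w} : Set X) := fun w hw =>
    centralizer_le (by rintro _ rfl; exact hw)
  have hC50 : Nat.card C ∣ 50 := by
    rw [← T.c5 y hyo]
    exact card_dvd_of_le (hCle y hyP)
  have hC25 : 25 ∣ Nat.card C := by
    rw [← hP]
    exact card_dvd_of_le hPC
  have hcard : Nat.card C = 25 := by
    by_contra hne
    have hC' : Nat.card C = 50 := by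
      obtain ⟨a, ha⟩ := hC25
      rw [ha] at hC50 hne ⊢
      have h1 : a ∣ 2 := Nat.dvd_of_mul_dvd_mul_left (by norm_num : 0 < 25) hC50
      rcases (Nat.dvd_prime Nat.prime_two).1 h1 with rfl | rfl
      · exact absurd rfl hne
      · rfl
    -- an involution of `C`
    obtain ⟨t, ht⟩ := exists_prime_orderOf_dvd_card' (G := C) 2 (by rw [hC']; norm_num)
    have hto : orderOf (t : X) = 2 := by rw [orderOf_coe, ht]
    have hnotP : ∀ w : X, orderOf w = 2 → w ∉ (P : Subgroup X) := by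
      intro w hw hwP
      have h1 := hord w hwP (by
        rintro rfl
        rw [orderOf_one] at hw
        omega)
      omega
    have hidx : ((P : Subgroup X).subgroupOf C).index = 2 := by
      have h1 : Nat.card ((P : Subgroup X).subgroupOf C) = 25 := by
        rw [← hP]
        exact Nat.card_congr (Subgroup.subgroupOfEquivOfLe hPC).toEquiv
      have h2 := ((P : Subgroup X).subgroupOf C).card_mul_index
      rw [h1, hC'] at h2
      omega
    have huniq : ∀ w ∈ C, orderOf w = 2 → w = t := by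
      intro w hw hwo
      have h1 : (⟨w, hw⟩ : C) * t ∈ (P : Subgroup X).subgroupOf C := by
        rw [Subgroup.mul_mem_iff_of_index_two hidx]
        constructor
        · intro h
          exact absurd (mem_subgroupOf.1 h) (hnotP w hwo)
        · intro h
          exact absurd (mem_subgroupOf.1 h) (hnotP t hto)
      have h2 : w * (t : X) ∈ (P : Subgroup X) := mem_subgroupOf.1 h1
      have h3 : (t : X) * t = 1 := by
        have := pow_orderOf_eq_one (t : X)
        rwa [hto, pow_two] at this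
      have h4 : w * w = 1 := by
        have := pow_orderOf_eq_one w
        rwa [hwo, pow_two] at this
      -- `u = w t` satisfies `u ^ 2 = 1`
      have h5' : (t : X) * (w * t) = w * t * t := (mem_centralizer_iff.1 t.2 _ h2).symm
      have h6 : (w * t) * (w * t) = 1 := by
        rw [mul_assoc, h5', mul_assoc w (t : X) t, h3, mul_one, h4]
      by_contra hne'
      have h7 : w * (t : X) ≠ 1 := by
        intro h8
        apply hne'
        have : w = (t : X)⁻¹ := eq_inv_of_mul_eq_one_left h8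
        rw [this]
        exact inv_eq_of_mul_eq_one_left h3
      have h8 := hord _ h2 h7
      have h9 : orderOf (w * (t : X)) ∣ 2 := orderOf_dvd_of_pow_eq_one (by rw [pow_two, h6])
      rw [h8] at h9
      omega
    -- the normalizer is transitive on the nontrivial elements of `P`
    have h24 : Nat.card {w : X | w ∈ (P : Subgroup X) ∧ w ≠ 1} ∣
        Nat.card (normalizer ((P : Subgroup X) : Set X)) := by
      refine card_dvd_of_orbit _ (y : X) _ ?_ ?_
      · intro n hn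
        refine ⟨(mem_normalizer_iff.1 hn y).1 hyP, ?_⟩
        intro h
        have : (y : X) = 1 := by
          have h1 : (y : X) = n⁻¹ * (n * y * n⁻¹) * n := by group
          rw [h1, h]
          group
        rw [this, orderOf_one] at hyo
        omega
      · rintro w ⟨hw, hw1⟩
        obtain ⟨g, hg⟩ := isConj_iff.1 (F.one y w hyo (hord w hw hw1))
        obtain ⟨n, hn, hnw⟩ := P.conj_eq_normalizer_conj_of_mem_centralizer (y : X) g⁻¹ (hPC hyP)
          (by rw [inv_inv, hg]; exact hPC hw)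
        refine ⟨n⁻¹, inv_mem hn, ?_⟩
        rw [inv_inv, ← hnw, inv_inv, hg]
    have h24' : Nat.card {w : X | w ∈ (P : Subgroup X) ∧ w ≠ 1} = 24 := by
      have h1 : Nat.card {w : P // w ≠ 1} = 24 := by
        classical
        have := Fintype.ofFinite P
        rw [Nat.card_eq_fintype_card, Fintype.card_subtype_compl, Fintype.card_subtype_eq,
          ← Nat.card_eq_fintype_card]
        have h0 : Nat.card (P : Subgroup X) - 1 = 24 := by rw [hP]
        exact h0
      rw [← h1]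
      refine Nat.card_congr
        { toFun := fun w => ⟨⟨w.1, w.2.1⟩, fun h => w.2.2 (congrArg Subtype.val h)⟩
          invFun := fun w => ⟨w.1, w.1.2, fun h => w.2 (Subtype.ext h)⟩
          left_inv := fun w => rfl
          right_inv := fun w => rfl }
    rw [h24'] at h24
    obtain ⟨s, hs⟩ := exists_prime_orderOf_dvd_card' (G := normalizer ((P : Subgroup X) : Set X)) 3
      ((by norm_num : 3 ∣ 24).trans h24)
    have hso : orderOf (s : X) = 3 := by rw [orderOf_coe, hs]
    have hst : (s : X) * t * (s : X)⁻¹ = t := by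
      apply huniq
      · rw [mem_centralizer_iff]
        intro w hw
        have h1 : (s : X)⁻¹ * w * s ∈ (P : Subgroup X) := (mem_normalizer_iff''.1 s.2 w).1 hw
        have h2 := mem_centralizer_iff.1 t.2 _ h1
        calc w * (s * t * (s : X)⁻¹) = s * ((s : X)⁻¹ * w * s * t) * (s : X)⁻¹ := by group
          _ = s * (t * ((s : X)⁻¹ * w * s)) * (s : X)⁻¹ := by rw [h2]
          _ = s * t * (s : X)⁻¹ * w := by group
      · rw [← hto]
        exact orderOf_injective (MulAut.conj (s : X)).toMonoidHom (MulAut.conj (s : X)).injective t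
    obtain ⟨z, d, I⟩ := T.inv
    have hconj : ∀ (g a b : X), a * b = b * a → (g * a * g⁻¹) * (g * b * g⁻¹) = (g * b * g⁻¹) * (g * a * g⁻¹) := by
      intro g a b h
      calc (g * a * g⁻¹) * (g * b * g⁻¹) = g * (a * b) * g⁻¹ := by group
        _ = g * (b * a) * g⁻¹ := by rw [h]
        _ = (g * b * g⁻¹) * (g * a * g⁻¹) := by group
    have hordc : ∀ (g a : X), orderOf (g * a * g⁻¹) = orderOf a := fun g a =>
      orderOf_injective (MulAut.conj g).toMonoidHom (MulAut.conj g).injective a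
    rcases I.cases t hto with h | h
    · obtain ⟨g, hg⟩ := isConj_iff.1 h
      refine I.z3 (g * s * g⁻¹) (by rw [hordc, hso]) ?_
      rw [← hg]
      refine hconj g t s ?_
      rw [mul_inv_eq_iff_eq_mul] at hst
      exact hst.symm
    · obtain ⟨g, hg⟩ := isConj_iff.1 h
      refine I.d5 (g * y * g⁻¹) (by rw [hordc, hyo]) ?_
      rw [← hg]
      exact hconj g t y (mem_centralizer_iff.1 t.2 y hyP).symm
  refine ⟨P, fun z hz => ?_⟩
  have h1 : orderOf z ∣ 5 ^ 2 := by
    have h2 := Subgroup.orderOf_dvd_natCard C hz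
    rw [hcard] at h2
    norm_num
    exact h2
  obtain ⟨k, -, hk⟩ := (Nat.dvd_prime_pow Nat.prime_five).1 h1
  exact ⟨k, hk⟩

/-- the numerical part: a further degree in the principal 13-block -/
theorem exists_deg {X : Type u} [Group X] [Finite X] [IsSimpleGroup X] (hcard : Nat.card X = 17971200)
    (h13 : ∀ y : X, orderOf y = 13 → Nat.card (centralizer ({y} : Set X)) = 13)
    (h27 : 27 ∈ charDegrees X) (h675 : 675 ∈ charDegrees X) (h2048 : 2048 ∈ charDegrees X) :
    ∃ w : ℤ, w.natAbs ∈ charDegrees X ∧ w ≡ 1 [ZMOD 13] ∧ ¬ 5 ∣ w.natAbs ∧ w ≠ 27 ∧ 3 ≤ w.natAbs := by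
  have : Fact (Nat.Prime 13) := ⟨by norm_num⟩
  obtain ⟨x, hx⟩ := exists_prime_orderOf_dvd_card' (G := X) 13 (by rw [hcard]; norm_num)
  have hR : ∃ R : Subgroup X, Nat.card R = 13 ∧ centralizer (R : Set X) = R := by
    have h1 : Nat.card (zpowers x) = 13 := by rw [Nat.card_zpowers, hx]
    have h2 : centralizer ((zpowers x : Subgroup X) : Set X) = centralizer ({x} : Set X) := by
      rw [zpowers_eq_closure, centralizer_closure]
    have h3 : zpowers x ≤ centralizer ({x} : Set X) := by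
      rw [zpowers_le]
      exact mem_centralizer_singleton_iff.2 rfl
    refine ⟨zpowers x, h1, ?_⟩
    rw [h2]
    exact (Subgroup.eq_of_le_of_card_ge h3 (by rw [h13 x hx, h1])).symm
  obtain ⟨M, P, hM, hP, hC, ⟨D⟩⟩ := H561.Eight.exists_blk (G := X) (p := 13) (by omega) hR
    (by rw [hcard]; norm_num) (e := 6) (t := 2) (by norm_num) (by rw [hcard])
  have hmem : ∀ z ∈ D.degs, z.natAbs ∈ charDegrees X := by
    intro z hz
    obtain ⟨χ, hχ, rfl⟩ := List.mem_map.1 hz
    exact ⟨χ, (D.natAbs_sd (List.mem_cons_of_mem _ hχ)).symm⟩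
  have h3 : ∀ z ∈ D.degs, 3 ≤ z.natAbs :=
    H424.BlockTools.degs_three_le (by rw [hcard]; norm_num) (by rw [hcard]; norm_num) D
  have hmod : ∀ z ∈ D.degs, z ≡ 1 [ZMOD 13] := fun z hz => (D.degs_spec hP z hz).1
  have hdvd : ∀ z ∈ D.degs, z.natAbs ∣ 17971200 := fun z hz => by
    rw [← hcard]
    exact (D.degs_spec hP z hz).2.1
  have m27 : (27 : ℤ) ∈ D.degs := H561.Eight.mem_degs hM D hP hC (by norm_num) (by simpa using h27) (by decide)
    (by decide) (by decide) (by decide) (by decide)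
  have m675 : (-675 : ℤ) ∈ D.degs := H561.Eight.mem_degs hM D hP hC (by norm_num) (by simpa using h675) (by decide)
    (by decide) (by decide) (by decide) (by decide)
  have hexc : 1 + D.degs.sum = -2048 := by
    have h4 := D.dexc_eq (by norm_num)
    have h5 := D.dexc_modEq hP (by norm_num)
    rw [← h4] at h5
    rcases H424.BlockTools2.degree_cases hM D hP hC (by norm_num) h2048 (by norm_num) with h | ⟨z, hz, hzd⟩ | h
    · omega
    · exfalso
      have h6 := hmod z hz
      rcases Int.natAbs_eq z with h7 | h7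
      · rw [h7, hzd] at h6
        exact absurd h6 (by decide)
      · rw [h7, hzd] at h6
        exact absurd h6 (by decide)
    · rcases Int.natAbs_eq (1 + D.degs.sum) with h7 | h7
      · rw [← h] at h7
        rw [h7] at h5
        exact absurd h5 (by decide)
      · rw [← h] at h7
        exact h7
  have hlen := D.length_degs
  by_contra hcon
  push Not at hcon
  have hall : ∀ z ∈ D.degs, (5 : ℤ) ∣ z ∨ z = 27 := by
    intro z hz
    by_cases h5 : 5 ∣ z.natAbs
    · exact Or.inl (Int.natCast_dvd.2 h5)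
    · right
      by_contra hne
      exact absurd (h3 z hz) (not_le.2 (hcon z (hmem z hz) (hmod z hz) h5 hne))
  clear hcon hmem
  generalize D.degs = L at *
  obtain ⟨L1, hL1⟩ : ∃ L1 : List ℤ, L.Perm (27 :: L1) := ⟨L.erase 27, List.perm_cons_erase m27⟩
  have m675' : (-675 : ℤ) ∈ L1 := by
    have := (hL1.mem_iff).1 m675
    simpa using this
  obtain ⟨L2, hL2⟩ : ∃ L2 : List ℤ, L1.Perm (-675 :: L2) := ⟨L1.erase (-675), List.perm_cons_erase m675'⟩
  have hp : L.Perm (27 :: -675 :: L2) := hL1.trans (hL2.cons 27)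
  have hl2 : L2.length = 3 := by
    have h6 := hp.length_eq
    simp only [List.length_cons] at h6
    omega
  have hs2 : L2.sum = -1401 := by
    have h6 := hp.sum_eq
    simp only [List.sum_cons] at h6
    omega
  have hsub : ∀ z ∈ L2, z ∈ L := fun z hz => (hp.mem_iff).2 (by simp [hz])
  match L2, hl2 with
  | [x, y, z], _ =>
    simp only [List.sum_cons, List.sum_nil, add_zero] at hs2
    have hx' := hall x (hsub x (by simp))
    have hy' := hall y (hsub y (by simp))
    have hz' := hall z (hsub z (by simp))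
    have key : ∀ w ∈ L, w ≠ -1455 := by
      rintro w hw rfl
      have := hdvd _ hw
      revert this
      norm_num
    have kx := key x (hsub x (by simp))
    have ky := key y (hsub y (by simp))
    have kz := key z (hsub z (by simp))
    (clear * - hs2 hx' hy' hz' kx ky kz; solve | lia | omega)

theorem row_aux {X : Type u} [Group X] [Finite X] [IsSimpleGroup X] (hcp : CP 5 X) (hcard : Nat.card X = 17971200)
    (h13 : ∀ y : X, orderOf y = 13 → Nat.card (centralizer ({y} : Set X)) = 13)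
    {A : Type} [Group A] (T : Subgroup A)
    (e : Nonempty (X ≃* commutator T)) (h27 : 27 ∈ charDegrees X) (h2048 : 2048 ∈ charDegrees (commutator T))
    (hd : 351 ∈ charDegrees T ∧ 650 ∈ charDegrees T ∧ 675 ∈ charDegrees T ∧ 1248 ∈ charDegrees T ∧
      78 ∈ charDegrees T)
    (hdown : ∀ d ∈ charDegrees T, ∃ c ∈ charDegrees (commutator T), c = d ∨ 2 * c = d) : KRow.{u, u} 5 X := by
  have : Fact (Nat.Prime 5) := ⟨by norm_num⟩
  have key : ∀ {d : ℕ}, d ∈ charDegrees T → ∃ c ∈ charDegrees X, c = d ∨ 2 * c = d := by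
    intro d hd
    obtain ⟨c, hc, h1⟩ := hdown d hd
    exact ⟨c, mem_of_equiv T e hc, h1⟩
  have h2048' : 2048 ∈ charDegrees X := mem_of_equiv T e h2048
  obtain ⟨d1, d2, d3, d4, d5⟩ := hd
  obtain ⟨c1, m1, e1⟩ := key d1
  obtain ⟨c3, m3, e3⟩ := key d3
  obtain ⟨c4, m4, e4⟩ := key d4
  obtain ⟨c5, m5, e5⟩ := key d5
  obtain rfl : c1 = 351 := by omega
  obtain rfl : c3 = 675 := by omega
  obtain ⟨w, hw, hwm, hw5, hw27, hw3⟩ := exists_deg hcard h13 h27 m3 h2048'
  have hwm' : w % 13 = 1 := hwm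
  refine KRow.of_degs hcp [1, 27, 351, 2048, c4, c5, w.natAbs] ?_ ?_ (by simp)
  · intro d hd
    simp only [List.mem_cons, List.not_mem_nil, or_false] at hd
    rcases hd with rfl | rfl | rfl | rfl | rfl | rfl | rfl
    · exact ⟨_root_.Cfsg.Agent.H664.Eight.one_mem, by norm_num⟩
    · exact ⟨h27, by norm_num⟩
    · exact ⟨m1, by norm_num⟩
    · exact ⟨h2048', by norm_num⟩
    · exact ⟨m4, by omega⟩
    · exact ⟨m5, by omega⟩
    · exact ⟨hw, hw5⟩
  · simp only [List.nodup_cons, List.mem_cons, List.not_mem_nil, or_false, not_or, List.nodup_nil, and_true,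
      not_false_eq_true]
    omega

/-- **The Tits group, `p = 5`.** -/
theorem row_tits {S : Type u} [Group S] (h : Lie.IsoTits S) : KRow.{u, u} 5 S := by
  have T := td_of h
  have : Finite S := Nat.finite_of_card_ne_zero (by rw [T.card]; norm_num)
  have hs : IsSimpleGroup S := Cfsg.Agent.H180.ElS.simple_tits h
  exact row_aux (cp T (H235.TitsRow.facts h)) T.card T.c13 (Cfsg.Lie.twistedF4 (ZMod 2) 1) h (mem_27 h) mem_2048 degs
    fun _ hd => down hd

end Cfsg.Agent.H404.K6.Tits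
end

-- part: H80/K6/Tits
section
/-!
# S4876 (`k(B₀) = 6`): the Tits group, `p = 3` (helper80)

The centralizer of an involution of the second class normalizes a four-group containing an involution of the first class,
which commutes with no element of order 3; hence `9` does not divide its order, and the characters outside the principal
3-block have degree divisible by `9`. The degree `78` (or `39`) is not.
-/

set_option autoImplicit false

open Cfsg Subgroup

namespace Cfsg.Agent.H80.K6.Tits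

open Cfsg.Agent.H61.K6 Cfsg.Agent.TitsK
open Cfsg.Agent.FourTwo.Base (LL)

universe u v

/-- the orbit of `z` under `C(d)` has at most three elements -/
theorem card_orbit_le {D : Type u} [Group D] [Finite D] {L : Type v} [Group L] (f : D →* L) (z a b c : L)
    (h : ∀ x : D, f x * z * (f x)⁻¹ = a ∨ f x * z * (f x)⁻¹ = b ∨ f x * z * (f x)⁻¹ = c) (h9 : 9 ∣ Nat.card D) :
    ∃ x : D, orderOf x = 3 ∧ f x * z * (f x)⁻¹ = z := by
  classical
  have h3 : Fact (Nat.Prime 3) := ⟨by norm_num⟩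
  let _ : MulAction D L := MulAction.compHom L ((MulAut.conj : L →* MulAut L).comp f)
  have hs : ∀ (x : D) (l : L), x • l = f x * l * (f x)⁻¹ := fun x l => rfl
  have h1 : MulAction.orbit D z ⊆ ({a, b, c} : Set L) := by
    rintro _ ⟨x, rfl⟩
    have := h x
    simp only [Set.mem_insert_iff, Set.mem_singleton_iff]
    exact this
  have h2 : Nat.card (MulAction.orbit D z) ≤ 3 := by
    rw [Nat.card_coe_set_eq]
    refine (Set.ncard_le_ncard h1 (Set.toFinite _)).trans ?_
    refine (Set.ncard_insert_le _ _).trans ?_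
    have h4 := Set.ncard_insert_le b ({c} : Set L)
    have h5 := Set.ncard_singleton c
    omega
  have h4 : Nat.card (MulAction.orbit D z) * Nat.card (MulAction.stabilizer D z) = Nat.card D := by
    rw [Nat.card_congr (MulAction.orbitEquivQuotientStabilizer D z), mul_comm]
    exact ((MulAction.stabilizer D z).card_eq_card_quotient_mul_card_subgroup.trans (mul_comm _ _)).symm
  have h5 : 3 ∣ Nat.card (MulAction.stabilizer D z) := by
    by_contra hne
    have h6 : Nat.Coprime 9 (Nat.card (MulAction.stabilizer D z)) := by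
      have : Nat.Coprime (3 ^ 2) (Nat.card (MulAction.stabilizer D z)) :=
        Nat.Coprime.pow_left 2 ((Nat.Prime.coprime_iff_not_dvd Nat.prime_three).2 hne)
      exact this
    rw [← h4] at h9
    have h7 := h6.dvd_of_dvd_mul_right h9
    have hne' : Nonempty (MulAction.orbit D z) := ⟨⟨z, MulAction.mem_orbit_self z⟩⟩
    have hfi : Finite (MulAction.orbit D z) := (Set.toFinite ({a, b, c} : Set L)).subset h1
    have h8 : 0 < Nat.card (MulAction.orbit D z) := Nat.card_pos
    have := Nat.le_of_dvd h8 h7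
    omega
  obtain ⟨x, hx⟩ := exists_prime_orderOf_dvd_card' (G := MulAction.stabilizer D z) 3 h5
  exact ⟨x, by rw [orderOf_coe, hx], (hs x z).symm.trans x.2⟩

/-- **the involutions**, abstract version -/
theorem not_nine_LF {L : Type u} [Group L] [Finite L] {T H S : Subgroup L} {z d b c : L} (F : H631.TitsD.LF T H S z d)
    (hV : ∀ g ∈ T, g * d * g⁻¹ = d → g * z * g⁻¹ = z ∨ g * z * g⁻¹ = b ∨ g * z * g⁻¹ = c)
    (a : ↥T) (ha : a * a = 1) (ha1 : a ≠ 1) : ¬ 9 ∣ Nat.card (centralizer ({a} : Set ↥T)) := by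
  intro h9
  have h3 : Fact (Nat.Prime 3) := ⟨by norm_num⟩
  have ha2 : (a : L) * a = 1 := congrArg Subtype.val ha
  have hcomm : ∀ x : centralizer ({a} : Set ↥T), ((x : ↥T) : L) * a = a * (x : ↥T) := fun x =>
    congrArg Subtype.val (mem_centralizer_singleton_iff.1 x.2)
  have key : ∀ (t : L) (x : centralizer ({a} : Set ↥T)),
      t * ((x : ↥T) : L) * t⁻¹ * (t * a * t⁻¹) * (t * ((x : ↥T) : L) * t⁻¹)⁻¹ = t * a * t⁻¹ := by
    intro t x
    calc t * ((x : ↥T) : L) * t⁻¹ * (t * a * t⁻¹) * (t * ((x : ↥T) : L) * t⁻¹)⁻¹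
        = t * (((x : ↥T) : L) * a) * ((x : ↥T) : L)⁻¹ * t⁻¹ := by group
      _ = t * (a * (x : ↥T)) * ((x : ↥T) : L)⁻¹ * t⁻¹ := by rw [hcomm x]
      _ = t * a * t⁻¹ := by group
  have hone : ∀ (t : L) (x : centralizer ({a} : Set ↥T)), orderOf x = 3 → t * ((x : ↥T) : L) * t⁻¹ = 1 → False := by
    intro t x hx h4
    have h5 : ((x : ↥T) : L) = 1 := by
      have h6 : ((x : ↥T) : L) = t⁻¹ * (t * ((x : ↥T) : L) * t⁻¹) * t := by group
      rw [h6, h4]
      group
    have h6 : x = 1 := Subtype.ext (Subtype.ext h5)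
    rw [h6, orderOf_one] at hx
    omega
  rcases F.invol a a.2 ha2 (fun h => ha1 (Subtype.ext h)) with ⟨t, ht, hta⟩ | ⟨t, ht, hta⟩
  · obtain ⟨x, hx⟩ := exists_prime_orderOf_dvd_card' (G := centralizer ({a} : Set ↥T)) 3 ((by norm_num : 3 ∣ 9).trans h9)
    have hx3 : ((x : ↥T) : L) ^ 3 = 1 := by
      have := pow_orderOf_eq_one x
      rw [hx] at this
      exact congrArg (fun y : centralizer ({a} : Set ↥T) => ((y : ↥T) : L)) this
    refine hone t x hx (F.three (t * ((x : ↥T) : L) * t⁻¹) (mul_mem (mul_mem ht x.1.2) (inv_mem ht)) (by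
      rw [conj_pow, hx3, mul_one, mul_inv_cancel]) ?_)
    rw [← hta]
    exact key t x
  · let f : centralizer ({a} : Set ↥T) →* L :=
      (MulAut.conj t).toMonoidHom.comp (T.subtype.comp (centralizer ({a} : Set ↥T)).subtype)
    have hf : ∀ x, f x = t * ((x : ↥T) : L) * t⁻¹ := fun x => rfl
    have hmem : ∀ x, f x ∈ T := fun x => by
      rw [hf]
      exact mul_mem (mul_mem ht x.1.2) (inv_mem ht)
    have hd : ∀ x, f x * d * (f x)⁻¹ = d := fun x => by
      rw [← hta, hf]
      exact key t x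
    obtain ⟨x, hx, hxz⟩ := card_orbit_le f z z b c (fun x => hV (f x) (hmem x) (hd x)) h9
    have hx3 : f x ^ 3 = 1 := by
      rw [← map_pow, ← hx, pow_orderOf_eq_one, map_one]
    exact hone t x hx (F.three (f x) (hmem x) hx3 hxz)

/-- **the involutions of the Tits group** -/
theorem not_nine_TT (a : ↥TT) (ha : a * a = 1) (ha1 : a ≠ 1) : ¬ 9 ∣ Nat.card (centralizer ({a} : Set ↥TT)) := by
  have hfin : Finite LL := by infer_instance
  refine not_nine_LF (b := z1) (c := z * z1) H631.TitsD.lf (fun g hg hd => ?_) a ha ha1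
  have h1 := mem_V4_iff.1 (cent_d_V4 (TT_le hg) hd z_mem_V4)
  rcases h1 with h1 | h1 | h1 | h1
  · exfalso
    apply z_ne
    have h2 : (z : LL) = g⁻¹ * (g * z * g⁻¹) * g := by group
    rw [h2, h1]
    group
  · exact Or.inl h1
  · exact Or.inr (Or.inl h1)
  · exact Or.inr (Or.inr h1)

theorem card_cent_congr {G : Type u} {H : Type v} [Group G] [Group H] (e : G ≃* H) (x : G) :
    Nat.card (centralizer ({x} : Set G)) = Nat.card (centralizer ({e x} : Set H)) := by
  have h1 : (centralizer ({x} : Set G)).map e.toMonoidHom = centralizer ({e x} : Set H) := by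
    ext y
    constructor
    · rintro ⟨w, hw, rfl⟩
      rw [mem_centralizer_singleton_iff]
      show e w * e x = e x * e w
      rw [← map_mul, ← map_mul, mem_centralizer_singleton_iff.1 hw]
    · intro hy
      refine ⟨e.symm y, ?_, e.apply_symm_apply y⟩
      have h2 := mem_centralizer_singleton_iff.1 hy
      refine mem_centralizer_singleton_iff.2 (e.injective ?_)
      rw [map_mul, map_mul, e.apply_symm_apply, h2]
  rw [← h1]
  exact (card_map_of_injective e.injective).symm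

theorem prime_cases {r : ℕ} (hr : r.Prime) (hd : r ∣ 17971200) : r = 2 ∨ r = 3 ∨ r = 5 ∨ r = 13 := by
  rw [show (17971200 : ℕ) = 2 ^ 11 * 3 ^ 3 * 5 ^ 2 * 13 by norm_num] at hd
  rcases (Nat.Prime.dvd_mul hr).1 hd with h | h
  · rcases (Nat.Prime.dvd_mul hr).1 h with h | h
    · rcases (Nat.Prime.dvd_mul hr).1 h with h | h
      · exact Or.inl ((Nat.prime_dvd_prime_iff_eq hr Nat.prime_two).1 (hr.dvd_of_dvd_pow h))
      · exact Or.inr (Or.inl ((Nat.prime_dvd_prime_iff_eq hr Nat.prime_three).1 (hr.dvd_of_dvd_pow h)))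
    · exact Or.inr (Or.inr (Or.inl ((Nat.prime_dvd_prime_iff_eq hr Nat.prime_five).1 (hr.dvd_of_dvd_pow h))))
  · exact Or.inr (Or.inr (Or.inr ((Nat.prime_dvd_prime_iff_eq hr (by norm_num)).1 h)))

/-- transport, abstract -/
theorem transport {S : Type u} [Group S] {L : Type v} [Group L] (T : Subgroup L) (e : Nonempty (S ≃* T))
    (h : ∀ a : T, a * a = 1 → a ≠ 1 → ¬ 9 ∣ Nat.card (centralizer ({a} : Set T))) (y : S) (hy : orderOf y = 2) :
    ¬ 9 ∣ Nat.card (centralizer ({y} : Set S)) := by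
  obtain ⟨e⟩ := e
  rw [card_cent_congr e]
  refine h (e y) ?_ ?_
  · rw [← map_mul, ← pow_two, ← hy, pow_orderOf_eq_one, map_one]
  · intro h5
    have h6 : y = 1 := e.injective (h5.trans (map_one e).symm)
    rw [h6, orderOf_one] at hy
    omega

theorem not_nine {S : Type u} [Group S] (h : Lie.IsoTits S) (y : S) (hy : (orderOf y).Prime) (h3 : orderOf y ≠ 3) :
    ¬ 9 ∣ Nat.card (centralizer ({y} : Set S)) := by
  have T := H631.TitsD.td_of h
  have : Finite S := Nat.finite_of_card_ne_zero (by rw [T.card]; norm_num)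
  rcases prime_cases hy (by rw [← T.card]; exact _root_.orderOf_dvd_natCard y) with h4 | h4 | h4 | h4
  · exact transport TT (Cfsg.Agent.CpAutTits.Row.exists_equiv h) not_nine_TT y h4
  · exact absurd h4 h3
  · rw [T.c5 y h4]
    norm_num
  · rw [T.c13 y h4]
    norm_num

/-- **The Tits group, `p = 3`.** -/
theorem row_tits {S : Type v} [Group S] (h : Lie.IsoTits S) : KRow.{u, v} 3 S := by
  have T := H631.TitsD.td_of h
  have : Finite S := Nat.finite_of_card_ne_zero (by rw [T.card]; norm_num)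
  obtain ⟨c, hc, h1⟩ := H740.Eight.Tits.down H740.Eight.Tits.degs.2.2.2.2
  have hc' : c ∈ charDegrees S :=
    H740.Eight.Tits.mem_of_equiv (Cfsg.Lie.twistedF4 (ZMod 2) 1) h hc
  refine KRow.of_orders (a := 3) (k := 2) (d := c) (by norm_num) (by norm_num) (by rw [T.card]; norm_num)
    (by rw [T.card]; norm_num) (fun y h2 h3 => not_nine h y h2 h3) hc' ?_ ?_
  · rcases h1 with rfl | h1
    · norm_num
    · have : c = 39 := by omega
      rw [this]
      norm_num
  · rcases h1 with rfl | h1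
    · norm_num
    · have : c = 39 := by omega
      rw [this]
      norm_num

end Cfsg.Agent.H80.K6.Tits
end

-- part: H774/SP/M22
section
/-!
# `l(B₀(M22)) ≥ 5` for the prime 3 (helper774)

* `compl_36` : a group of order 36 whose Sylow 3-subgroups are abelian and not normal is 3-nilpotent;
* `rank_M22` : `5 ≤ l(B₀(M22))`, `p = 3`.
-/

set_option autoImplicit false

open Cfsg Subgroup

namespace Cfsg.Agent.H774.SP.M22

open Cfsg.Agent.H61.K6 Cfsg.Agent.H820.K6

universe u v

/-- A group of order 36 with an abelian Sylow 3-subgroup which is not normal is 3-nilpotent. -/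
theorem compl_36 {C : Type*} [Group C] [Finite C] (hC : Nat.card C = 36) (P : Sylow 3 C)
    (hab : ∀ x ∈ P, ∀ y ∈ P, x * y = y * x) (hn : ¬ (P : Subgroup C).Normal) : HasNormalPComplement 3 C := by
  have h3 : Fact (Nat.Prime 3) := ⟨Nat.prime_three⟩
  have hP : Nat.card P = 9 := by
    rw [P.card_eq_multiplicity, hC]
    have : Nat.factorization 36 3 = 2 := by
      rw [show 36 = 3 ^ 2 * 4 by norm_num, Nat.factorization_mul (by norm_num) (by norm_num)]
      simp only [Finsupp.coe_add, Pi.add_apply, Nat.Prime.factorization_pow Nat.prime_three, Finsupp.single_eq_same]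
      rw [Nat.factorization_eq_zero_of_not_dvd (by norm_num)]
    rw [this]
    norm_num
  have hidx : (P : Subgroup C).index = 4 := by
    have := (P : Subgroup C).card_mul_index
    rw [hC] at this
    have h2 : Nat.card (P : Subgroup C) = 9 := hP
    rw [h2] at this
    omega
  have hle : (P : Subgroup C) ≤ normalizer ((P : Subgroup C) : Set C) := le_normalizer
  -- the number of Sylow subgroups
  have hcong := card_sylow_modEq_one 3 C
  have hnum : Nat.card (Sylow 3 C) = (normalizer ((P : Subgroup C) : Set C)).index :=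
    P.card_eq_index_normalizer
  have hdvd : (normalizer ((P : Subgroup C) : Set C)).index ∣ 4 := by
    rw [← hidx]
    exact index_dvd_of_le hle
  have hne1 : (normalizer ((P : Subgroup C) : Set C)).index ≠ 1 := by
    intro h
    rw [index_eq_one] at h
    exact hn (normalizer_eq_top_iff.1 h)
  have h4 : (normalizer ((P : Subgroup C) : Set C)).index = 4 := by
    rw [hnum] at hcong
    have h5 := Nat.le_of_dvd (by norm_num) hdvd
    obtain ⟨i, hi⟩ : ∃ i, i = (normalizer ((P : Subgroup C) : Set C)).index := ⟨_, rfl⟩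
    rw [← hi] at hcong hdvd hne1 h5 ⊢
    interval_cases i
    · omega
    · omega
    · exact absurd hcong (by decide)
    · omega
    · rfl
  have heq : normalizer ((P : Subgroup C) : Set C) = P := by
    refine (eq_of_le_of_card_ge hle ?_).symm
    have := (normalizer ((P : Subgroup C) : Set C)).card_mul_index
    rw [hC, h4] at this
    have h2 : Nat.card (P : Subgroup C) = 9 := hP
    omega
  have hcent : normalizer ((P : Subgroup C) : Set C) ≤ centralizer ((P : Subgroup C) : Set C) := by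
    rw [heq]
    intro x hx
    rw [mem_centralizer_iff]
    intro y hy
    exact hab y hy x hx
  exact ⟨P, _, inferInstance, MonoidHom.ker_transferSylow_isComplement' P hcent⟩

theorem three_el {X : Type*} [Group X] [Finite X] (h9 : ¬ 27 ∣ Nat.card X)
    (hexp : ∀ x : X, orderOf x ≠ 9) {g : X} (hg : El 3 g) : orderOf g = 3 := by
  obtain ⟨⟨k, hk⟩, h1⟩ := hg
  have hk2 : k ≤ 2 := by
    by_contra hcon
    apply h9
    have h3 : 3 ^ 3 ∣ Nat.card X := (pow_dvd_pow 3 (by omega : 3 ≤ k)).trans (hk ▸ _root_.orderOf_dvd_natCard g)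
    simpa only [_root_.Nat.reducePow] using h3
  interval_cases k
  · exact absurd (orderOf_eq_one_iff.1 hk) h1
  · simpa using hk
  · exact absurd (by simpa using hk) (hexp g)

/-- `5 ≤ l(B₀(M22))`, `p = 3` -/
theorem rank_M22 {M : Ideal AlgInt} (hM : IsPModular 3 M) : 5 ≤ blockRank 3 (principalBlock M Spor.M22) := by
  classical
  have h3 : Fact (Nat.Prime 3) := ⟨Nat.prime_three⟩
  obtain ⟨hcard, ⟨s, t, g, hs, ht, hst, hne, hcs, hconj, hgs, hgt⟩, -, -⟩ := Cfsg.Agent.H968.TwoM22.three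
  have hfin : Finite Spor.M22 := Nat.finite_of_card_ne_zero (by rw [hcard]; norm_num)
  -- the subgroup `E = ⟨s, t⟩`
  have hs3 : s ^ 3 = 1 := by rw [← hs]; exact pow_orderOf_eq_one s
  have ht3 : t ^ 3 = 1 := by rw [← ht]; exact pow_orderOf_eq_one t
  obtain ⟨E, hE, hmem⟩ := Cfsg.Agent.H968.TwoM22.exists_E hs3 ht3 hst hne
  have h27 : ¬ 27 ∣ Nat.card Spor.M22 := by rw [hcard]; norm_num
  have hsE : s ∈ E := (hmem s).2 ⟨1, by norm_num, 0, by norm_num, by simp⟩
  have htE : t ∈ E := (hmem t).2 ⟨0, by norm_num, 1, by norm_num, by simp only [_root_.pow_zero, _root_.pow_one, _root_.one_mul]⟩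
  have hEc : ∀ x ∈ E, ∀ y ∈ E, x * y = y * x := by
    intro x hx y hy
    obtain ⟨i, -, j, -, rfl⟩ := (hmem x).1 hx
    obtain ⟨k, -, l, -, rfl⟩ := (hmem y).1 hy
    have hc : Commute s t := hst
    exact (((Commute.refl s).pow_pow i k).mul_left (hc.symm.pow_pow j k)).mul_right
      ((hc.pow_pow i l).mul_left ((Commute.refl t).pow_pow j l))
  have hEle : E ≤ centralizer ({s} : Set Spor.M22) := fun x hx =>
    mem_centralizer_singleton_iff.2 (hEc x hx s hsE)
  -- no elements of order nine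
  have hexp : ∀ x : Spor.M22, orderOf x ≠ 9 := by
    intro x hx
    have hpg : IsPGroup 3 (zpowers x) := IsPGroup.of_card (n := 2) (by rw [Nat.card_zpowers, hx]; norm_num)
    obtain ⟨c, hc⟩ := Cfsg.Agent.H968.TwoM22.conj_nine h27 hE hpg
    have h1 := hc x (mem_zpowers x)
    obtain ⟨i, -, j, -, h2⟩ := (hmem _).1 h1
    have h4 : (c * x * c⁻¹) ^ 3 = 1 := by
      rw [h2, (show Commute (s ^ i) (t ^ j) from Commute.pow_pow (show Commute s t from hst) i j).mul_pow, ← pow_mul,
        ← pow_mul, mul_comm i, mul_comm j, pow_mul, pow_mul, hs3, ht3, one_pow, one_pow, one_mul]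
    have h5 : orderOf (c * x * c⁻¹) = 9 := by
      rw [← hx]
      exact (orderOf_injective (MulAut.conj c).toMonoidHom (MulAut.conj c).injective x)
    have h6 := orderOf_dvd_of_pow_eq_one h4
    rw [h5] at h6
    norm_num at h6
  have h := Cfsg.Agent.H80.K6.six_le_rank_add (p := 3) (by norm_num) hM (Q := Spor.M22) (by rw [hcard]; norm_num) {s}
    (fun x hx => ⟨s, Finset.mem_singleton_self s, (hconj x (three_el h27 hexp hx)).symm⟩)
    (fun x hx => by
      rw [Finset.mem_singleton.1 hx]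
      -- the Sylow subgroup of the centralizer
      have hcE : Nat.card (E.subgroupOf (centralizer ({s} : Set Spor.M22))) = 3 ^ (Nat.card ↥(centralizer ({s} : Set Spor.M22))).factorization 3 := by
        rw [Nat.card_congr (subgroupOfEquivOfLe hEle).toEquiv, hE, hcs]
        have : Nat.factorization 36 3 = 2 := by
          rw [show 36 = 3 ^ 2 * 4 by norm_num, Nat.factorization_mul (by norm_num) (by norm_num)]
          simp only [Finsupp.coe_add, Pi.add_apply, Nat.Prime.factorization_pow Nat.prime_three, Finsupp.single_eq_same]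
          rw [Nat.factorization_eq_zero_of_not_dvd (by norm_num)]
        rw [this]
        norm_num
      refine compl_36 hcs (Sylow.ofCard _ hcE) ?_ ?_
      · intro x hx y hy
        exact Subtype.ext (hEc x (mem_subgroupOf.1 hx) y (mem_subgroupOf.1 hy))
      · intro hnorm
        have h5 := hnorm.conj_mem ⟨t, mem_centralizer_singleton_iff.2 (hEc t htE s hsE)⟩ (mem_subgroupOf.2 htE)
          ⟨g, mem_centralizer_singleton_iff.2 hgs⟩
        have h6 : g * t * g⁻¹ ∈ E := mem_subgroupOf.1 h5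
        obtain ⟨i, hi, j, hj, h7⟩ := (hmem _).1 h6
        exact hgt i hi j hj (by rw [← h7, inv_mul_cancel_right]))
  rw [Finset.card_singleton] at h
  omega

end Cfsg.Agent.H774.SP.M22
end

-- part: H774/SP/J4
section
/-!
# S4876, `p = 3`: the row `J4` (helper774)

The centralizer `6.M22` of an element of order 3 has `l(B₀) ≥ 5`.
-/

set_option autoImplicit false

open Cfsg Subgroup

namespace Cfsg.Agent.H774.SP.J4

open Cfsg.Agent.H61.K6 Cfsg.Agent.H820.K6

universe u

/-- a simple group of order divisible by 2 and 3 is not abelian -/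
theorem not_comm {X : Type*} [Group X] [Finite X] [IsSimpleGroup X] (h2 : 2 ∣ Nat.card X) (h3 : 3 ∣ Nat.card X) :
    ∃ a b : X, a * b ≠ b * a := by
  by_contra hcon
  push Not at hcon
  let _ : CommGroup X := { (inferInstance : Group X) with mul_comm := hcon }
  have hp := IsSimpleGroup.prime_card (α := X)
  have e2 := (Nat.prime_dvd_prime_iff_eq Nat.prime_two hp).1 h2
  have e3 := (Nat.prime_dvd_prime_iff_eq Nat.prime_three hp).1 h3
  omega

theorem krow : KRow.{u, 0} 3 Spor.J4 := by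
  classical
  have h3 : Fact (Nat.Prime 3) := ⟨Nat.prime_three⟩
  obtain ⟨hfin, hs, ⟨F⟩⟩ := Cfsg.Agent.KFacts.J4.Base.exists_full (K := Spor.J4) ⟨MulEquiv.refl _⟩
  obtain ⟨z, P, hJ⟩ := H337.isOfJankoFourType_of_isoJ4 (G := Spor.J4) ⟨MulEquiv.refl _⟩
  have hcardP : Nat.card P = 3 := hJ.2.2.2.2.2.1
  have hz : orderOf z = 2 := hJ.1
  have hd2 : 2 ∣ Nat.card Spor.J4 := hz ▸ _root_.orderOf_dvd_natCard z
  have hd3 : 3 ∣ Nat.card Spor.J4 := hcardP ▸ card_subgroup_dvd_card P
  have hna := not_comm hd2 hd3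
  have hG : ¬ IsMulCommutative Spor.J4 := by
    intro h
    obtain ⟨a, b, hab⟩ := hna
    exact hab (h.is_comm.comm a b)
  obtain ⟨-, -, -, ⟨e⟩, hN⟩ := S5563.result hG z P hJ
  -- the generator
  obtain ⟨x, hx, hx1⟩ : ∃ x ∈ P, x ≠ 1 := by
    by_contra hcon
    push Not at hcon
    have h1 : P = ⊥ := by
      rw [eq_bot_iff]
      exact fun y hy => mem_bot.2 (hcon y hy)
    rw [h1, card_bot] at hcardP
    norm_num at hcardP
  have hox : orderOf x = 3 := by
    have h1 : orderOf x ∣ 3 := by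
      rw [← hcardP]
      have := _root_.orderOf_dvd_natCard (⟨x, hx⟩ : P)
      rwa [orderOf_mk] at this
    rcases (Nat.dvd_prime Nat.prime_three).1 h1 with h | h
    · exact absurd (orderOf_eq_one_iff.1 h) hx1
    · exact h
  have hzp : zpowers x = P := by
    refine eq_of_le_of_card_ge (by rwa [zpowers_le]) ?_
    rw [Nat.card_zpowers, hox, hcardP]
  have hcP : centralizer ({x} : Set Spor.J4) = centralizer (P : Set Spor.J4) := by
    rw [← hzp, zpowers_eq_closure, centralizer_closure]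
  have hD : centralizer ({x} : Set Spor.J4) = centralizer ({z} : Set Spor.J4) ⊓ centralizer (P : Set Spor.J4) := by
    rw [hcP]
    refine le_antisymm (le_inf (le_trans ?_ hN) le_rfl) inf_le_right
    exact centralizer_le_normalizer (P : Set Spor.J4)
  let D : Subgroup Spor.J4 := centralizer ({z} : Set Spor.J4) ⊓ centralizer (P : Set Spor.J4)
  let φ : ↥(centralizer ({x} : Set Spor.J4)) →* Spor.M22 :=
    e.toMonoidHom.comp ((QuotientGroup.mk' (center D)).comp (MulEquiv.subgroupCongr hD).toMonoidHom)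
  have hφ : Function.Surjective φ :=
    e.surjective.comp ((QuotientGroup.mk'_surjective _).comp (MulEquiv.subgroupCongr hD).surjective)
  have hw : WX 3 x 5 := fun M hM => (M22.rank_M22 hM).trans (rank_le_of_surj hM φ hφ)
  refine KGe.of_complete (fun σ => ?_) fun M hM => ?_
  · obtain ⟨k, hk⟩ := Cfsg.Agent.KFacts.J4.SheetJ4.inner F σ
    exact ⟨k, fun y => by rw [hk]; rfl⟩
  · refine card_ge (n := 7) (m := 2) {x} (fun y hy => ?_) (fun y hy y' hy' _ => ?_) (fun _ => 5) (fun y hy => ?_) hM ?_ ?_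
    · rw [Finset.mem_singleton.1 hy]
      exact ⟨⟨1, by rw [hox, pow_one]⟩, hx1⟩
    · rw [Finset.mem_singleton.1 hy, Finset.mem_singleton.1 hy']
    · rw [Finset.mem_singleton.1 hy]
      exact hw
    · exact two_le_rank hM (not_compl_of_simple hna hd3)
    · simp

/-- **The row `J4`, `p = 3`.** -/
theorem row_j4 {X : Type*} [Group X] (h : Spor.IsoJ4 X) : KRow.{u} 3 X := by
  obtain ⟨e⟩ := h
  exact KRow.congr e.symm krow

end Cfsg.Agent.H774.SP.J4
end

-- part: H600/CoFive/Mat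
section
/-!
# Elements of `Co0` for the prime 5 (helper600, S4876)

`R1`, `R2` of order 5 (traces `-6`, `-1`; the product has trace 4) commute; `R3` of order 5 and the involution `R4` commute with
`R1` and `R2`; `R4` inverts `R3`.  Generated by a script; checked by the kernel.
-/

set_option autoImplicit false
set_option maxRecDepth 20000

namespace Cfsg.Agent.H600.CoFive.Mat

open Cfsg.Agent.LThreeCo1.Ev Cfsg.Agent.SporadicStructure.Co0Matrix Cfsg.Agent.CoOneType.CoEval

/-- matrix (times 8) -/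
def R1 : List (List ℤ) := [
  [-1, -1, 1, -1, -1, 1, 1, 1, 1, -3, 1, -1, 1, 1, 1, -3, 1, 1, 1, 3, 3, 1, 1, 3],
  [1, -3, -1, -3, 1, -1, -1, -1, -1, -1, -1, 1, -1, -1, -1, -1, -1, -1, 3, 1, 1, -1, 3, -3],
  [-1, -1, -3, -1, -1, -3, 1, 1, 1, 1, 1, -1, -3, 1, 1, 1, -3, 1, 1, -1, -1, 1, 1, 3],
  [-1, 3, 1, -1, 3, 1, 1, 1, 1, 1, 1, -1, 1, 1, 1, 1, -3, 1, 1, -1, 3, -3, 1, -1],
  [-1, -1, 1, -1, -1, 1, 1, 1, 1, 1, 1, 3, 1, 5, -3, 1, 1, 1, 1, -1, -1, 1, 1, -1],
  [-1, -1, 1, -1, -1, -3, 1, 1, -3, 1, 1, -1, 1, 1, 1, 1, 1, 1, 1, 3, -1, -3, -3, -1],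
  [-1, -1, 1, -1, -1, 1, 1, 1, 1, 1, -3, -1, -3, 1, 1, 1, 1, -3, 1, -1, 3, 1, -3, -1],
  [-1, 3, 1, -1, -1, -3, 1, -3, 1, 1, 1, -1, 1, 1, 1, -3, 1, -3, 1, -1, -1, 1, 1, -1],
  [-1, -1, -3, -1, -1, 1, 1, -3, -3, 1, 1, -1, 1, 1, 1, 1, 1, 1, -3, -1, 3, 1, 1, -1],
  [3, -1, 1, -1, -1, 1, 1, -3, 1, -3, 1, -1, 1, 1, 1, 1, -3, 1, 1, -1, -1, 1, -3, -1],
  [-1, -1, 1, 3, -1, 1, 1, 1, -3, 1, -3, -1, 1, 1, 1, -3, -3, 1, 1, -1, -1, 1, 1, -1],
  [-1, -1, 1, -1, -1, 1, 1, 1, 1, 1, 1, -5, 1, -3, -3, 1, 1, 1, 1, -1, -1, 1, 1, -1],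
  [-3, 1, -1, -3, 1, 3, 3, -1, -1, -1, -1, 1, -1, -1, -1, -1, -1, -1, -1, 1, -3, -1, -1, 1],
  [1, 1, -1, -3, -3, -1, -1, 3, -1, -1, -1, 1, 3, -1, -1, -1, -1, -1, -1, -3, 1, -1, -1, 1],
  [-3, 1, -1, 1, 1, -1, -1, -1, -1, -1, -1, 1, 3, -1, -1, 3, -1, -1, 3, 1, 1, 3, -1, 1],
  [1, 1, -1, 1, 1, -1, -1, -1, -1, -1, -1, -3, -1, 3, -5, -1, -1, -1, -1, 1, 1, -1, -1, 1],
  [-3, -3, 3, 1, 1, -1, -1, -1, -1, -1, 3, 1, -1, -1, -1, -1, -1, -1, -1, -3, 1, -1, -1, 1],
  [3, -1, 1, -1, 3, 1, 1, 1, -3, 1, 1, -1, 1, 1, 1, 1, 1, -3, 1, -1, -1, 1, 1, 3],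
  [-1, -1, 1, -1, 3, -3, 1, 1, 1, -3, -3, -1, 1, 1, 1, 1, 1, 1, -3, -1, -1, 1, 1, -1],
  [1, 1, -1, 1, 1, -1, 3, -1, -1, -1, -1, 1, -1, -1, -1, -1, 3, 3, 3, -3, 1, -1, -1, 1],
  [-1, -1, -3, -1, 3, 1, -3, 1, 1, 1, 1, -1, 1, 1, 1, -3, 1, 1, 1, -1, -1, 1, -3, -1],
  [-1, -1, 1, -1, -1, 1, -3, -3, 1, 1, -3, -1, 1, 1, 1, 1, 1, 1, 1, -1, -1, -3, 1, 3],
  [1, -3, -1, 1, 1, -1, 3, -1, 3, 3, -1, 1, 3, -1, -1, -1, -1, -1, -1, 1, 1, -1, -1, 1],
  [-1, -1, -3, 3, -1, 1, 1, 1, 1, -3, 1, -1, 1, 1, 1, 1, 1, -3, 1, -1, -1, -3, 1, -1]]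

theorem ok1 : Ok R1 (tr R1) := Cfsg.Agent.Co0Q.ok_of (by decide +kernel)

/-- matrix (times 8) -/
def R2 : List (List ℤ) := [
  [0, 0, 0, -2, -2, -2, 2, 0, -2, 0, -4, 0, 0, 0, -4, 0, 0, 2, 0, 0, -2, 0, 0, -2],
  [-2, -2, 2, 0, 0, 0, 0, 2, 0, 2, -2, 2, 2, -2, 2, 2, 2, 0, 2, 2, 0, -2, -2, 0],
  [2, 2, 2, 0, 0, 0, 0, 2, 0, 2, -2, -2, 2, -2, 2, 2, -2, 0, -2, -2, 0, 2, 2, 0],
  [2, -2, -2, 0, 0, 0, 0, 2, 0, -2, -2, 2, 2, 2, 2, -2, 2, 0, 2, -2, 0, 2, 2, 0],
  [-4, 0, 0, -2, -2, -2, -2, 0, -2, 0, 0, 0, 0, 0, 0, 0, 0, -2, 0, -4, 2, 0, 0, 2],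
  [2, -2, 2, 0, 0, 0, 0, 2, 0, -2, 2, 2, 2, -2, -2, -2, -2, 0, -2, -2, 0, -2, -2, 0],
  [0, 0, 0, 2, -2, -2, 2, 0, 2, 0, 0, 0, 0, 0, 0, 0, 0, -2, 0, 0, -2, -4, 4, 2],
  [-2, -2, 2, 0, 0, 0, 0, -2, 0, -2, -2, 2, -2, -2, 2, -2, -2, 0, -2, 2, 0, 2, 2, 0],
  [0, 0, 0, 2, 2, 2, -2, 0, 2, 0, -4, 0, 0, 0, -4, 0, 0, -2, 0, 0, 2, 0, 0, 2],
  [-2, -2, -2, 0, 0, 0, 0, 2, 0, 2, 2, 2, 2, 2, -2, 2, -2, 0, -2, 2, 0, 2, 2, 0],
  [0, 0, 0, -2, 2, -2, -2, 0, 2, 4, 0, 0, 0, 0, 0, -4, 0, 2, 0, 0, -2, 0, 0, 2],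
  [0, -4, 0, 2, 2, -2, -2, 0, -2, 0, 0, -4, 0, 0, 0, 0, 0, -2, 0, 0, -2, 0, 0, -2],
  [0, 0, 0, 2, -2, 2, -2, 0, -2, 0, 0, 0, 0, 0, 0, 0, 4, 2, -4, 0, -2, 0, 0, 2],
  [0, 0, -4, -2, -2, 2, -2, 0, 2, 0, 0, 0, 0, -4, 0, 0, 0, -2, 0, 0, -2, 0, 0, -2],
  [0, -4, 0, -2, -2, 2, 2, 0, 2, 0, 0, -4, 0, 0, 0, 0, 0, 2, 0, 0, 2, 0, 0, 2],
  [-2, 2, -2, 0, 0, 0, 0, 2, 0, -2, -2, -2, 2, 2, 2, -2, -2, 0, -2, 2, 0, -2, -2, 0],
  [0, 0, 0, 2, -2, -2, -2, 4, 2, 0, 0, 0, -4, 0, 0, 0, 0, 2, 0, 0, 2, 0, 0, -2],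
  [0, 0, 4, -2, -2, 2, -2, 0, 2, 0, 0, 0, 0, 4, 0, 0, 0, -2, 0, 0, -2, 0, 0, -2],
  [0, 0, 0, 2, -2, -2, 2, 0, 2, 0, 0, 0, 0, 0, 0, 0, 0, -2, 0, 0, -2, 4, -4, 2],
  [0, 0, 0, -2, 2, 2, 2, 4, -2, 0, 0, 0, -4, 0, 0, 0, 0, -2, 0, 0, -2, 0, 0, 2],
  [0, 0, 0, -2, 2, -2, 2, 0, 2, 0, 0, 0, 0, 0, 0, 0, 4, -2, -4, 0, 2, 0, 0, -2],
  [2, -2, -2, 0, 0, 0, 0, -2, 0, 2, -2, 2, -2, 2, 2, 2, -2, 0, -2, -2, 0, -2, -2, 0],
  [0, 0, 0, -2, 2, -2, -2, 0, 2, -4, 0, 0, 0, 0, 0, 4, 0, 2, 0, 0, -2, 0, 0, 2],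
  [4, 0, 0, -2, -2, -2, -2, 0, -2, 0, 0, 0, 0, 0, 0, 0, 0, -2, 0, 4, 2, 0, 0, 2]]

theorem ok2 : Ok R2 (tr R2) := Cfsg.Agent.Co0Q.ok_of (by decide +kernel)

/-- matrix (times 8) -/
def R3 : List (List ℤ) := [
  [1, 1, -1, -1, -3, -1, -3, -1, -1, -1, -3, -1, -1, -1, -1, 1, -1, 3, 3, 1, -1, -1, 1, -1],
  [-3, 1, -1, -1, 1, 3, 1, -1, -1, -1, -3, -1, -1, -1, 3, -3, -1, -1, -1, 1, -1, -1, 1, -1],
  [1, 1, 3, -1, 1, -1, 1, 3, -1, -1, 1, -1, -1, -1, 3, 1, -1, 3, -1, -3, -1, -1, 1, -1],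
  [1, 1, -1, 3, -3, -1, 1, -1, 3, -1, 1, -1, -1, -1, -1, -3, -1, -1, -1, -3, -1, -1, 1, -1],
  [-3, 1, -1, 3, 1, -1, 1, -1, -1, 3, 1, -1, -1, -1, -1, 1, -1, 3, -1, 1, 3, -1, 1, -1],
  [3, -1, 1, 1, -1, 1, -1, -3, -3, 1, -1, 1, 1, 1, 1, -1, 1, 1, -3, -1, 1, -3, -1, 1],
  [3, -1, 1, 1, -1, 1, 3, 1, 1, 1, -1, -3, -3, 1, 1, -1, 1, 1, 1, 3, 1, 1, -1, 1],
  [1, 1, 3, -1, 1, -1, 1, -1, -1, -1, 1, -1, 3, -1, -1, -3, -1, -1, 3, 1, 3, -1, 1, -1],
  [1, -3, -1, -1, 1, -1, 1, -1, -1, -1, -3, -1, -1, -1, -1, 1, -1, -1, -1, -3, 3, 3, 1, -1],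
  [-1, -1, 1, -3, -1, 1, -1, -3, 1, 1, 3, 1, -3, 1, 1, -1, -3, 1, 1, -1, 1, 1, -1, 1],
  [1, -3, -1, -1, 1, -1, -3, 3, -1, 3, 1, -1, -1, -1, -1, -3, -1, -1, -1, 1, -1, -1, 1, -1],
  [1, 1, -1, -1, 1, 3, 1, -1, -1, 3, 1, -1, -1, -1, -1, 1, 3, -1, 3, -3, -1, -1, 1, -1],
  [1, -3, -1, -1, 1, 3, 1, -1, 3, -1, 1, -1, 3, -1, -1, 1, -1, 3, -1, 1, -1, -1, 1, -1],
  [3, 3, -3, 1, 3, 1, -1, 1, 1, 1, -1, 1, 1, 1, 1, -1, -3, 1, 1, -1, 1, 1, -1, 1],
  [-1, -1, 1, 1, -1, 1, -1, 1, 1, 1, -1, 1, 1, -3, 1, -1, 1, 1, 1, -1, 1, 1, 3, 5],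
  [-1, -1, 1, 1, -1, 1, -1, 1, 1, 1, -1, -3, 1, 1, 1, 3, -3, -3, 1, -1, 1, -3, -1, 1],
  [-1, -1, 1, 1, 3, 1, -1, 1, 1, -3, -1, 1, -3, 1, -3, -1, 1, 1, 1, -1, 1, -3, -1, 1],
  [1, 1, 3, 3, 1, 3, -3, -1, -1, -1, 1, -1, -1, -1, -1, 1, -1, -1, -1, 1, -1, 3, 1, -1],
  [1, -3, -1, 3, 1, -1, 1, -1, -1, -1, 1, 3, -1, -1, 3, 1, -1, -1, 3, 1, -1, -1, 1, -1],
  [1, 1, -1, -1, 1, -1, 1, -1, -1, -1, 1, -1, -1, -5, -1, 1, -1, -1, -1, 1, -1, -1, -3, 3],
  [1, 1, -1, -1, 1, -1, -3, -1, 3, -1, 1, -1, -1, -1, 3, 1, 3, -1, -1, 1, 3, -1, 1, -1],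
  [-1, -1, 1, 1, 3, -3, -1, -3, 1, 1, -1, -3, 1, 1, 1, -1, 1, 1, 1, -1, -3, 1, -1, 1],
  [1, 1, 3, -1, 1, -1, 1, -1, 3, 3, -3, 3, -1, -1, -1, 1, -1, -1, -1, 1, -1, -1, 1, -1],
  [1, 1, -1, -1, 1, -1, 1, -1, -1, -1, 1, -1, -1, 3, -1, 1, -1, -1, -1, 1, -1, -1, 5, 3]]

theorem ok3 : Ok R3 (tr R3) := Cfsg.Agent.Co0Q.ok_of (by decide +kernel)

/-- matrix (times 8) -/
def R4 : List (List ℤ) := [
  [0, 0, 2, 2, 0, -2, -2, 0, -2, -2, -2, 2, 2, 2, 0, 2, 0, 0, 2, 0, -2, -2, -2, 2],
  [0, 0, 2, -2, 0, 2, 2, 0, -2, -2, -2, 2, -2, 2, 0, -2, 0, 0, -2, 0, 2, 2, -2, 2],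
  [2, 2, 4, 0, 2, 0, 0, 2, 0, 0, 0, 0, 0, -4, 2, 0, -2, 2, 0, -2, 0, 0, 0, 0],
  [2, -2, 0, 4, 2, 0, 4, -2, 0, 0, 0, 0, 0, 0, -2, 0, 2, 2, 0, -2, 0, 0, 0, 0],
  [0, 0, 2, 2, 0, -2, -2, 0, 2, 2, 2, -2, -2, 2, 0, -2, 0, 0, -2, 0, 2, -2, -2, 2],
  [-2, 2, 0, 0, -2, 4, 0, -2, 0, 0, 0, 0, 0, 0, -2, 0, -2, 2, 0, -2, 0, -4, 0, 0],
  [-2, 2, 0, 4, -2, 0, 4, 2, 0, 0, 0, 0, 0, 0, 2, 0, -2, -2, 0, 2, 0, 0, 0, 0],
  [0, 0, 2, -2, 0, -2, 2, 0, -2, -2, 2, -2, 2, 2, 0, -2, 0, 0, 2, 0, 2, -2, 2, -2],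
  [-2, -2, 0, 0, 2, 0, 0, -2, 4, -4, 0, 0, 0, 0, 2, 0, -2, -2, 0, -2, 0, 0, 0, 0],
  [-2, -2, 0, 0, 2, 0, 0, -2, -4, 4, 0, 0, 0, 0, 2, 0, -2, -2, 0, -2, 0, 0, 0, 0],
  [-2, -2, 0, 0, 2, 0, 0, 2, 0, 0, 4, 4, 0, 0, -2, 0, -2, 2, 0, 2, 0, 0, 0, 0],
  [2, 2, 0, 0, -2, 0, 0, -2, 0, 0, 4, 4, 0, 0, 2, 0, 2, -2, 0, -2, 0, 0, 0, 0],
  [2, -2, 0, 0, -2, 0, 0, 2, 0, 0, 0, 0, 4, 0, -2, 0, -2, -2, -4, -2, 0, 0, 0, 0],
  [2, 2, -4, 0, 2, 0, 0, 2, 0, 0, 0, 0, 0, 4, 2, 0, -2, 2, 0, -2, 0, 0, 0, 0],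
  [0, 0, 2, -2, 0, -2, 2, 0, 2, 2, -2, 2, -2, 2, 0, 2, 0, 0, -2, 0, -2, -2, 2, -2],
  [2, -2, 0, 0, -2, 0, 0, -2, 0, 0, 0, 0, 0, 0, 2, 4, -2, 2, 0, 2, 4, 0, 0, 0],
  [0, 0, -2, 2, 0, -2, -2, 0, -2, -2, -2, 2, -2, -2, 0, -2, 0, 0, -2, 0, 2, -2, 2, -2],
  [0, 0, 2, 2, 0, 2, -2, 0, -2, -2, 2, -2, -2, 2, 0, 2, 0, 0, -2, 0, -2, 2, 2, -2],
  [2, -2, 0, 0, -2, 0, 0, 2, 0, 0, 0, 0, -4, 0, -2, 0, -2, -2, 4, -2, 0, 0, 0, 0],
  [0, 0, -2, -2, 0, -2, 2, 0, -2, -2, 2, -2, -2, -2, 0, 2, 0, 0, -2, 0, -2, -2, -2, 2],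
  [-2, 2, 0, 0, 2, 0, 0, 2, 0, 0, 0, 0, 0, 0, -2, 4, 2, -2, 0, -2, 4, 0, 0, 0],
  [-2, 2, 0, 0, -2, -4, 0, -2, 0, 0, 0, 0, 0, 0, -2, 0, -2, 2, 0, -2, 0, 4, 0, 0],
  [-2, -2, 0, 0, -2, 0, 0, 2, 0, 0, 0, 0, 0, 0, 2, 0, 2, 2, 0, -2, 0, 0, 4, 4],
  [2, 2, 0, 0, 2, 0, 0, -2, 0, 0, 0, 0, 0, 0, -2, 0, -2, -2, 0, 2, 0, 0, 4, 4]]

theorem ok4 : Ok R4 (tr R4) := Cfsg.Agent.Co0Q.ok_of (by decide +kernel)

/-- the matrices -/
def M : ℕ → List (List ℤ)
  | 1 => R1
  | 2 => R2
  | 3 => R3
  | 4 => R4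
  | _ => R1

theorem okM (i : ℕ) : Ok (M i) (tr (M i)) := by
  unfold M
  split
  · exact ok1
  · exact ok2
  · exact ok3
  · exact ok4
  · exact ok1

end Cfsg.Agent.H600.CoFive.Mat
end

-- part: H600/CoFive/Row
section
/-!
# S4876, `p = 5`: the row `Co1` (helper600)

Three elements of order 5 with traces `-6`, `4`, `-1`, all commuting with a dihedral group of order 10 : three classes of
weight 2.
-/

set_option autoImplicit false
set_option maxRecDepth 20000

namespace Cfsg.Agent.H600.CoFive.Row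

open Cfsg Cfsg.Agent.SporadicA Cfsg.Agent.SporadicStructure.Co0Matrix Cfsg.Agent.CoOneType.CoEval
open Cfsg.Agent.CoOneType.CoFast Cfsg.Agent.LThreeCo1.Ev
open Cfsg.Agent.H600.CoFive.Mat
open Cfsg.Agent.H61.K6 Cfsg.Agent.H121.K6
open Cfsg.Agent.Co2Type.Mono (tr8 tr8_conj)
open Cfsg.Agent.PreUniqCo.TrWord (trW tr8_word)

universe u v

/-- the elements -/
noncomputable def el (i : ℕ) : Co0 := mk (okM i)

theorem rep (i : ℕ) : _root_.Cfsg.Agent.CoOneType.CoEval.Rep (el i) (M i) := rep_mk (okM i)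

theorem word_eq {w w' : List ℕ} (h : eqB M w w' = true) : (w.map el).prod = (w'.map el).prod :=
  eq_of_eqB rep h

theorem word_tr (w : List ℕ) : tr8 ((w.map el).prod) = trW M w := tr8_word rep w

/-! ### the relations -/

theorem k1 : eqB M [1, 1, 1, 1, 1] [] = true := by delta eqB; rw [Cfsg.Agent.Co0Q.foldZ_eq]; decide +kernel
theorem k2 : eqB M [2, 2, 2, 2, 2] [] = true := by delta eqB; rw [Cfsg.Agent.Co0Q.foldZ_eq]; decide +kernel
theorem k3 : eqB M [3, 3, 3, 3, 3] [] = true := by delta eqB; rw [Cfsg.Agent.Co0Q.foldZ_eq]; decide +kernel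
theorem k12 : eqB M [1, 2] [2, 1] = true := by delta eqB; rw [Cfsg.Agent.Co0Q.foldZ_eq]; decide +kernel
theorem k13 : eqB M [1, 3] [3, 1] = true := by delta eqB; rw [Cfsg.Agent.Co0Q.foldZ_eq]; decide +kernel
theorem k23 : eqB M [2, 3] [3, 2] = true := by delta eqB; rw [Cfsg.Agent.Co0Q.foldZ_eq]; decide +kernel
theorem k14 : eqB M [1, 4] [4, 1] = true := by delta eqB; rw [Cfsg.Agent.Co0Q.foldZ_eq]; decide +kernel
theorem k24 : eqB M [2, 4] [4, 2] = true := by delta eqB; rw [Cfsg.Agent.Co0Q.foldZ_eq]; decide +kernel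
theorem k34 : eqB M [4, 3] [3, 3, 3, 3, 4] = true := by delta eqB; rw [Cfsg.Agent.Co0Q.foldZ_eq]; decide +kernel

theorem k_tr : (trW M [1] = -48 ∧ trW M [2] = -8) ∧ trW M [1, 2] = 32 ∧ trW M [3] = 32 := by delta trW; rw [Cfsg.Agent.Co0Q.foldZ_eq]; decide +kernel

theorem pow5 {i : ℕ} (h : eqB M [i, i, i, i, i] [] = true) : el i ^ 5 = 1 := by
  have h1 := word_eq h
  simp only [List.map_cons, List.map_nil, List.prod_cons, List.prod_nil, mul_one] at h1
  rw [← h1]
  simp only [pow_succ, pow_zero, one_mul, mul_assoc]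

theorem comm {i j : ℕ} (h : eqB M [i, j] [j, i] = true) : el i * el j = el j * el i := by
  have h1 := word_eq h
  simp only [List.map_cons, List.map_nil, List.prod_cons, List.prod_nil, mul_one] at h1
  exact h1

theorem inv34 : el 4 * el 3 * (el 4)⁻¹ = (el 3)⁻¹ := by
  have h1 := word_eq k34
  simp only [List.map_cons, List.map_nil, List.prod_cons, List.prod_nil, mul_one] at h1
  rw [h1]
  have h2 := pow5 k3
  have h3 : el 3 * (el 3 * (el 3 * (el 3 * el 4))) * (el 4)⁻¹ = el 3 ^ 4 := by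
    simp only [pow_succ, pow_zero, one_mul, mul_assoc, mul_inv_cancel, mul_one]
  rw [h3]
  rw [pow_succ] at h2
  exact eq_inv_of_mul_eq_one_left h2

/-! ### the absolute value of the trace on `Co1` -/

theorem neg_smul (v : leechLattice) : (Co0Basic.negCo0 • v : leechLattice) = -v := Co0Basic.negCo0_apply v

theorem tr8_neg_mul (g : Co0) : tr8 (Co0Basic.negCo0 * g) = - tr8 g := by
  unfold tr8
  rw [← Finset.sum_neg_distrib]
  refine Finset.sum_congr rfl fun i _ => ?_
  rw [mul_smul, neg_smul]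
  rfl

/-- the absolute value of the trace, on `Co1` -/
noncomputable def T1 (x : Spor.Co1) : ℕ := (tr8 (Quotient.out x)).natAbs

theorem T1_mk (g : Co0) : T1 (g : Spor.Co1) = (tr8 g).natAbs := by
  unfold T1
  have h1 : ((Quotient.out (g : Spor.Co1) : Co0) : Spor.Co1) = (g : Spor.Co1) := QuotientGroup.out_eq' _
  have h2 : (Quotient.out (g : Spor.Co1) : Co0) * g⁻¹ ∈ Subgroup.center Co0 := by
    rw [← QuotientGroup.eq_one_iff, QuotientGroup.mk_mul, QuotientGroup.mk_inv, h1, mul_inv_cancel]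
  rcases Co0Basic.eq_one_or_neg_of_mem_center h2 with h | h
  · rw [mul_inv_eq_one.1 h]
  · rw [mul_inv_eq_iff_eq_mul.1 h, tr8_neg_mul, Int.natAbs_neg]

theorem T1_aut (σ : Spor.Co1 ≃* Spor.Co1) (s : Spor.Co1) : T1 (σ s) = T1 s := by
  obtain ⟨k, hk⟩ := Cfsg.Agent.ConwayFacts.AutCo1.inner σ
  obtain ⟨g, rfl⟩ := QuotientGroup.mk_surjective s
  obtain ⟨h, rfl⟩ := QuotientGroup.mk_surjective k
  rw [show σ (g : Spor.Co1) = _ from hk _, ← QuotientGroup.mk_inv, ← QuotientGroup.mk_mul, ← QuotientGroup.mk_mul,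
    T1_mk, T1_mk, tr8_conj]

theorem T1_one : T1 (1 : Spor.Co1) = 192 := by
  have h1 := T1_mk 1
  rw [Cfsg.Agent.SigZeroCo2.Lin.tr8_one] at h1
  exact h1

/-- the elements in `Co1` -/
noncomputable def x (i : ℕ) : Spor.Co1 := ((el i : Co0) : Spor.Co1)

theorem T1_x1 : T1 (x 1) = 48 := by
  have h1 := word_tr [1]
  simp only [List.map_cons, List.map_nil, List.prod_cons, List.prod_nil, mul_one] at h1
  rw [x, T1_mk, h1, k_tr.1.1]; rfl

theorem T1_x2 : T1 (x 2) = 8 := by
  have h1 := word_tr [2]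
  simp only [List.map_cons, List.map_nil, List.prod_cons, List.prod_nil, mul_one] at h1
  rw [x, T1_mk, h1, k_tr.1.2]; rfl

theorem T1_x3 : T1 (x 3) = 32 := by
  have h1 := word_tr [3]
  simp only [List.map_cons, List.map_nil, List.prod_cons, List.prod_nil, mul_one] at h1
  rw [x, T1_mk, h1, k_tr.2.2]; rfl

theorem T1_x12 : T1 (x 1 * x 2) = 32 := by
  have h1 := word_tr [1, 2]
  simp only [List.map_cons, List.map_nil, List.prod_cons, List.prod_nil, mul_one] at h1
  rw [x, x, ← QuotientGroup.mk_mul, T1_mk, h1, k_tr.2.1]; rfl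

theorem ne_one {y : Spor.Co1} (h : T1 y ≠ 192) : y ≠ 1 := by
  rintro rfl
  exact h T1_one

theorem xcomm {i j : ℕ} (h : eqB M [i, j] [j, i] = true) : x i * x j = x j * x i := by
  rw [x, x, ← QuotientGroup.mk_mul, comm h, QuotientGroup.mk_mul]

theorem xpow {i : ℕ} (h : eqB M [i, i, i, i, i] [] = true) : x i ^ 5 = 1 := by
  rw [x, ← QuotientGroup.mk_pow, pow5 h, QuotientGroup.mk_one]

theorem krow_co1 : KRow.{u, 0} 5 Spor.Co1 := by
  classical
  have h5 : Fact (Nat.Prime 5) := ⟨by norm_num⟩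
  have : Finite Spor.Co1 := Nat.finite_of_card_ne_zero (by
    rw [Cfsg.Agent.MonsterU.CoFrameF.card_Co1]; norm_num)
  have n3 : x 3 ≠ 1 := ne_one (by rw [T1_x3]; norm_num)
  have i3 : x 4 * x 3 * (x 4)⁻¹ = (x 3)⁻¹ := by
    rw [x, x, ← QuotientGroup.mk_inv, ← QuotientGroup.mk_mul, ← QuotientGroup.mk_mul, inv34, QuotientGroup.mk_inv]
  have hw : ∀ y : Spor.Co1, x 3 * y = y * x 3 → x 4 * y = y * x 4 → wt 5 y = 2 := fun y h1 h2 =>
    wt_eq_two_of_inv (by norm_num) (by norm_num) (k := 1) h1 h2 (by rw [pow_one]; exact xpow k3) n3 i3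
  have c31 := (xcomm k13).symm
  have c32 := (xcomm k23).symm
  have c41 := (xcomm k14).symm
  have c42 := (xcomm k24).symm
  have w1 : wt 5 (x 1) = 2 := hw _ c31 c41
  have w2 : wt 5 (x 2) = 2 := hw _ c32 c42
  have w12 : wt 5 (x 1 * x 2) = 2 := hw _ (by rw [← mul_assoc, c31, mul_assoc, c32, mul_assoc])
    (by rw [← mul_assoc, c41, mul_assoc, c42, mul_assoc])
  have hX : ¬ HasNormalPComplement 5 Spor.Co1 :=
    not_compl_of_inv (by norm_num) (by norm_num) (k := 1) (y := x 3) (n := x 4) (by rw [pow_one]; exact xpow k3) n3 i3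
  have hel : ∀ y : Spor.Co1, y ^ 5 = 1 → y ≠ 1 → El 5 y := fun y h1 h2 =>
    ⟨⟨1, by rw [pow_one]; exact orderOf_eq_prime h1 h2⟩, h2⟩
  have p12 : (x 1 * x 2) ^ 5 = 1 := by
    have h1 : Commute (x 1) (x 2) := xcomm k12
    rw [h1.mul_pow, xpow k1, xpow k2, mul_one]
  have e12 : x 1 ≠ x 2 := fun h => by have := T1_x1; rw [h, T1_x2] at this; norm_num at this
  have e1' : x 1 ≠ x 1 * x 2 := fun h => by have := T1_x1; rw [h, T1_x12] at this; norm_num at this
  have e2' : x 2 ≠ x 1 * x 2 := fun h => by have := T1_x2; rw [h, T1_x12] at this; norm_num at this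
  refine KRow.of_wt hX {x 1, x 2, x 1 * x 2} ?_ ?_ ?_
  · intro y hy
    simp only [Finset.mem_insert, Finset.mem_singleton] at hy
    rcases hy with rfl | rfl | rfl
    · exact hel _ (xpow k1) (ne_one (by rw [T1_x1]; norm_num))
    · exact hel _ (xpow k2) (ne_one (by rw [T1_x2]; norm_num))
    · exact hel _ p12 (ne_one (by rw [T1_x12]; norm_num))
  · intro y hy z hz σ h
    have h1 : T1 y = T1 z := by rw [← h, T1_aut]
    simp only [Finset.mem_insert, Finset.mem_singleton] at hy hz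
    rcases hy with rfl | rfl | rfl <;> rcases hz with rfl | rfl | rfl
    · rfl
    · rw [T1_x1, T1_x2] at h1; norm_num at h1
    · rw [T1_x1, T1_x12] at h1; norm_num at h1
    · rw [T1_x1, T1_x2] at h1; norm_num at h1
    · rfl
    · rw [T1_x2, T1_x12] at h1; norm_num at h1
    · rw [T1_x1, T1_x12] at h1; norm_num at h1
    · rw [T1_x2, T1_x12] at h1; norm_num at h1
    · rfl
  · rw [Finset.sum_insert (by simp [e12, e1']), Finset.sum_insert (by simp [e2']), Finset.sum_singleton, w1, w2, w12]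
    norm_num

/-- **The row `Co1`, `p = 5`.** -/
theorem row_co1 {X : Type v} [Group X] (h : Spor.IsoCo1 X) : KRow.{u, v} 5 X := by
  obtain ⟨e⟩ := h
  exact KRow.congr e.symm krow_co1

end Cfsg.Agent.H600.CoFive.Row
end

-- part: H121/K6/McL
section
/-!
# S4876, `p = 5`: the row of the McLaughlin group (helper121)

`c` central in the Sylow subgroup `⟨a, b⟩`: weight 4 (`⟨a, b⟩` is normal in `C(c)`, `s` of order 6); `a`: weight 1.
-/

set_option autoImplicit false
set_option maxRecDepth 100000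

open Cfsg Subgroup

namespace Cfsg.Agent.H121.K6.McL

open Cfsg.Agent.H61.K6 Cfsg.Agent.H80.K6 Cfsg.Agent.H686.Odd.McL Cfsg.Agent.H58.McLOdd Cfsg.Agent.McLType.Model
open Cfsg.Agent.McLType.X275
open scoped commutatorElement

universe u v

theorem closure_le_c : (_root_.Subgroup.closure {a, b} : Subgroup G1) ≤ centralizer ({c} : Set G1) := by
  rw [closure_le]
  rintro x (rfl | rfl)
  · exact mem_centralizer_singleton_iff.2 ca.symm
  · exact mem_centralizer_singleton_iff.2 cb.symm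

theorem s_mem : s ∈ centralizer ({c} : Set G1) := mem_centralizer_singleton_iff.2 sc

theorem order_s : orderOf s = 6 := by
  have h1 := orderOf_dvd_of_pow_eq_one s_pow
  have h2 : ¬ orderOf s ∣ 2 := fun h => s2_ne (orderOf_dvd_iff_pow_eq_one.1 h)
  have h3 : ¬ orderOf s ∣ 3 := fun h => s3_ne (orderOf_dvd_iff_pow_eq_one.1 h)
  have h4 : orderOf s ≤ 6 := Nat.le_of_dvd (by norm_num) h1
  generalize orderOf s = k at *
  interval_cases k <;> first | rfl | (exfalso; revert h1 h2 h3; decide)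

theorem card_c : Nat.card (centralizer ({c} : Set G1)) = 750 ∨ Nat.card (centralizer ({c} : Set G1)) = 1500 := by
  have h1 : 125 ∣ Nat.card (centralizer ({c} : Set G1)) := by
    rw [← card_ab]; exact Subgroup.card_dvd_of_le closure_le_c
  have h2 : 6 ∣ Nat.card (centralizer ({c} : Set G1)) := by
    have h3 := _root_.orderOf_dvd_natCard (⟨s, s_mem⟩ : centralizer ({c} : Set G1))
    rwa [Subgroup.orderOf_mk, order_s] at h3
  have h3 : 125 * 6 ∣ Nat.card (centralizer ({c} : Set G1)) :=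
    (by norm_num : Nat.Coprime 125 6).mul_dvd_of_dvd_of_dvd h1 h2
  have h4 := card_c_le
  have h5 : 0 < Nat.card (centralizer ({c} : Set G1)) := Nat.card_pos
  obtain ⟨k, hk⟩ := h3
  (clear * - h4 h5 hk; omega)

theorem cS : (chk (cj s6 x5) (pw x5 2 ++ (y5 ++ cm x5 y5)) && chk (cj s6 y5) (pw x5 2 ++ pw y5 4)) = true := by
  rewrite [_root_.Cfsg.Agent.H58.McLOdd.chk_base5]; decide +kernel

/-- the powers of `s` act nontrivially -/
noncomputable def dp (k : ℕ) : Bool := (List.range 275).any fun i => !(Nat.beq (app (x5 ++ pw s6 k) i) (app (pw s6 k ++ x5) i))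

theorem cK : (dp 1 && dp 2 && dp 3 && dp 4 && dp 5) = true := by decide +kernel

theorem cN : chk (cj (n8 ++ n8) (cm x5 y5)) (pw (cm x5 y5) 4) = true := by rewrite [_root_.Cfsg.Agent.H58.McLOdd.chk_base5]; decide +kernel

theorem ne_of_dp {k : ℕ} (h : dp k = true) : a * s ^ k ≠ s ^ k * a := by
  obtain ⟨i, hi, h1⟩ := List.any_eq_true.1 h
  rw [a, s, ← wd_pw, ← wd_app, ← wd_app]
  exact ne_of_pt (List.mem_range.1 hi) (by simpa using h1)

theorem sa : s * a * s⁻¹ = a ^ 2 * (b * c) := by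
  have h := cS
  simp only [Bool.and_eq_true] at h
  have h1 := eq_of_chk h.1
  rw [wd_cj, wd_app, wd_app, wd_pw, ← c_eq] at h1
  exact h1

theorem sb : s * b * s⁻¹ = a ^ 2 * b ^ 4 := by
  have h := cS
  simp only [Bool.and_eq_true] at h
  have h1 := eq_of_chk h.2
  rw [wd_cj, wd_app, wd_pw, wd_pw] at h1
  exact h1

/-- the Sylow subgroup -/
noncomputable abbrev P : Subgroup G1 := _root_.Subgroup.closure {a, b}

theorem aP : a ∈ P := _root_.Subgroup.subset_closure (Or.inl rfl)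
theorem bP : b ∈ P := _root_.Subgroup.subset_closure (Or.inr rfl)
theorem cP : c ∈ P := by
  rw [c, commutatorElement_def]
  exact P.mul_mem (P.mul_mem (P.mul_mem aP bP) (P.inv_mem aP)) (P.inv_mem bP)

theorem s_norm : s ∈ normalizer (P : Set G1) := by
  refine mem_normalizer_closure ?_
  rintro x (rfl | rfl)
  · rw [sa]
    exact P.mul_mem (P.pow_mem aP 2) (P.mul_mem bP cP)
  · rw [sb]
    exact P.mul_mem (P.pow_mem aP 2) (P.pow_mem bP 4)

theorem not_dvd : ¬ 5 ^ (3 + 1) ∣ Nat.card (centralizer ({c} : Set G1)) := by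
  rcases card_c with h | h <;> rw [h] <;> norm_num

theorem idx : ¬ 5 ∣ (P.subgroupOf (centralizer ({c} : Set G1))).index := by
  have : Fact (Nat.Prime 5) := ⟨Nat.prime_five⟩
  exact index_not_dvd (n := 3) closure_le_c (by rw [card_ab]; norm_num) not_dvd

theorem P_normal : (P.subgroupOf (centralizer ({c} : Set G1))).Normal := by
  have : Fact (Nat.Prime 5) := ⟨Nat.prime_five⟩
  refine normal_of_card (m := 750) (k := 2) closure_le_c isPGroup idx (by norm_num) ?_ ?_ ?_
  · have h1 : 125 ∣ Nat.card ↥(normalizer (P : Set G1) ⊓ centralizer ({c} : Set G1)) := by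
      rw [← card_ab]
      exact Subgroup.card_dvd_of_le (le_inf Subgroup.le_normalizer closure_le_c)
    have h2 : 6 ∣ Nat.card ↥(normalizer (P : Set G1) ⊓ centralizer ({c} : Set G1)) :=
      dvd_of_mem ⟨s_norm, s_mem⟩ order_s
    exact (by norm_num : Nat.Coprime 125 6).mul_dvd_of_dvd_of_dvd h1 h2
  · rcases card_c with h | h <;> rw [h] <;> norm_num
  · intro d hd h5
    have := Nat.le_of_dvd (by norm_num) hd
    interval_cases d <;> simp_all

theorem eps_c : EpsGe.{u, 0} 5 c 4 := by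
  have : Fact (Nat.Prime 5) := ⟨Nat.prime_five⟩
  have hk := cK
  simp only [Bool.and_eq_true] at hk
  obtain ⟨⟨⟨⟨k1, k2⟩, k3⟩, k4⟩, k5⟩ := hk
  have hcomm : ∀ j : ℕ, s ^ j * c = c * s ^ j := fun j => ((show Commute s c from sc).pow_left j).eq
  refine epsGe_normal (O := {1, 2, 3, 6}) P closure_le_c isPGroup idx P_normal ?_
  intro m hm
  simp only [Finset.mem_insert, Finset.mem_singleton] at hm
  rcases hm with rfl | rfl | rfl | rfl
  · exact ⟨by norm_num, 1, by simp, by simp, fun k h0 h1 => absurd h1 (by omega)⟩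
  · refine ⟨by norm_num, s ^ 3, hcomm 3, by rw [← pow_mul]; exact s_pow, fun k h0 h1 => ⟨a, aP, ?_⟩⟩
    rw [← pow_mul]
    have : k = 1 := by omega
    subst this
    exact ne_of_dp k3
  · refine ⟨by norm_num, s ^ 2, hcomm 2, by rw [← pow_mul]; exact s_pow, fun k h0 h1 => ⟨a, aP, ?_⟩⟩
    rw [← pow_mul]
    interval_cases k
    · exact ne_of_dp k2
    · exact ne_of_dp k4
  · refine ⟨by norm_num, s, by simpa only [_root_.pow_one] using hcomm 1, s_pow, fun k h0 h1 => ⟨a, aP, ?_⟩⟩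
    interval_cases k
    · exact ne_of_dp k1
    · exact ne_of_dp k2
    · exact ne_of_dp k3
    · exact ne_of_dp k4
    · exact ne_of_dp k5

theorem a_ne : a ≠ 1 := by
  intro h
  apply c_ne
  rw [c, h, commutatorElement_def]
  simp

theorem order_a : orderOf a = 5 := by
  have : Fact (Nat.Prime 5) := ⟨Nat.prime_five⟩
  exact orderOf_eq_prime a_pow a_ne

theorem card_a : Nat.card (centralizer ({a} : Set G1)) ≤ 50 := by
  obtain ⟨i, hi⟩ := exists_fix (i := 1) (j := 0) (by norm_num) (by norm_num) (by simp)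
  rw [pow_one, pow_zero, mul_one] at hi
  exact type_b order_a hi

theorem a_ne_c : a ≠ c := by
  intro h
  have h1 := card_a
  rw [h] at h1
  rcases card_c with h2 | h2 <;> omega

theorem row_G1 : KRow.{u, 0} 5 G1 := by
  classical
  have : Fact (Nat.Prime 5) := ⟨Nat.prime_five⟩
  have hX : ¬ HasNormalPComplement 5 G1 := by
    refine not_compl_of_inv Nat.prime_five (by norm_num) (k := 1) (y := c) (n := wd (n8 ++ n8))
      (by rw [pow_one]; exact c_pow) c_ne ?_
    have h1 := eq_of_chk cN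
    rw [wd_cj, wd_pw, ← c_eq] at h1
    rw [h1, eq_inv_iff_mul_eq_one, ← pow_succ]
    exact c_pow
  refine KRow.of_weights hX {a, c} ?_ ?_ (fun x => if x = c then 4 else 1) ?_ ?_
  · intro x hx
    simp only [Finset.mem_insert, Finset.mem_singleton] at hx
    rcases hx with rfl | rfl
    · exact ⟨⟨1, by rw [order_a, pow_one]⟩, a_ne⟩
    · exact ⟨⟨1, by rw [order_c, pow_one]⟩, c_ne⟩
  · intro x hx y hy σ hσ
    simp only [Finset.mem_insert, Finset.mem_singleton] at hx hy
    have h1 := card_a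
    have h2 := card_centralizer_aut σ x
    rw [hσ] at h2
    rcases hx with rfl | rfl <;> rcases hy with rfl | rfl
    · rfl
    · exfalso
      rcases card_c with h3 | h3 <;> omega
    · exfalso
      rcases card_c with h3 | h3 <;> omega
    · rfl
  · intro x hx
    simp only [Finset.mem_insert, Finset.mem_singleton] at hx
    rcases hx with rfl | rfl
    · rw [if_neg a_ne_c]
      exact (epsGe_one a).wtGe
    · rw [if_pos rfl]
      exact eps_c.wtGe
  · rw [Finset.sum_pair a_ne_c, if_neg a_ne_c, if_pos rfl]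

/-- **The row of `McL`.** -/
theorem row_mcl {X : Type v} [Group X] (h : Cfsg.Spor.IsoMcL X) : KRow.{u, v} 5 X := by
  obtain ⟨e⟩ := h
  obtain ⟨f⟩ := isoMcL_G1
  exact KRow.congr (f.trans e.symm) row_G1

end Cfsg.Agent.H121.K6.McL
end

-- part: H404/K6/RankTwo
section
/-!
S4876, helper404: `l(B₀) = 2`: the members of `B₀` are `a + b χ` on the `p`-regular elements; values at elements of
prime order `q` with self-centralizing Sylow `q`-subgroup (`e = q - 1`, and exceptional characters are not constant).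
-/

set_option autoImplicit false
set_option linter.unusedSectionVars false

namespace Cfsg.Agent.H404.K6.RankTwo

open Subgroup Cfsg Cfsg.Agent.SmallSimple.DegreeData Cfsg.Agent.Characters.Core
open scoped ComplexConjugate

universe u

/-- **Rank two.** -/
theorem exists_comb {G : Type u} [Group G] [Finite G] {p : ℕ} {B : Set (IrrCharacter G)}
    (hr : blockRank p B ≤ 2) {one χ : IrrCharacter G} (h1 : one ∈ B) (ho : ∀ g, (one : G → ℂ) g = 1) (hχ : χ ∈ B)
    {g0 : G} (hg0 : IsPRegular p g0) (hg1 : IsPRegular p (1 : G)) (hne : (χ : G → ℂ) g0 ≠ (χ : G → ℂ) 1)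
    {ψ : IrrCharacter G} (hψ : ψ ∈ B) :
    ∃ a b : ℂ, ∀ g, IsPRegular p g → (ψ : G → ℂ) g = a + b * (χ : G → ℂ) g := by
  classical
  have hfin : Finite (IrrCharacter G) := finite_irr
  obtain ⟨V, hV⟩ : ∃ V : Submodule ℂ (G → ℂ), V = Submodule.span ℂ
    ((fun χ : IrrCharacter G => pRegularPart p (χ : G → ℂ)) '' B) := ⟨_, rfl⟩
  have hVf : Module.Finite ℂ V := by
    rw [hV]
    exact FiniteDimensional.span_of_finite ℂ (Set.toFinite _)
  have hr' : Module.finrank ℂ V ≤ 2 := by rw [hV]; exact hr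
  have hmem : ∀ φ ∈ B, pRegularPart p (φ : G → ℂ) ∈ V := fun φ hφ => by
    rw [hV]
    exact Submodule.subset_span ⟨φ, hφ, rfl⟩
  have hval : ∀ (f : G → ℂ) (g : G), IsPRegular p g → pRegularPart p f g = f g := fun f g hg => by
    unfold pRegularPart
    rw [if_pos hg]
  have hli : LinearIndependent ℂ ![pRegularPart p (one : G → ℂ), pRegularPart p (χ : G → ℂ)] := by
    rw [LinearIndependent.pair_iff]
    intro s t hst
    have e1 := congrFun hst 1
    have e2 := congrFun hst g0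
    simp only [Pi.add_apply, Pi.smul_apply, smul_eq_mul, Pi.zero_apply, hval _ _ hg0, hval _ _ hg1, ho] at e1 e2
    have ht : t = 0 := by
      have h3 : t * ((χ : G → ℂ) g0 - (χ : G → ℂ) 1) = 0 := by linear_combination e2 - e1
      rcases mul_eq_zero.1 h3 with h | h
      · exact h
      · exact absurd (sub_eq_zero.1 h) hne
    refine ⟨?_, ht⟩
    rw [ht] at e1
    linear_combination e1
  have hle : Submodule.span ℂ (Set.range ![pRegularPart p (one : G → ℂ), pRegularPart p (χ : G → ℂ)]) ≤ V := by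
    rw [Submodule.span_le]
    rintro _ ⟨i, rfl⟩
    fin_cases i
    · exact hmem one h1
    · exact hmem χ hχ
  have heq := Submodule.eq_of_le_of_finrank_le hle (by
    rw [finrank_span_eq_card hli]
    simpa using hr')
  have h2 := hmem ψ hψ
  rw [← heq] at h2
  rw [Matrix.range_cons, Matrix.range_cons, Matrix.range_empty, Set.union_empty, Set.singleton_union,
    Submodule.mem_span_pair] at h2
  obtain ⟨a, b, hab⟩ := h2
  refine ⟨a, b, fun g hg => ?_⟩
  have h3 := congrFun hab g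
  simp only [Pi.add_apply, Pi.smul_apply, smul_eq_mul, hval _ _ hg, ho] at h3
  rw [← h3]
  ring

variable {G : Type u} [Group G] [Finite G] {q : ℕ} [hq : Fact q.Prime] {M : Ideal AlgInt} {P : Sylow q G} {e t : ℕ}

/-- An exceptional character is not constant on `P \ 1` if `t ≥ 2`. -/
theorem not_const (D : BlockData q M P e t) (hP : Nat.card P = q) (ht : e * t = q - 1) (ht2 : 2 ≤ t)
    {Θ : IrrCharacter G} (hΘ : Θ ∈ D.X) (c : ℂ) : ¬ ∀ x : P, x ≠ 1 → (Θ : G → ℂ) x = c := by
  classical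
  intro hc
  have := Fintype.ofFinite P
  have hcE : ((Finset.univ.erase (1 : P)).card : ℂ) = q - 1 := by
    rw [Finset.card_erase_of_mem (Finset.mem_univ _), Finset.card_univ, ← Nat.card_eq_fintype_card,
      show Nat.card (↥P) = q from hP, Nat.cast_sub hq.out.one_lt.le, Nat.cast_one]
  have e1 := Sieve.sum_X D hΘ
  have e3 := Sieve.sum_sq_X D hP hΘ
  rw [Finset.sum_congr rfl fun x hx => hc x (Finset.ne_of_mem_erase hx), Finset.sum_const, nsmul_eq_mul, hcE] at e1
  rw [Finset.sum_congr rfl fun x hx => by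
    rw [hc x (Finset.ne_of_mem_erase hx), hc x⁻¹ (inv_ne_one.2 (Finset.ne_of_mem_erase hx))], Finset.sum_const,
    nsmul_eq_mul, hcE] at e3
  have hdd : (D.d : ℂ) * D.d = 1 := by
    rcases D.d_mem with h | h <;> rw [h] <;> simp
  have h1 : ((e : ℂ)) * e = (q - 1) * (e * (q - e)) := by
    linear_combination (q - 1 : ℂ) * e3 - ((q - 1) * c - D.d * e) * e1 - ((e : ℂ) * e) * hdd
  have hq1 := hq.out.one_lt
  have he1 : 1 ≤ e := by
    rcases Nat.eq_zero_or_pos e with h | h
    · rw [h] at ht; omega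
    · exact h
  have heq : e < q := by
    by_contra h
    have h2 : q * 1 ≤ e * t := Nat.mul_le_mul (by omega) (by omega)
    omega
  have h2 : e * e = (q - 1) * (e * (q - e)) := by
    have h3 : ((e * e : ℕ) : ℂ) = (((q - 1) * (e * (q - e)) : ℕ) : ℂ) := by
      push_cast [Nat.cast_sub hq1.le, Nat.cast_sub heq.le]
      exact h1
    exact_mod_cast h3
  have h3 : e * e = e * ((q - 1) * (q - e)) := by rw [h2]; ring
  have h4 : e = (q - 1) * (q - e) := Nat.eq_of_mul_eq_mul_left he1 h3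
  have h5 : e * 2 ≤ q - 1 := by rw [← ht]; exact Nat.mul_le_mul_left _ ht2
  have h6 : (q - 1) * 1 ≤ (q - 1) * (q - e) := Nat.mul_le_mul_left _ (by omega)
  omega

/-- If `e = q - 1` the exceptional character is constant. -/
theorem const_one (D : BlockData q M P e t) (hP : Nat.card P = q) (he : e + 1 = q)
    {Θ : IrrCharacter G} (hΘ : Θ ∈ D.X) : ∀ x ∈ P, x ≠ 1 → (Θ : G → ℂ) x = -D.d := by
  classical
  have := Fintype.ofFinite P
  have hcE : ((Finset.univ.erase (1 : P)).card : ℂ) = e := by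
    rw [Finset.card_erase_of_mem (Finset.mem_univ _), Finset.card_univ, ← Nat.card_eq_fintype_card,
      show Nat.card (↥P) = q from hP, ← he]
    simp
  have e1 := Sieve.sum_X D hΘ
  have e2 := Sieve.sum_X_inv D hΘ
  have e3 := Sieve.sum_sq_X D hP hΘ
  have hdd : (D.d : ℂ) * D.d = 1 := by
    rcases D.d_mem with h | h <;> rw [h] <;> simp
  have hinv : ∀ x : P, (Θ : G → ℂ) ((x⁻¹ : P) : G) = conj ((Θ : G → ℂ) x) := fun x => by
    rw [show ((x⁻¹ : P) : G) = (x : G)⁻¹ from rfl]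
    exact isCharacter_apply_inv (isIrr_isCharacter Θ.2) _
  have hsum : ∑ x ∈ Finset.univ.erase (1 : P), (((Θ : G → ℂ) x + D.d) * ((Θ : G → ℂ) ((x⁻¹ : P) : G) + D.d)) = 0 := by
    have h1 : ∀ x : P, ((Θ : G → ℂ) x + D.d) * ((Θ : G → ℂ) ((x⁻¹ : P) : G) + D.d) =
        (Θ : G → ℂ) x * (Θ : G → ℂ) ((x⁻¹ : P) : G) + (D.d * (Θ : G → ℂ) x + D.d * (Θ : G → ℂ) ((x⁻¹ : P) : G)) +
          D.d * D.d := fun x => by ring
    rw [Finset.sum_congr rfl fun x _ => h1 x, Finset.sum_add_distrib, Finset.sum_add_distrib,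
      Finset.sum_add_distrib, ← Finset.mul_sum, ← Finset.mul_sum, e1, e2, e3, Finset.sum_const, nsmul_eq_mul, hcE]
    have hqe : (q : ℂ) = e + 1 := by
      rw [← he]
      push_cast
      ring
    rw [hqe]
    linear_combination (-(e : ℂ)) * hdd
  have hns : ∑ x ∈ Finset.univ.erase (1 : P), Complex.normSq ((Θ : G → ℂ) x + D.d) = 0 := by
    have h1 : ((∑ x ∈ Finset.univ.erase (1 : P), Complex.normSq ((Θ : G → ℂ) x + D.d) : ℝ) : ℂ) = 0 := by
      rw [← hsum]
      push_cast
      refine Finset.sum_congr rfl fun x _ => ?_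
      rw [← Complex.mul_conj, map_add, isCharacter_apply_inv (isIrr_isCharacter Θ.2), map_intCast]
    exact_mod_cast h1
  intro x hx hx1
  have h1 := (Finset.sum_eq_zero_iff_of_nonneg (fun x _ => Complex.normSq_nonneg _)).1 hns ⟨x, hx⟩
    (Finset.mem_erase.2 ⟨fun h => hx1 (congrArg Subtype.val h), Finset.mem_univ _⟩)
  have h2 := Complex.normSq_eq_zero.1 h1
  linear_combination h2

/-- **Values when `e = q - 1`.** -/
theorem type_one (D : BlockData q M P e t) (hM : IsPModular q M) (hP : Nat.card P = q)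
    (hC : centralizer ((P : Subgroup G) : Set G) = (P : Subgroup G)) (he : e + 1 = q) (χ : IrrCharacter G) :
    ∃ ε : ℤ, (ε = 0 ∨ ε = 1 ∨ ε = -1) ∧ (charDegree (χ : G → ℂ) : ℤ) ≡ ε [ZMOD q] ∧
      ∀ x ∈ P, x ≠ 1 → (χ : G → ℂ) x = ε := by
  by_cases hX : χ ∈ D.X
  · refine ⟨-D.d, ?_, ?_, fun x hx hx1 => ?_⟩
    · rcases D.d_mem with h | h <;> rw [h] <;> simp
    · refine (Sieve.modEq_X D hP hX).trans ?_
      refine (Int.modEq_iff_dvd.2 ⟨-D.d, ?_⟩)
      have h1 : (q : ℤ) = e + 1 := by rw [← he]; push_cast; ring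
      rw [h1]
      ring
    · rw [const_one D hP he hX x hx hx1]
      push_cast
      ring
  · exact Sieve.type D hM hP hC hX

end Cfsg.Agent.H404.K6.RankTwo
end

-- part: H404/K6/RowON
section
/-!
S4876, helper404: **the row of the O'Nan group, `p = 3`**.

`k(B₀) ≥ l(B₀) + 4` (one class of elements of order 3, centralizer `3² × A₆`). If `k(B₀) = 6` then `l(B₀) = 2` and the
members of `B₀` are `a + b χ` on the 3-regular elements, `χ(1) = 175616`; the values at elements of orders 11 and 19 show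
that all degrees are 1 or 175616, but then the sum of the squares is `6 mod 9`.
-/

set_option autoImplicit false

namespace Cfsg.Agent.H404.K6

open Subgroup Cfsg Cfsg.Agent.H61.K6 Cfsg.Agent.H703.Lat Cfsg.Agent.Characters.Core
  Cfsg.Agent.SmallSimple.DegreeData

universe u v

/-- six characters with squares of degrees `≡ 1` modulo `m`, `m ∤ 6`. -/
theorem false_of_six {G : Type u} [Group G] [Finite G] {p : ℕ} {M : Ideal AlgInt} (hM : IsPModular p M) {a : ℕ}
    (ha : p ^ a ∣ Nat.card G) {m : ℤ} (hm : m ∣ ((p ^ a : ℕ) : ℤ)) (h6 : Nat.card (principalBlock M G) = 6)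
    (hm6 : ¬ m ∣ 6)
    (h : ∀ ψ : IrrCharacter G, ψ ∈ principalBlock M G → m ∣ (charDegree (ψ : G → ℂ) : ℤ) ^ 2 - 1) : False := by
  apply hm6
  have h1 := hm.trans (dvd_sum_sq hM (good_principal (G := G) hM) (a := a) ha)
  have h2 : m ∣ ∑ χ ∈ B0 M G, ((charDegree (χ : G → ℂ) : ℤ) ^ 2 - 1) :=
    Finset.dvd_sum fun χ hχ => h χ (mem_B0.1 hχ)
  rw [Finset.sum_sub_distrib, Finset.sum_const, ← Sieve.card_B0, h6] at h2
  have h3 := dvd_sub h1 h2
  have h4 : ∀ s : ℤ, s - (s - 6 • (1 : ℤ)) = 6 := fun s => by simp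
  rw [h4] at h3
  exact h3

namespace ON

open Cfsg.Spor (ON)
open Cfsg.Agent.R04.ClosingE (ThreeData)
open Cfsg.Agent.KFacts.ON.Cent (finite_ON)
open Cfsg.Agent.H999.ONIMThree (card_ON)

theorem arith {N : ℕ} {s r : ℤ} (hs : s = 0 ∨ s = 1 ∨ s = -1) (hr : r = 0 ∨ r = 1 ∨ r = -1) (hN : 0 < N)
    (h : 2 * (N : ℤ) = 175617 * s - 175615 * r) : N = 1 ∨ N = 175616 := by
  rcases hs with rfl | rfl | rfl <;> rcases hr with rfl | rfl | rfl <;> (clear * - hN h; omega)

theorem seven (M : Ideal AlgInt) (hM : IsPModular 3 M) : 7 ≤ Nat.card (principalBlock M ON) := by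
  classical
  have hfin := finite_ON
  have h3 : Fact (Nat.Prime 3) := ⟨Nat.prime_three⟩
  have h11 : Fact (Nat.Prime 11) := ⟨by norm_num⟩
  have h19 : Fact (Nat.Prime 19) := ⟨by norm_num⟩
  obtain ⟨x, P, L, s, T⟩ := H210.On7.exists_threeData
  have hge : blockRank 3 (principalBlock M ON) + 4 ≤ Nat.card (principalBlock M ON) := by
    refine H820.K6.card_ge (p := 3) {x} (fun y hy => ?_) (fun y hy z hz _ => ?_) (fun _ => 4) (fun y hy => ?_) hM
      (m := blockRank 3 (principalBlock M ON)) le_rfl ?_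
    · rw [Finset.mem_singleton.1 hy]; exact el T
    · rw [Finset.mem_singleton.1 hy, Finset.mem_singleton.1 hz]
    · rw [Finset.mem_singleton.1 hy]; exact wx T
    · rw [Finset.sum_singleton]
  by_contra hlt
  have h6 : Nat.card (principalBlock M ON) = 6 := by
    have := six_le_kB hM (by norm_num) (G := ON) (by rw [card_ON]; norm_num)
    omega
  have hr : blockRank 3 (principalBlock M ON) ≤ 2 := by omega
  -- the character
  obtain ⟨χ, hχ⟩ := H210.On7.exists_charDegree
  have mχ : χ ∈ principalBlock M ON := mem_of_degree hM cp χ (by rw [hχ]; norm_num)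
  obtain ⟨one, hone⟩ : ∃ one : IrrCharacter ON, one = ⟨fun _ => 1, isIrr_one⟩ := ⟨_, rfl⟩
  have ho1 : ∀ g, (one : ON → ℂ) g = 1 := fun g => by rw [hone]
  have mo : one ∈ principalBlock M ON := by rw [hone, ← mem_B0]; exact one_mem_B0 hM
  -- the elements
  obtain ⟨z11, hz11⟩ := exists_prime_orderOf_dvd_card' (G := ON) 11 (by rw [card_ON]; norm_num)
  obtain ⟨z19, hz19⟩ := exists_prime_orderOf_dvd_card' (G := ON) 19 (by rw [card_ON]; norm_num)
  obtain ⟨M1, P1, hM1, hP1, hC1, ⟨D1⟩⟩ := Sieve.exists_data (q := 11) (e := 10) (t := 1) (by norm_num) hz11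
    (H474.ONC.card_cent_eleven hz11) (by rw [card_ON]; norm_num) (by norm_num) (by rw [card_ON])
  obtain ⟨M2, P2, hM2, hP2, hC2, ⟨D2⟩⟩ := Sieve.exists_data (q := 19) (e := 6) (t := 3) (by norm_num) hz19
    (H680.ONThirtyOne.card_cent_nineteen hz19) (by rw [card_ON]; norm_num) (by norm_num) (by rw [card_ON])
  have hreg : ∀ {q : ℕ} [Fact q.Prime] (P : Sylow q ON), Nat.card P = q → ¬ 3 ∣ q → ∀ g ∈ P, IsPRegular 3 g := by
    intro q _ P hP hq g hg h
    have h1 : orderOf (⟨g, hg⟩ : (P : Subgroup ON)) ∣ Nat.card (P : Subgroup ON) := _root_.orderOf_dvd_natCard _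
    rw [Subgroup.orderOf_mk, hP] at h1
    exact hq (h.trans h1)
  have hreg1 : IsPRegular 3 (1 : ON) := by
    intro h
    rw [orderOf_one] at h
    norm_num at h
  obtain ⟨y1, hy1⟩ : ∃ y : P1, y ≠ 1 := by
    have : Nontrivial P1 := Finite.one_lt_card_iff_nontrivial.1 (by rw [hP1]; norm_num)
    exact exists_ne 1
  obtain ⟨y2, hy2⟩ : ∃ y : P2, y ≠ 1 := by
    have : Nontrivial P2 := Finite.one_lt_card_iff_nontrivial.1 (by rw [hP2]; norm_num)
    exact exists_ne 1
  have hy1' : (y1 : ON) ≠ 1 := fun h => hy1 (Subtype.ext h)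
  have hy2' : (y2 : ON) ≠ 1 := fun h => hy2 (Subtype.ext h)
  have e1 : (χ : ON → ℂ) y1 = 1 := by
    obtain ⟨ε, h1, h2, h3⟩ := RankTwo.type_one D1 hM1 hP1 hC1 (by norm_num) χ
    rw [hχ] at h2
    have h4 := Int.ModEq.dvd h2
    have h5 : ε = 1 := by
      rcases h1 with rfl | rfl | rfl
      · push_cast at h4
      · rfl
      · push_cast at h4
    rw [h3 y1 y1.2 hy1', h5]
    simp
  have e2 : ∀ y ∈ P2, y ≠ 1 → (χ : ON → ℂ) y = -1 := by
    have hX : χ ∉ D2.X := by
      intro hX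
      have h1 := Int.ModEq.dvd (Sieve.modEq_X D2 hP2 hX)
      rw [hχ] at h1
      rcases D2.d_mem with h3 | h3 <;> rw [h3] at h1 <;> push_cast at h1
    obtain ⟨ε, h1, h2, h3⟩ := Sieve.type D2 hM2 hP2 hC2 hX
    rw [hχ] at h2
    have h4 := Int.ModEq.dvd h2
    have h5 : ε = -1 := by
      rcases h1 with rfl | rfl | rfl
      · push_cast at h4
      · push_cast at h4
      · rfl
    intro y hy hy0
    rw [h3 y hy hy0, h5]
    simp
  have eχ1 : (χ : ON → ℂ) 1 = 175616 := by
    rw [Blocks.Basic.irr_one_eq_charDegree χ.2, hχ]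
    norm_num
  refine false_of_six hM (a := 4) (by rw [card_ON]; norm_num) (m := 9) (by norm_num) h6 (by norm_num) fun ψ hψ => ?_
  obtain ⟨a, b, hab⟩ := RankTwo.exists_comb hr mo ho1 mχ (g0 := (y2 : ON)) (hreg P2 hP2 (by norm_num) _ y2.2) hreg1
    (by rw [e2 _ y2.2 hy2', eχ1]; norm_num) hψ
  have hc : ∀ y : P2, y ≠ 1 → (ψ : ON → ℂ) y = a - b := fun y hy => by
    rw [hab _ (hreg P2 hP2 (by norm_num) _ y.2), e2 _ y.2 (fun h => hy (Subtype.ext h))]
    ring
  have hX : ψ ∉ D2.X := fun hX => RankTwo.not_const D2 hP2 (by norm_num) (by norm_num) hX _ hc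
  obtain ⟨r, hr1, -, hr2⟩ := Sieve.type D2 hM2 hP2 hC2 hX
  obtain ⟨t, ht1, -, ht2⟩ := RankTwo.type_one D1 hM1 hP1 hC1 (by norm_num) ψ
  have k1 : a + b = t := by
    rw [← ht2 _ y1.2 hy1', hab _ (hreg P1 hP1 (by norm_num) _ y1.2), e1, mul_one]
  have k2 : a - b = r := by rw [← hr2 _ y2.2 hy2', hc _ hy2]
  have k3 : (charDegree (ψ : ON → ℂ) : ℂ) = a + b * 175616 := by
    rw [← Blocks.Basic.irr_one_eq_charDegree ψ.2, hab 1 hreg1, eχ1]
  have k4 : 2 * (charDegree (ψ : ON → ℂ) : ℤ) = 175617 * t - 175615 * r := by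
    have k5 : ((2 * (charDegree (ψ : ON → ℂ) : ℤ) : ℤ) : ℂ) = ((175617 * t - 175615 * r : ℤ) : ℂ) := by
      push_cast
      rw [k3, ← k1, ← k2]
      ring
    exact_mod_cast k5
  have k6 : 0 < charDegree (ψ : ON → ℂ) := Blocks.Basic.charDegree_pos ψ.2
  rcases arith ht1 hr1 k6 k4 with h | h
  · rw [h]; norm_num
  · rw [h]; norm_num

theorem index_le : (MulAut.conj : ON →* MulAut ON).range.index ≤ 2 := by
  have h1 : Nat.card (Cfsg.Out ON) = 2 := S2078.result
  have h2 : (MulAut.conj : ON →* MulAut ON).range.index = Nat.card (Cfsg.Out ON) := rfl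
  rw [h2, h1]

theorem ext_on : H668.K6.ExtK.{u, 0} 3 ON := by
  have hfin := finite_ON
  have h3 : Fact (Nat.Prime 3) := ⟨Nat.prime_three⟩
  have h31 : Fact (Nat.Prime 31) := ⟨by norm_num⟩
  refine ExtK.of_inv (index_le.trans (by norm_num)) fun M hM => ?_
  obtain ⟨χ, hχ⟩ := H210.On7.exists_charDegree
  obtain ⟨z, hz⟩ := exists_prime_orderOf_dvd_card' (G := ON) 31 (by rw [card_ON]; norm_num)
  obtain ⟨M1, P1, hM1, hP1, hC1, ⟨D1⟩⟩ := Sieve.exists_data (q := 31) (e := 15) (t := 2) (by norm_num) hz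
    (H680.ONThirtyOne.card_cent hz) (by rw [card_ON]; norm_num) (by norm_num) (by rw [card_ON])
  refine ⟨χ, mem_of_degree hM cp χ (by rw [hχ]; norm_num), ?_, 1, ?_⟩
  · have hmem : χ ∈ D1.one :: D1.l := by
      have h1 : χ ∈ principalBlock M1 ON := by
        by_contra h
        have h2 := D1.dvd_degree hM1 hP1 hC1 h
        rw [hχ] at h2
        norm_num at h2
      rcases (D1.mem_block χ).1 h1 with h2 | h2
      · exact h2
      · exfalso
        have h3 := Int.ModEq.dvd (Sieve.modEq_X D1 hP1 h2)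
        rw [hχ] at h3
        rcases D1.d_mem with h4 | h4 <;> rw [h4] at h3 <;> push_cast at h3
    exact H635.Spor.inv_of_nonexc (Cfsg.Agent.CpAutON.Seven.center_bot) (by rw [S2078.result]) (by norm_num) hM1 hP1 D1
      hmem
  · rw [Blocks.Basic.irr_one_eq_charDegree χ.2, hχ]
    norm_num

/-- **The O'Nan group, `p = 3`.** -/
theorem row_on {S : Type v} [Group S] (h : Cfsg.Spor.IsoON S) : KRow.{u, v} 3 S := by
  obtain ⟨e⟩ := h
  exact KRow.congr e.symm (H668.K6.KRow.of_ext ext_on seven)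

end ON

end Cfsg.Agent.H404.K6
end

private theorem dce_deaec09ec479 : _root_.True := by
  try have : _root_.True := by simp only [_root_.Cfsg.Agent.H629.K6.CoTwo.e'.eq_1]
  try have : _root_.True := by simp only [_root_.Cfsg.Agent.H600.CoFive.Row.x.eq_1]
  try have : _root_.True := by simp only [_root_.Cfsg.Agent.H629.K6.CoTwo.e'.eq_2]
  try have : _root_.True := by simp only [_root_.Cfsg.Agent.H629.K6.CoTwo.e'.eq_3]
  try have : _root_.True := by simp only [_root_.Cfsg.Agent.H774.SP.Suz.fp.eq_1]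
  exact _root_.True.intro
end
end
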